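import Groth.Agent.Adeq88.Descent

/-!
Vanishing of the first Amitsur cohomology of adequate functors.
-/

set_option autoImplicit false

universe u v

open CategoryTheory Limits Opposite TensorProduct

noncomputable section

namespace Groth.Agent.Adeq88

open Adeq

section Amitsur

variable (R E : Type u) [CommRing R] [CommRing E] [Algebra R E]

/-- The coface omitting the first factor. -/
def cub0 : E ⊗[R] E →ₐ[R] E ⊗[R] (E ⊗[R] E) := Algebra.TensorProduct.includeRight

/-- The coface omitting the second factor. -/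
def cub1 : E ⊗[R] E →ₐ[R] E ⊗[R] (E ⊗[R] E) :=
  Algebra.TensorProduct.map (AlgHom.id R E) Algebra.TensorProduct.includeRight

/-- The coface omitting the third factor. -/
def cub2 : E ⊗[R] E →ₐ[R] E ⊗[R] (E ⊗[R] E) :=
  Algebra.TensorProduct.map (AlgHom.id R E) Algebra.TensorProduct.includeLeft

variable (N : Type v) [AddCommGroup N] [Module R N]

/-- The second differential. -/
def coL2 : (E ⊗[R] E) ⊗[R] N →ₗ[R] (E ⊗[R] (E ⊗[R] E)) ⊗[R] N :=
  ((cub0 R E).toLinearMap - (cub1 R E).toLinearMap + (cub2 R E).toLinearMap).rTensor N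

theorem coL2_tmul (b c : E) (n : N) :
    coL2 R E N ((b ⊗ₜ[R] c) ⊗ₜ[R] n) = ((1 : E) ⊗ₜ[R] (b ⊗ₜ[R] c)) ⊗ₜ[R] n -
      (b ⊗ₜ[R] ((1 : E) ⊗ₜ[R] c)) ⊗ₜ[R] n + (b ⊗ₜ[R] (c ⊗ₜ[R] (1 : E))) ⊗ₜ[R] n := by
  rw [coL2, LinearMap.rTensor_tmul, LinearMap.add_apply, LinearMap.sub_apply, TensorProduct.add_tmul,
    TensorProduct.sub_tmul]
  rfl

theorem coL_tmul (b : E) (n : N) :
    coL R E N (b ⊗ₜ[R] n) = (b ⊗ₜ[R] (1 : E)) ⊗ₜ[R] n - ((1 : E) ⊗ₜ[R] b) ⊗ₜ[R] n := by
  rw [coL, LinearMap.rTensor_tmul, LinearMap.sub_apply, TensorProduct.sub_tmul]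
  rfl

theorem amitsur_exact₂ [Module.FaithfullyFlat R E] : Function.Exact (coL R E N) (coL2 R E N) := by
  refine Module.FaithfullyFlat.lTensor_reflects_exact (N3 := (E ⊗[R] (E ⊗[R] E)) ⊗[R] N) R E
    (coL R E N) (coL2 R E N) fun x => ⟨fun hx => ?_, ?_⟩
  · let μ : E ⊗[R] ((E ⊗[R] E) ⊗[R] N) →ₗ[R] E ⊗[R] (E ⊗[R] N) :=
      (TensorProduct.assoc R E E N).toLinearMap ∘ₗ
        (((LinearMap.mul' R E).rTensor E ∘ₗ (TensorProduct.assoc R E E E).symm.toLinearMap).rTensor N) ∘ₗ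
        (TensorProduct.assoc R E (E ⊗[R] E) N).symm.toLinearMap
    let ν : E ⊗[R] ((E ⊗[R] (E ⊗[R] E)) ⊗[R] N) →ₗ[R] E ⊗[R] ((E ⊗[R] E) ⊗[R] N) :=
      (TensorProduct.assoc R E (E ⊗[R] E) N).toLinearMap ∘ₗ
        (((LinearMap.mul' R E).rTensor (E ⊗[R] E) ∘ₗ
          (TensorProduct.assoc R E E (E ⊗[R] E)).symm.toLinearMap).rTensor N) ∘ₗ
        (TensorProduct.assoc R E (E ⊗[R] (E ⊗[R] E)) N).symm.toLinearMap
    have key : ν ∘ₗ (coL2 R E N).lTensor E = LinearMap.id + (coL R E N).lTensor E ∘ₗ μ := by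
      ext a b c n
      simp only [ν, μ, LinearMap.comp_apply, LinearMap.lTensor_tmul, LinearMap.add_apply, LinearMap.id_apply,
        TensorProduct.AlgebraTensorModule.curry_apply, LinearMap.restrictScalars_self,
        TensorProduct.curry_apply, coL2_tmul]
      have hl : ∀ (u v : (E ⊗[R] (E ⊗[R] E)) ⊗[R] N) (r : E),
          r ⊗ₜ[R] (u - v) = r ⊗ₜ[R] u - r ⊗ₜ[R] v := fun u v r => map_sub (TensorProduct.mk R E _ r) u v
      rw [TensorProduct.tmul_add, hl, map_add, map_sub]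
      simp [coL_tmul]
      have hl' : ∀ (u v : (E ⊗[R] E) ⊗[R] N) (r : E),
          r ⊗ₜ[R] (u - v) = r ⊗ₜ[R] u - r ⊗ₜ[R] v := fun u v r => map_sub (TensorProduct.mk R E _ r) u v
      rw [hl']
      abel
    refine ⟨-μ x, ?_⟩
    have h := LinearMap.congr_fun key x
    rw [LinearMap.comp_apply, hx, map_zero, LinearMap.add_apply, LinearMap.comp_apply,
      LinearMap.id_apply, eq_comm, add_eq_zero_iff_neg_eq] at h
    rw [map_neg]
    exact neg_eq_iff_eq_neg.2 h.symm
  · rintro ⟨y, rfl⟩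
    rw [← LinearMap.lTensor_comp_apply]
    have : coL2 R E N ∘ₗ coL R E N = 0 := by
      ext b n
      simp [coL2_tmul, coL_tmul]
    rw [this, LinearMap.lTensor_zero, LinearMap.zero_apply]

end Amitsur

section H1

variable {A : Type u} [CommRing A] {B E : Alg A} (f : B ⟶ E) [Algebra B E]
  (hf : ∀ b, algebraMap B E b = f.hom b)

/-- The cube of an algebra over another one. -/
def cubAlg (hf : ∀ b, algebraMap B E b = f.hom b) : Alg A :=
  haveI := isScalarTower_of_hom f hf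
  algOf A ((E : Type u) ⊗[B] ((E : Type u) ⊗[B] (E : Type u)))

/-- The first coface to the cube. -/
def cubD0 : sqAlg f hf ⟶ cubAlg f hf :=
  haveI := isScalarTower_of_hom f hf
  CommAlgCat.ofHom ((cub0 (B : Type u) (E : Type u)).restrictScalars A)

/-- The second coface to the cube. -/
def cubD1 : sqAlg f hf ⟶ cubAlg f hf :=
  haveI := isScalarTower_of_hom f hf
  CommAlgCat.ofHom ((cub1 (B : Type u) (E : Type u)).restrictScalars A)

/-- The third coface to the cube. -/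
def cubD2 : sqAlg f hf ⟶ cubAlg f hf :=
  haveI := isScalarTower_of_hom f hf
  CommAlgCat.ofHom ((cub2 (B : Type u) (E : Type u)).restrictScalars A)

theorem sq_comm : f ≫ sqL f hf = f ≫ sqR f hf := CommAlgCat.hom_ext (AlgHom.ext fun b => by
    show (f.hom b) ⊗ₜ[B] (1 : E) = (1 : E) ⊗ₜ[B] (f.hom b)
    rw [← hf, Algebra.TensorProduct.tmul_one_eq_one_tmul])

theorem uM_sq_exact [Module.FaithfullyFlat B E] (M : ModuleCat.{u + 1} A) (c : Val (uM M) (sqAlg f hf))
    (h : res (uM M) (cubD0 f hf) c - res (uM M) (cubD1 f hf) c + res (uM M) (cubD2 f hf) c = 0) :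
    ∃ v : Val (uM M) E, res (uM M) (sqL f hf) v - res (uM M) (sqR f hf) v = c := by
  have := isScalarTower_of_hom f hf
  let : Algebra B (sqAlg f hf) := inferInstanceAs (Algebra B ((E : Type u) ⊗[B] (E : Type u)))
  let : Algebra B (cubAlg f hf) :=
    inferInstanceAs (Algebra B ((E : Type u) ⊗[B] ((E : Type u) ⊗[B] (E : Type u))))
  let g : B ⟶ sqAlg f hf := f ≫ sqL f hf
  have hg : ∀ b, algebraMap B (sqAlg f hf) b = g.hom b := fun b => by
    show algebraMap B ((E : Type u) ⊗[B] (E : Type u)) b = (f.hom b) ⊗ₜ[B] (1 : E)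
    rw [← hf, Algebra.TensorProduct.algebraMap_apply]
  let g' : B ⟶ cubAlg f hf := g ≫ cubD2 f hf
  have hg' : ∀ b, algebraMap B (cubAlg f hf) b = g'.hom b := fun b =>
    ((cub2 (B : Type u) (E : Type u)).commutes b).symm.trans
      (congrArg (cub2 (B : Type u) (E : Type u)) (hg b))
  have hd : ∀ (d : (sqAlg f hf : Type u) →ₗ[(B : Type u)] (cubAlg f hf : Type u))
      (d' : sqAlg f hf ⟶ cubAlg f hf), (∀ x, d'.hom x = d x) → g ≫ d' = g' →
      ∀ z, res (uM M) d' (bcT g hg _ z) = bcT g' hg' (uM M) (d.rTensor _ z) := by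
    intro d d' hdd hgd z
    induction z using TensorProduct.induction_on with
    | zero => simp
    | tmul e x =>
      rw [bcT_tmul, LinearMap.rTensor_tmul, bcT_tmul, res_smul, ← res_comp, hdd, hgd]
    | add x y hx hy => simp only [map_add, hx, hy]
  have hcomm : ∀ (d : (E : Type u) ⊗[B] (E : Type u) →ₐ[(B : Type u)]
        (E : Type u) ⊗[B] ((E : Type u) ⊗[B] (E : Type u)))
      (d' : sqAlg f hf ⟶ cubAlg f hf), (∀ x, d'.hom x = d x) → g ≫ d' = g' := fun d d' hdd =>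
    CommAlgCat.hom_ext (AlgHom.ext fun b => by
      show d'.hom (g.hom b) = g'.hom b
      rw [hdd, ← hg, ← hg']
      exact d.commutes b)
  let iL : (E : Type u) →ₗ[B] (sqAlg f hf : Type u) :=
    (Algebra.TensorProduct.includeLeft (R := (B : Type u)) (S := (B : Type u)) (A := (E : Type u))
      (B := (E : Type u))).toLinearMap
  let iR : (E : Type u) →ₗ[B] (sqAlg f hf : Type u) :=
    (Algebra.TensorProduct.includeRight (R := (B : Type u)) (A := (E : Type u))
      (B := (E : Type u))).toLinearMap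
  have hL : ∀ w, res (uM M) (sqL f hf) (bcT f hf _ w) = bcT g hg (uM M) (iL.rTensor _ w) := by
    intro w
    induction w using TensorProduct.induction_on with
    | zero => simp
    | tmul c x =>
      rw [bcT_tmul, LinearMap.rTensor_tmul, bcT_tmul, res_smul, ← res_comp]
      rfl
    | add x y hx hy => simp only [map_add, hx, hy]
  have hR : ∀ w, res (uM M) (sqR f hf) (bcT f hf _ w) = bcT g hg (uM M) (iR.rTensor _ w) := by
    intro w
    induction w using TensorProduct.induction_on with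
    | zero => simp
    | tmul c x =>
      rw [bcT_tmul, LinearMap.rTensor_tmul, bcT_tmul, res_smul, ← res_comp, ← sq_comm]
      rfl
    | add x y hx hy => simp only [map_add, hx, hy]
  obtain ⟨z, rfl⟩ := (bcT_uM_bijective g hg M).2 c
  let e0 : (sqAlg f hf : Type u) →ₗ[(B : Type u)] (cubAlg f hf : Type u) :=
    (cub0 (B : Type u) (E : Type u)).toLinearMap
  let e1 : (sqAlg f hf : Type u) →ₗ[(B : Type u)] (cubAlg f hf : Type u) :=
    (cub1 (B : Type u) (E : Type u)).toLinearMap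
  let e2 : (sqAlg f hf : Type u) →ₗ[(B : Type u)] (cubAlg f hf : Type u) :=
    (cub2 (B : Type u) (E : Type u)).toLinearMap
  rw [hd e0 (cubD0 f hf) (fun _ => rfl) (hcomm (cub0 _ _) _ fun _ => rfl),
    hd e1 (cubD1 f hf) (fun _ => rfl) (hcomm (cub1 _ _) _ fun _ => rfl),
    hd e2 (cubD2 f hf) (fun _ => rfl) (hcomm (cub2 _ _) _ fun _ => rfl), ← map_sub, ← map_add] at h
  obtain ⟨w, hw⟩ := (amitsur_exact₂ (B : Type u) (E : Type u) (Val (uM M) B) z).1
    ((bcT_uM_bijective g' hg' M).1 ((Eq.trans (congrArg _ (by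
      rw [coL2, LinearMap.rTensor_add, LinearMap.rTensor_sub]
      rfl)) h).trans (map_zero (bcT g' hg' (uM M))).symm))
  refine ⟨bcT f hf _ w, ?_⟩
  rw [hL, hR, ← map_sub, ← hw]
  refine congrArg _ ?_
  rw [coL, LinearMap.rTensor_sub]
  rfl

include hf in
theorem uMap_exact_of_ff [Module.FaithfullyFlat B E] {M N : ModuleCat.{u + 1} A} (φ : M ⟶ N)
    (n : Val (uM N) B) (hn : res (uM N) f n ∈ Set.range (ap (uMap φ) E)) :
    n ∈ Set.range (ap (uMap φ) B) := by
  obtain ⟨m, hm⟩ := hn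
  let π : N ⟶ ModuleCat.of A (N ⧸ LinearMap.range φ.hom) :=
    ModuleCat.ofHom (LinearMap.range φ.hom).mkQ
  have hex : ∀ C : Alg A, Function.Exact (φ.hom.baseChange C) (π.hom.baseChange C) := fun C =>
    lTensor_exact (C : Type u) (LinearMap.exact_map_mkQ_range φ.hom) (Submodule.mkQ_surjective _)
  have h0 : ap (uMap π) B n = 0 := by
    refine uM_ff_injective f hf _ ?_
    rw [← ap_res, ← hm, map_zero]
    exact (hex E).apply_apply_eq_zero _
  obtain ⟨x, hx⟩ := (hex B (uval N B n)).1 h0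
  exact ⟨(uval M B).symm x, hx⟩

/-- Vanishing of the first Amitsur cohomology. -/
theorem ff_h1 [Module.FaithfullyFlat B E] {F : MVF A} (p : Pres F) (c : Val F (sqAlg f hf))
    (h : res F (cubD0 f hf) c - res F (cubD1 f hf) c + res F (cubD2 f hf) c = 0) :
    ∃ v : Val F E, res F (sqL f hf) v - res F (sqR f hf) v = c := by
  obtain ⟨v, hv⟩ := uM_sq_exact f hf p.M (ap p.ι (sqAlg f hf) c) (by
    rw [← ap_res, ← ap_res, ← ap_res, ← map_sub, ← map_add, h, map_zero])
  have hφ : res (uM p.N) (sqL f hf) (ap (uMap p.φ) E v) = res (uM p.N) (sqR f hf) (ap (uMap p.φ) E v) := by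
    rw [← sub_eq_zero, ← ap_res, ← ap_res, ← map_sub, hv, p.comp]
  obtain ⟨n, hn⟩ := uM_ff_exact f hf p.N _ hφ
  obtain ⟨m, hm⟩ := uMap_exact_of_ff f hf p.φ n ⟨v, hn.symm⟩
  obtain ⟨x, hx⟩ := p.exact E (v - res (uM p.M) f m) (by
    rw [map_sub, ap_res, hm, hn, sub_self])
  refine ⟨x, p.inj _ ?_⟩
  rw [map_sub, ap_res, ap_res, hx, map_sub, map_sub, ← res_comp, ← res_comp, sq_comm f hf,
    sub_sub_sub_cancel_right, hv]

end H1

end Groth.Agent.Adeq88
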