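import Groth.Agent.Adeq88.Sheafify
import Groth.Agent.Adeq88.H1
import Mathlib.AlgebraicGeometry.Limits
import Mathlib.RingTheory.Spectrum.Prime.RingHom

/-!
Extensions of adequate modules.
-/

set_option autoImplicit false

universe u

open CategoryTheory Limits Opposite AlgebraicGeometry TensorProduct

noncomputable section

namespace Groth.Agent.Adeq88

open Adeq

variable {P : MorphismProperty Scheme.{u}} (hP : GoodProp P)
  [BigSite.OSh (Scheme.precoverage P)] {S : Scheme.{u}}
  (M : BigSite.Mod (Scheme.precoverage P) S) {R : CommRingCat.{u}} (a : Spec R ⟶ S)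

theorem sect_subsingleton_of_isEmpty (Z : Over S) [IsEmpty Z.left] :
    Subsingleton (M.val.obj (op Z)) := by
  have hmem : Sieve.ofArrows (PEmpty.elim : PEmpty.{u + 1} → Over S) (fun i => i.elim) ∈
      QuotSh.J (Scheme.precoverage P) S Z := by
    rw [GrothendieckTopology.mem_over_iff, Sieve.overEquiv_ofArrows]
    exact Precoverage.generate_mem_toGrothendieck
      ((Scheme.ofArrows_mem_precoverage_iff _).2 ⟨fun x => (IsEmpty.false x).elim, fun i => i.elim⟩)
  refine subsingleton_of_forall_eq 0 fun x => ?_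
  exact eq_zero_of_family M (ι := PEmpty.{u + 1}) (V := PEmpty.elim) (fun i => i.elim)
    (fun i => i.elim) (fun y => (IsEmpty.false y).elim) x fun i => i.elim

section Pi

variable {τ : Type} [Fintype τ] (R' : τ → CommRingCat.{u}) [∀ k, Algebra R (R' k)]

/-- The product of a family. -/
abbrev prodAlg : Alg R := piAlg fun k => memAlg (R := R) R' k

/-- The arrow from a member to the product. -/
abbrev prodArrow (k : τ) :
    (specOver a).obj (op (memAlg (R := R) R' k)) ⟶ (specOver a).obj (op (prodAlg (R := R) R')) :=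
  (specOver a).map (piProj (fun k => memAlg (R := R) R' k) k).op

include hP in
theorem prop_prodArrow (k : τ) : P (prodArrow a R' k).left := by
  refine hP.openImm _ ?_
  exact inferInstanceAs (IsOpenImmersion
    (Spec.map (CommRingCat.ofHom (Pi.evalRingHom (fun k => (R' k : Type u)) k))))

theorem surj_prodArrow (x : ((specOver a).obj (op (prodAlg (R := R) R'))).left) :
    ∃ k, x ∈ Set.range (prodArrow a R' k).left := by
  obtain ⟨k, q, hq⟩ := PrimeSpectrum.exists_comap_evalRingHom_eq (R := fun k => (R' k : Type u)) x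
  exact ⟨k, q, hq⟩

include hP in
theorem prod_ext {x y : M.val.obj (op ((specOver a).obj (op (prodAlg (R := R) R'))))}
    (h : ∀ k, sres M.val (prodArrow a R' k) x = sres M.val (prodArrow a R' k) y) : x = y := by
  refine sub_eq_zero.1 (eq_zero_of_family M (ι := ULift.{u} τ) (fun k => prodArrow a R' k.down)
    (fun k => prop_prodArrow hP a R' k.down) (fun z => ?_) _ fun k => ?_)
  · obtain ⟨k, hk⟩ := surj_prodArrow a R' z
    exact ⟨⟨k⟩, hk⟩
  · exact (map_sub (sres M.val (prodArrow a R' k.down)) _ _).trans (sub_eq_zero.2 (h _))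

include hP in
theorem prod_glue (t : ∀ k, M.val.obj (op ((specOver a).obj (op (memAlg (R := R) R' k))))) :
    ∃ x, ∀ k, sres M.val (prodArrow a R' k) x = t k := by
  have hmem : Sieve.ofArrows _ (fun k => prodArrow a R' k) ∈ QuotSh.J (Scheme.precoverage P) S _ := by
    rw [GrothendieckTopology.mem_over_iff, Sieve.overEquiv_ofArrows]
    exact Precoverage.generate_mem_toGrothendieck
      ((Scheme.ofArrows_mem_precoverage_iff _).2 ⟨surj_prodArrow a R', fun k => prop_prodArrow hP a R' k⟩)
  obtain ⟨x, hx, -⟩ := (Presieve.isSheafFor_arrows_iff _ _).1 (isSheafFor_of_mem M _ hmem) t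
    fun j k Z gj gk hjk => by
      show sres M.val gj (t j) = sres M.val gk (t k)
      by_cases hk : j = k
      · subst hk
        have : IsOpenImmersion (prodArrow a R' j).left := inferInstanceAs (IsOpenImmersion
          (Spec.map (CommRingCat.ofHom (Pi.evalRingHom (fun k => (R' k : Type u)) j))))
        have : gj = gk := Over.OverMorphism.ext
          ((cancel_mono (prodArrow a R' j).left).1 (congrArg CommaMorphism.left hjk))
        rw [this]
      · have : IsEmpty Z.left := ⟨fun z => hk <| congrArg Sigma.fst <|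
          PrimeSpectrum.sigmaToPi_injective (fun k => (R' k : Type u))
            (a₁ := ⟨j, gj.left z⟩) (a₂ := ⟨k, gk.left z⟩)
            (congrArg (fun m : Z ⟶ _ => m.left z) hjk)⟩
        exact (sect_subsingleton_of_isEmpty M Z).elim _ _
  exact ⟨x, hx⟩

include hP in
theorem prod_ext' (hp : ∀ k, P (gmap (R := R) R' k)) (hs : ∀ x, ∃ k, x ∈ Set.range (gmap (R := R) R' k))
    {x y : M.val.obj (op ((specOver a).obj (op (algOf (R : Type u) (R : Type u)))))}
    (h : ∀ k, sres M.val ((specOver a).map (memHom (R := R) R' k).op) x =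
      sres M.val ((specOver a).map (memHom (R := R) R' k).op) y) : x = y := by
  refine sub_eq_zero.1 (eq_zero_of_family M (ι := ULift.{u} τ)
    (fun k => (specOver a).map (memHom (R := R) R' k.down).op) (fun k => hp k.down) (fun z => ?_) _ fun k => ?_)
  · obtain ⟨k, hk⟩ := hs z
    exact ⟨⟨k⟩, hk⟩
  · exact (map_sub (sres M.val _) _ _).trans (sub_eq_zero.2 (h _))

end Pi

section Single

variable {B E : Alg R} [Algebra B E] (f : B ⟶ E) (hf : ∀ b, algebraMap B E b = f.hom b)

theorem exists_lift_sq {Z : Over S} (g₁ g₂ : Z ⟶ (specOver a).obj (op E))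
    (h : g₁ ≫ (specOver a).map f.op = g₂ ≫ (specOver a).map f.op) :
    ∃ m : Z ⟶ (specOver a).obj (op (sqAlg f hf)),
      m ≫ (specOver a).map (sqL f hf).op = g₁ ∧ m ≫ (specOver a).map (sqR f hf).op = g₂ := by
  have := isScalarTower_of_hom f hf
  have q := isPullback_SpecMap_of_isPushout _ _ _ _
    (CommRingCat.isPushout_tensorProduct (B : Type u) (E : Type u) (E : Type u))
  let l₁ : Z.left ⟶ Spec (CommRingCat.of E) := g₁.left
  let l₂ : Z.left ⟶ Spec (CommRingCat.of E) := g₂.left
  have hl : l₁ ≫ Spec.map (CommRingCat.ofHom (algebraMap B E)) =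
      l₂ ≫ Spec.map (CommRingCat.ofHom (algebraMap B E)) := by
    have e : algebraMap B E = f.hom.toRingHom := RingHom.ext hf
    rw [e]
    exact congrArg CommaMorphism.left h
  let m₀ : Z.left ⟶ Spec (CommRingCat.of (sqAlg f hf)) := q.lift l₁ l₂ hl
  have h1 : m₀ ≫ Spec.map (rmap (sqL f hf)) = l₁ := q.lift_fst _ _ _
  have h2 : m₀ ≫ Spec.map (rmap (sqR f hf)) = l₂ := q.lift_snd _ _ _
  refine ⟨Over.homMk m₀ ?_, Over.OverMorphism.ext h1, Over.OverMorphism.ext h2⟩
  show m₀ ≫ Spec.map (CommRingCat.ofHom (algebraMap R (sqAlg f hf))) ≫ a = Z.hom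
  rw [← rmap_algebraMap (sqL f hf), Category.assoc, ← Category.assoc m₀, h1]
  exact Over.w g₁

theorem exists_descent_single
    (hmem : Sieve.ofArrows _ (fun _ : PUnit.{1} => (specOver a).map f.op) ∈
      QuotSh.J (Scheme.precoverage P) S ((specOver a).obj (op B)))
    (t : M.val.obj (op ((specOver a).obj (op E))))
    (ht : sres M.val ((specOver a).map (sqL f hf).op) t = sres M.val ((specOver a).map (sqR f hf).op) t) :
    ∃ y, sres M.val ((specOver a).map f.op) y = t := by
  obtain ⟨x, hx, -⟩ := (Presieve.isSheafFor_arrows_iff _ _).1 (isSheafFor_of_mem M _ hmem)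
    (fun _ => t) fun _ _ Z g₁ g₂ hg => by
      obtain ⟨m, rfl, rfl⟩ := exists_lift_sq a f hf g₁ g₂ hg
      show sres M.val (m ≫ (specOver a).map (sqL f hf).op) t =
        sres M.val (m ≫ (specOver a).map (sqR f hf).op) t
      rw [sres_comp, sres_comp, ht]
  exact ⟨x, hx ⟨⟩⟩

end Single

section Main

variable {C : ShortComplex (BigSite.Mod (Scheme.precoverage P) S)} (hC : C.ShortExact)

include hP hC in
theorem sect_surjective (h₁ : adequate R ((toMVF (Scheme.precoverage P) a).obj C.X₁))
    (z : C.X₃.val.obj (op (Over.mk a))) : ∃ x, C.g.val.app (op (Over.mk a)) x = z := by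
  have : Mono C.f := hC.mono_f
  have : Epi C.g := hC.epi_g
  let G := (SheafOfModules.toSheaf _).map C.g
  have : Epi G := inferInstanceAs (Epi ((SheafOfModules.toSheaf _).map C.g))
  have hls : Sheaf.IsLocallySurjective G :=
    (Sheaf.isLocallySurjective_iff_epi' AddCommGrpCat.{u + 1} G).2 inferInstance
  obtain ⟨τ, _, R', _, hp, hs, hR⟩ :=
    exists_affine_cover hP a (Presheaf.imageSieve_mem _ G.hom (U := op (Over.mk a)) z)
  choose t ht using hR
  have ht' : ∀ k, C.g.val.app _ (t k) = sres C.X₃.val (memArrow a R' k) z := ht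
  have hnat : ∀ {M N : BigSite.Mod (Scheme.precoverage P) S} (φ : M ⟶ N) {U V : Over S} (h : V ⟶ U)
      (w : M.val.obj (op U)), φ.val.app (op V) (sres M.val h w) = sres N.val h (φ.val.app (op U) w) :=
    fun φ _ _ h w => PresheafOfModules.naturality_apply φ.val h.op w
  let E := prodAlg (R := R) R'
  let f : algOf (R : Type u) (R : Type u) ⟶ E :=
    CommAlgCat.ofHom (Algebra.ofId (R : Type u) (∀ k, (R' k : Type u)))
  let : Algebra (algOf (R : Type u) (R : Type u)) E :=
    (inferInstance : Algebra (R : Type u) (∀ k, (R' k : Type u)))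
  have hf : ∀ b, algebraMap (algOf (R : Type u) (R : Type u)) E b = f.hom b := fun _ => rfl
  have : Module.FaithfullyFlat (algOf (R : Type u) (R : Type u)) E :=
    faithfullyFlat_pi R' (fun k => hP.flat _ (hp k)) hs
  let w := (specOver a).map f.op ≫ (selfIso a).hom
  have hw : ∀ k, prodArrow a R' k ≫ w = memArrow a R' k := fun k => by
    show (specOver a).map (piProj (fun k => memAlg (R := R) R' k) k).op ≫
      (specOver a).map f.op ≫ (selfIso a).hom = _
    rw [← Functor.map_comp_assoc, ← op_comp]
    have : f ≫ piProj (fun k => memAlg (R := R) R' k) k = memHom (R := R) R' k :=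
      CommAlgCat.hom_ext (Subsingleton.elim _ _)
    rw [this]
  obtain ⟨T, hT⟩ := prod_glue hP C.X₂ a R' t
  have hgT : C.g.val.app _ T = sres C.X₃.val w z := prod_ext hP C.X₃ a R' fun k => by
    rw [← hnat, hT, ht', ← hw, sres_comp]
  have hsq : (specOver a).map (sqL f hf).op ≫ w = (specOver a).map (sqR f hf).op ≫ w := by
    show (specOver a).map (sqL f hf).op ≫ (specOver a).map f.op ≫ _ =
      (specOver a).map (sqR f hf).op ≫ (specOver a).map f.op ≫ _
    rw [← Functor.map_comp_assoc, ← Functor.map_comp_assoc, ← op_comp, ← op_comp, sq_comm f hf]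
  obtain ⟨c, hc⟩ := (sect_leftExact hC.exact _).2 (sres C.X₂.val ((specOver a).map (sqL f hf).op) T -
    sres C.X₂.val ((specOver a).map (sqR f hf).op) T) (by
      refine (map_sub (C.g.val.app _).hom _ _).trans (sub_eq_zero.2 ?_)
      show C.g.val.app _ (sres C.X₂.val _ T) = C.g.val.app _ (sres C.X₂.val _ T)
      rw [hnat, hnat, hgT, ← sres_comp, ← sres_comp, hsq])
  obtain ⟨p⟩ := adequate_iff.1 h₁
  let F : MVF R := (toMVFPre (Scheme.precoverage P) a).obj C.X₁.val
  have hD : ∀ (l : sqAlg f hf ⟶ cubAlg f hf),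
      C.f.val.app _ (sres C.X₁.val ((specOver a).map l.op) c) =
        sres C.X₂.val ((specOver a).map (sqL f hf ≫ l).op) T -
          sres C.X₂.val ((specOver a).map (sqR f hf ≫ l).op) T := fun l => by
    rw [op_comp, op_comp, Functor.map_comp, Functor.map_comp, sres_comp, sres_comp]
    exact (hnat C.f _ c).trans ((congrArg _ hc).trans (map_sub (sres C.X₂.val _) _ _))
  have hcub : sqL f hf ≫ cubD2 f hf = sqL f hf ≫ cubD1 f hf ∧
      sqR f hf ≫ cubD2 f hf = sqL f hf ≫ cubD0 f hf ∧
      sqR f hf ≫ cubD1 f hf = sqR f hf ≫ cubD0 f hf :=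
    ⟨CommAlgCat.hom_ext (AlgHom.ext fun _ => rfl), CommAlgCat.hom_ext (AlgHom.ext fun _ => rfl),
      CommAlgCat.hom_ext (AlgHom.ext fun _ => rfl)⟩
  obtain ⟨v, hv⟩ := ff_h1 f hf (F := F) p ((mval C.X₁.val a _).symm c) (by
    refine (mval C.X₁.val a _).injective ((sect_leftExact hC.exact _).1 ?_)
    rw [map_add, map_sub, map_zero]
    show C.f.val.app _ (sres C.X₁.val ((specOver a).map (cubD0 f hf).op) c -
      sres C.X₁.val ((specOver a).map (cubD1 f hf).op) c +
      sres C.X₁.val ((specOver a).map (cubD2 f hf).op) c) = C.f.val.app _ 0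
    refine ((map_add (C.f.val.app _).hom _ _).trans
      (congrArg (· + _) (map_sub (C.f.val.app _).hom _ _))).trans ?_
    show C.f.val.app _ (sres C.X₁.val ((specOver a).map (cubD0 f hf).op) c) -
      C.f.val.app _ (sres C.X₁.val ((specOver a).map (cubD1 f hf).op) c) +
      C.f.val.app _ (sres C.X₁.val ((specOver a).map (cubD2 f hf).op) c) = _
    rw [hD, hD, hD, hcub.1, hcub.2.1, hcub.2.2]
    refine Eq.trans ?_ (map_zero (C.f.val.app _).hom).symm
    abel)
  let T' := T - C.f.val.app _ (mval C.X₁.val a _ v)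
  obtain ⟨y, hy⟩ := exists_descent_single (M := C.X₂) a f hf (by
      have hmem : Sieve.ofArrows _ (fun k => memArrow a R' k ≫ (selfIso a).inv) ∈
          QuotSh.J (Scheme.precoverage P) S ((specOver a).obj (op (algOf (R : Type u) (R : Type u)))) := by
        rw [GrothendieckTopology.mem_over_iff, Sieve.overEquiv_ofArrows]
        refine Precoverage.generate_mem_toGrothendieck
          ((Scheme.ofArrows_mem_precoverage_iff _).2 ⟨fun x => ?_, fun k => ?_⟩)
        · obtain ⟨k, hk⟩ := hs x
          exact ⟨k, hk⟩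
        · show P ((gmap (R := R) R' k ≫ 𝟙 _) ≫ 𝟙 _)
          rw [Category.comp_id, Category.comp_id]; exact hp k
      refine GrothendieckTopology.superset_covering _ ?_ hmem
      refine (Sieve.generate_le_iff _ _).2 fun _ _ hk => ?_
      obtain ⟨k⟩ := hk
      refine ⟨_, prodArrow a R' k, _, Presieve.ofArrows.mk (PUnit.unit), ?_⟩
      rw [← hw, Category.assoc]
      show prodArrow a R' k ≫ (specOver a).map f.op = prodArrow a R' k ≫ ((specOver a).map f.op ≫
        (selfIso a).hom) ≫ (selfIso a).inv
      rw [Category.assoc, Iso.hom_inv_id, Category.comp_id]) T' (by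
    refine (map_sub (sres C.X₂.val _) _ _).trans (Eq.trans ?_ (map_sub (sres C.X₂.val _) _ _).symm)
    rw [← hnat, ← hnat, sub_eq_sub_iff_sub_eq_sub, ← hc]
    rw [← (mval C.X₁.val a _).apply_symm_apply c, ← hv, map_sub]
    exact map_sub (C.f.val.app _).hom _ _)
  refine ⟨sres C.X₂.val (selfIso a).inv y, ?_⟩
  have hz : C.g.val.app _ y = sres C.X₃.val (selfIso a).hom z := prod_ext' hP C.X₃ a R' hp hs fun k => by
    have hgT' : C.g.val.app _ T' = sres C.X₃.val w z := by
      refine ((map_sub (C.g.val.app _).hom _ _).trans ?_).trans hgT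
      show C.g.val.app _ T - C.g.val.app _ (C.f.val.app _ _) = _
      have h0 : C.f.val ≫ C.g.val = 0 := congrArg SheafOfModules.Hom.val C.zero
      have := DFunLike.congr_fun (congrArg (fun φ => (φ.app _).hom) h0) (mval C.X₁.val a _ v)
      exact (congrArg _ this).trans (sub_zero _)
    rw [show (specOver a).map (memHom R' k).op = prodArrow a R' k ≫ (specOver a).map f.op by
      rw [prodArrow, ← Functor.map_comp, ← op_comp]
      exact congrArg (fun m => (specOver a).map m) (congrArg Quiver.Hom.op (CommAlgCat.hom_ext (Subsingleton.elim _ _)))]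
    rw [sres_comp, sres_comp, ← hnat, hy, hgT', ← sres_comp C.X₃.val (selfIso a).hom]
  rw [hnat, hz, ← sres_comp, Iso.inv_hom_id, sres_id]

include hP hC in
theorem adequateMod_of_shortExact (h₁ : adequateMod (Scheme.precoverage P) S C.X₁)
    (h₃ : adequateMod (Scheme.precoverage P) S C.X₃) : adequateMod (Scheme.precoverage P) S C.X₂ := by
  refine adequateMod_of_affine hP _ fun R a => ?_
  have : Mono C.f := hC.mono_f
  let Q := C.map (toMVF (Scheme.precoverage P) a)
  have hi : ∀ B, Function.Injective (ap Q.f B) := fun B => (sect_leftExact hC.exact _).1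
  have : Mono Q.f := (mono_iff Q.f).2 hi
  have : Epi Q.g := (epi_iff Q.g).2 fun B z => sect_surjective hP (R := CommRingCat.of B)
    (Spec.map (CommRingCat.ofHom (algebraMap R B)) ≫ a) hC (adequate_affine hP C.X₁ h₁ _) z
  have hQ : Q.ShortExact :=
    { exact := by
        refine Q.exact_iff_epi_kernel_lift.2 ((epi_iff _).2 fun B y => ?_)
        obtain ⟨x, hx⟩ := (sect_leftExact hC.exact _).2 (ap (kernel.ι Q.g) B y) (kernel_ι_comp Q.g B y)
        exact ⟨x, kernel_ι_inj Q.g B (by rw [← ap_comp, kernel.lift_ι]; exact hx)⟩ }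
  exact adequate_of_shortExact hQ (adequate_affine hP C.X₁ h₁ a) (adequate_affine hP C.X₃ h₃ a)

end Main

end Groth.Agent.Adeq88
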