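import Groth.Agent.Adeq88.Sect

/-!
Sheafification does not change the values of an adequate presheaf on affine objects.
-/

set_option autoImplicit false

universe u

open CategoryTheory Limits Opposite AlgebraicGeometry

noncomputable section

namespace Groth.Agent.Adeq88

open Adeq

section Faithful

variable {R : CommRingCat.{u}} {σ : Type} [Fintype σ] (R' : σ → CommRingCat.{u})
  [∀ k, Algebra R (R' k)]

theorem faithfullyFlat_pi (hflat : ∀ k, Flat (gmap (R := R) R' k))
    (hs : ∀ x, ∃ k, x ∈ Set.range (gmap (R := R) R' k)) :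
    Module.FaithfullyFlat R (∀ k, (R' k : Type u)) := by
  classical
  have : ∀ k, Module.Flat R (R' k) := fun k =>
    (RingHom.flat_algebraMap_iff.1 ((HasRingHomProperty.Spec_iff (P := @Flat)).1 (hflat k)))
  have : Module.Flat R (∀ k, (R' k : Type u)) :=
    Module.Flat.of_linearEquiv (DFinsupp.linearEquivFunOnFintype (R := R) (M := fun k => (R' k : Type u))).symm
  refine Module.FaithfullyFlat.of_comap_surjective fun x => ?_
  obtain ⟨k, z, hz⟩ := hs x
  exact ⟨PrimeSpectrum.comap (Pi.evalRingHom (fun k => (R' k : Type u)) k) z, hz⟩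

end Faithful

variable {P : MorphismProperty Scheme.{u}} (hP : GoodProp P)
  [BigSite.OSh (Scheme.precoverage P)] {S : Scheme.{u}}
  (Q : PresheafOfModules.{u + 1} (BigSite.ORing (Scheme.precoverage P) S).obj)
  (hQ : ∀ (R : CommRingCat.{u}) (a : Spec R ⟶ S), adequate R ((toMVFPre (Scheme.precoverage P) a).obj Q))

variable {R : CommRingCat.{u}} (a : Spec R ⟶ S)

include hP in
/-- A covering sieve of an affine object contains a finite faithfully flat affine family. -/
theorem exists_affine_cover {Rs : Sieve (Over.mk a)}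
    (hR : Rs ∈ QuotSh.J (Scheme.precoverage P) S (Over.mk a)) :
    ∃ (σ : Type) (_ : Fintype σ) (R' : σ → CommRingCat.{u}) (_ : ∀ k, Algebra R (R' k)),
      (∀ k, P (gmap (R := R) R' k)) ∧ (∀ x, ∃ k, x ∈ Set.range (gmap (R := R) R' k)) ∧
      ∀ k, Rs ((specOver a).map (CommAlgCat.ofHom (Algebra.ofId (R : Type u) (R' k : Type u)) :
        algOf (R : Type u) (R : Type u) ⟶ algOf (R : Type u) (R' k : Type u)).op ≫ (selfIso a).hom) := by
  obtain ⟨ι, V, g, hp, hs, hg⟩ := exists_cover_of_mem hP hR
  obtain ⟨r⟩ := hP.exists_refinement (fun i => (g i).left) hp hs (𝟙 (Spec R))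
  let inst : ∀ k, Algebra R (r.R' k) := fun k => (Spec.preimage (r.g k)).hom.toAlgebra
  have hgm : ∀ k, gmap (R := R) r.R' k = r.g k := fun k => by
    show Spec.map (CommRingCat.ofHom (Spec.preimage (r.g k)).hom) = r.g k
    rw [CommRingCat.ofHom_hom, Spec.map_preimage]
  refine ⟨r.σ, r.fin, r.R', inst, fun k => (hgm k).symm ▸ r.prop k, fun x => ?_, fun k => ?_⟩
  · obtain ⟨k, hk⟩ := r.surj x
    exact ⟨k, (hgm k).symm ▸ hk⟩
  · have hfac : r.lift k ≫ (g (r.idx k)).left = gmap (R := R) r.R' k := by
      rw [hgm]; exact (r.fac k).trans (Category.comp_id _)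
    let l : (specOver a).obj (op (algOf (R : Type u) (r.R' k : Type u))) ⟶ V (r.idx k) :=
      Over.homMk (r.lift k) (by
        show r.lift k ≫ (V (r.idx k)).hom = gmap (R := R) r.R' k ≫ a
        rw [← Over.w (g (r.idx k)), ← hfac]
        exact (Category.assoc _ _ _).symm)
    have he : (specOver a).map (CommAlgCat.ofHom (Algebra.ofId (R : Type u) (r.R' k : Type u)) :
        algOf (R : Type u) (R : Type u) ⟶ algOf (R : Type u) (r.R' k : Type u)).op ≫ (selfIso a).hom =
          l ≫ g (r.idx k) :=
      Over.OverMorphism.ext ((Category.comp_id _).trans hfac.symm)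
    rw [he]
    exact Rs.downward_closed (hg _) l

variable {σ : Type} (R' : σ → CommRingCat.{u}) [∀ k, Algebra R (R' k)]

/-- The algebra of a member of an affine family. -/
abbrev memAlg (k : σ) : Alg R := algOf (R : Type u) (R' k : Type u)

/-- The map to a member. -/
abbrev memHom (k : σ) : algOf (R : Type u) (R : Type u) ⟶ memAlg R' k :=
  CommAlgCat.ofHom (Algebra.ofId (R : Type u) (R' k : Type u))

/-- The arrow from a member to the affine object. -/
abbrev memArrow (k : σ) : (specOver a).obj (op (memAlg R' k)) ⟶ Over.mk a :=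
  (specOver a).map (memHom R' k).op ≫ (selfIso a).hom

/-- An element over the affine object as a value. -/
def toVal : Q.obj (op (Over.mk a)) →+ Val ((toMVFPre (Scheme.precoverage P) a).obj Q) (algOf (R : Type u) (R : Type u)) :=
  (mval Q a _).symm.toAddMonoidHom.comp (sres Q (selfIso a).hom)

theorem toVal_injective : Function.Injective (toVal Q a) :=
  (mval Q a _).symm.injective.comp (sres_bijective_of_iso Q (selfIso a)).1

theorem toVal_surjective : Function.Surjective (toVal Q a) :=
  (mval Q a _).symm.surjective.comp (sres_bijective_of_iso Q (selfIso a)).2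

theorem mval_res_toVal (k : σ) (x : Q.obj (op (Over.mk a))) :
    mval Q a _ (res _ (memHom R' k) (toVal Q a x)) = sres Q (memArrow a R' k) x :=
  (sres_comp Q _ _ x).symm

include hQ in
theorem pre_descent [Fintype σ] (hflat : ∀ k, Flat (gmap (R := R) R' k))
    (hs : ∀ x, ∃ k, x ∈ Set.range (gmap (R := R) R' k)) :
    (∀ x y : Q.obj (op (Over.mk a)),
      (∀ k, sres Q (memArrow a R' k) x = sres Q (memArrow a R' k) y) → x = y) ∧
    ∀ t : ∀ k, Q.obj (op ((specOver a).obj (op (memAlg R' k)))),
      (∀ (j k : σ) (C : Alg R) (l : memAlg R' j ⟶ C) (r : memAlg R' k ⟶ C),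
        sres Q ((specOver a).map l.op) (t j) = sres Q ((specOver a).map r.op) (t k)) →
      ∃ x, ∀ k, sres Q (memArrow a R' k) x = t k := by
  obtain ⟨q⟩ := adequate_iff.1 (hQ R a)
  let instA : ∀ k, Algebra (algOf (R : Type u) (R : Type u)) (memAlg (R := R) R' k) := fun k =>
    (inferInstance : Algebra (R : Type u) (R' k : Type u))
  have : ∀ k, IsScalarTower (R : Type u) (algOf (R : Type u) (R : Type u)) (memAlg (R := R) R' k) := fun k =>
    isScalarTower_of_hom (memHom (R := R) R' k) fun _ => rfl
  have : Module.FaithfullyFlat (algOf (R : Type u) (R : Type u)) (∀ k, (memAlg (R := R) R' k : Type u)) :=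
    faithfullyFlat_pi R' hflat hs
  obtain ⟨h1, h2⟩ := family_descent (memAlg (R := R) R') (memHom (R := R) R') (fun k b => rfl) q
  refine ⟨fun x y h => toVal_injective Q a (h1 _ _ fun k => (mval Q a _).injective ?_), fun t ht => ?_⟩
  · rw [mval_res_toVal, mval_res_toVal, h]
  · obtain ⟨v, hv⟩ := h2 (fun k => (mval Q a _).symm (t k)) fun j k => ht j k _ _ _
    obtain ⟨x, rfl⟩ := toVal_surjective Q a v
    exact ⟨x, fun k => by rw [← mval_res_toVal, hv, AddEquiv.apply_symm_apply]⟩

variable (M : BigSite.Mod (Scheme.precoverage P) S) (η : Q.presheaf ⟶ M.val.presheaf)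

include hP hQ in
theorem app_injective [Presheaf.IsLocallyInjective (QuotSh.J (Scheme.precoverage P) S) η]
    (x y : Q.obj (op (Over.mk a))) (h : η.app (op (Over.mk a)) x = η.app (op (Over.mk a)) y) :
    x = y := by
  obtain ⟨τ, _, R', _, hp, hs, hR⟩ :=
    exists_affine_cover hP a (Presheaf.equalizerSieve_mem _ η (X := op (Over.mk a)) x y h)
  exact (pre_descent Q hQ a R' (fun k => hP.flat _ (hp k)) hs).1 x y fun k => hR k

include hP hQ in
theorem app_surjective [Presheaf.IsLocallyInjective (QuotSh.J (Scheme.precoverage P) S) η]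
    [Presheaf.IsLocallySurjective (QuotSh.J (Scheme.precoverage P) S) η]
    (z : M.val.obj (op (Over.mk a))) : ∃ x, η.app (op (Over.mk a)) x = z := by
  obtain ⟨τ, _, R', _, hp, hs, hR⟩ :=
    exists_affine_cover hP a (Presheaf.imageSieve_mem _ η (U := op (Over.mk a)) z)
  choose t ht using hR
  have hη : ∀ {U V : Over S} (f : V ⟶ U) (w : Q.obj (op U)),
      η.app (op V) (sres Q f w) = sres M.val f (η.app (op U) w) := fun f w =>
    NatTrans.naturality_apply η f.op w
  obtain ⟨x, hx⟩ := (pre_descent Q hQ a R' (fun k => hP.flat _ (hp k)) hs).2 t fun j k C l r => by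
    refine app_injective hP Q hQ (R := CommRingCat.of C)
      (Spec.map (CommRingCat.ofHom (algebraMap R C)) ≫ a) M η _ _ ?_
    refine (hη _ _).trans (Eq.trans ?_ (hη _ _).symm)
    erw [ht, ht]
    show sres M.val ((specOver a).map l.op) (sres M.val (memArrow a R' j) z) =
      sres M.val ((specOver a).map r.op) (sres M.val (memArrow a R' k) z)
    have e : l.op.unop.hom.comp (Algebra.ofId (R : Type u) (R' j : Type u)) =
        r.op.unop.hom.comp (Algebra.ofId (R : Type u) (R' k : Type u)) := Subsingleton.elim _ _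
    rw [← sres_comp, ← sres_comp]
    congr 2
    show (specOver a).map l.op ≫ (specOver a).map (memHom R' j).op ≫ (selfIso a).hom =
      (specOver a).map r.op ≫ (specOver a).map (memHom R' k).op ≫ (selfIso a).hom
    rw [← Functor.map_comp_assoc, ← Functor.map_comp_assoc, ← op_comp, ← op_comp,
      show memHom R' j ≫ l = memHom R' k ≫ r from CommAlgCat.hom_ext e]
  refine ⟨x, sub_eq_zero.1 (eq_zero_of_family M (U := Over.mk a) (ι := ULift.{u} τ)
    (fun k => memArrow a R' k.down) (fun k => ?_) (fun y => ?_) _ fun k => ?_)⟩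
  · show P (gmap (R := R) R' k.down ≫ 𝟙 _)
    rw [Category.comp_id]; exact hp _
  · obtain ⟨k, hk⟩ := hs y
    exact ⟨⟨k⟩, by show y ∈ Set.range (gmap (R := R) R' k ≫ 𝟙 _); rwa [Category.comp_id]⟩
  · refine (map_sub (sres M.val (memArrow a R' k.down)) _ _).trans (sub_eq_zero.2 ((hη _ x).symm.trans ?_))
    rw [hx]
    exact ht _

variable (hsmul : ∀ (U : (Over S)ᵒᵖ) (r : (BigSite.ORing (Scheme.precoverage P) S).obj.obj U)
  (x : Q.obj U), η.app U (show Q.presheaf.obj U from r • x) = (show M.val.presheaf.obj U from r • (show M.val.obj U from η.app U x)))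

include hP hQ hsmul in
theorem adequate_of_locallyBijective [Presheaf.IsLocallyInjective (QuotSh.J (Scheme.precoverage P) S) η]
    [Presheaf.IsLocallySurjective (QuotSh.J (Scheme.precoverage P) S) η] :
    adequate R ((toMVF (Scheme.precoverage P) a).obj M) := by
  let ψ : Q ⟶ M.val := PresheafOfModules.homMk η hsmul
  let Ψ : (toMVFPre (Scheme.precoverage P) a).obj Q ⟶ (toMVF (Scheme.precoverage P) a).obj M :=
    (toMVFPre (Scheme.precoverage P) a).map ψ
  have : IsIso Ψ := isIso_of_bijective Ψ fun B =>
    ⟨fun x y h => app_injective hP Q hQ (R := CommRingCat.of B)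
        (Spec.map (CommRingCat.ofHom (algebraMap R B)) ≫ a) M η x y h,
      fun z => app_surjective hP Q hQ (R := CommRingCat.of B)
        (Spec.map (CommRingCat.ofHom (algebraMap R B)) ≫ a) M η z⟩
  exact (adequate (R : Type u)).prop_of_iso (asIso Ψ) (hQ R a)

include hP hQ in
theorem adequateMod_sheafification :
    adequateMod (Scheme.precoverage P) S
      ((PresheafOfModules.sheafification (𝟙 (BigSite.ORing (Scheme.precoverage P) S).obj)).obj Q) := by
  have h1 : Presheaf.IsLocallyInjective (QuotSh.J (Scheme.precoverage P) S)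
      (CategoryTheory.toSheafify (QuotSh.J (Scheme.precoverage P) S) Q.presheaf) :=
    ((QuotSh.J (Scheme.precoverage P) S).W_toSheafify Q.presheaf).isLocallyInjective
  have h2 : Presheaf.IsLocallySurjective (QuotSh.J (Scheme.precoverage P) S)
      (CategoryTheory.toSheafify (QuotSh.J (Scheme.precoverage P) S) Q.presheaf) :=
    ((QuotSh.J (Scheme.precoverage P) S).W_toSheafify Q.presheaf).isLocallySurjective
  refine adequateMod_of_affine hP _ fun R a => ?_
  let M' : BigSite.Mod (Scheme.precoverage P) S :=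
    (PresheafOfModules.sheafification (𝟙 (BigSite.ORing (Scheme.precoverage P) S).obj)).obj Q
  let η : Q.presheaf ⟶ M'.val.presheaf := CategoryTheory.toSheafify (QuotSh.J (Scheme.precoverage P) S) Q.presheaf
  have : Presheaf.IsLocallyInjective (QuotSh.J (Scheme.precoverage P) S) η := h1
  have : Presheaf.IsLocallySurjective (QuotSh.J (Scheme.precoverage P) S) η := h2
  exact adequate_of_locallyBijective hP Q hQ a M' η fun U r x =>
    (((PresheafOfModules.sheafificationAdjunction
      (𝟙 (BigSite.ORing (Scheme.precoverage P) S).obj)).unit.app Q).app U).hom.map_smul r x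

end Groth.Agent.Adeq88
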