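import Groth.Agent.Adeq88.CechTransfer
import Groth.Agent.Adeq88.Sheafify
import Groth.Agent.Adeq88.Ext
import Groth.Agent.Unr55.Et.CechCartan
import Groth.Agent.Unr55.Et.GaCech
import Mathlib.AlgebraicGeometry.Limits

/-!
Adequate modules have no higher cohomology on affine schemes.
-/

set_option autoImplicit false
set_option maxHeartbeats 1000000
set_option linter.style.haveILetI false
set_option backward.isDefEq.respectTransparency false
set_option backward.isDefEq.respectTransparency.types false

universe u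

open CategoryTheory Limits Opposite AlgebraicGeometry

noncomputable section

namespace Groth.Agent.Adeq88

open Adeq

variable {P : MorphismProperty Scheme.{u}} (hP : GoodProp P) [BigSite.OSh (Scheme.precoverage P)] {Z : Scheme.{u}}

/-- The coverings of Cartan's criterion. -/
def AffCov (P : MorphismProperty Scheme.{u}) (V : Over Z) (Y : Over V) : Prop :=
  IsAffine Y.left.left ∧ P Y.hom.left ∧ Surjective Y.hom.left

omit [BigSite.OSh (Scheme.precoverage P)] in
theorem isAffine_prod_over (V : Over Z) [IsAffine V.left] (n : ℕ) (f : Fin n → Over V)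
    (hf : ∀ i, IsAffine (f i).left.left) : IsAffine (∏ᶜ f).left.left :=
  Unr55.EtaleAff.isAffine_fan n (fun i => V.iteratedSliceEquiv.functor.obj (f i)) hf _
    (isLimitFanMkObjOfIsLimit V.iteratedSliceEquiv.functor _ _ (productIsProduct f))

/-- The functor to schemes over the spectrum of the global functions of an affine object. -/
def toSpecOver (V : Over Z) [IsAffine V.left] : Over V ⥤ Over (Spec Γ(V.left, ⊤)) :=
  V.iteratedSliceEquiv.functor ⋙ Over.map V.left.isoSpec.hom

instance (V : Over Z) [IsAffine V.left] : (toSpecOver V).IsEquivalence := by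
  unfold toSpecOver
  infer_instance

/-- The structure map of the spectrum of the global functions of an affine object. -/
abbrev specStr (V : Over Z) [IsAffine V.left] : Spec Γ(V.left, ⊤) ⟶ Z := V.left.isoSpec.inv ≫ V.hom

/-- The two descriptions of schemes over an affine object. -/
def toSpecOverIso (V : Over Z) [IsAffine V.left] : toSpecOver V ⋙ Over.map (specStr V) ≅ Over.forget V :=
  NatIso.ofComponents (fun W => Over.isoMk (Iso.refl _) (by
    show 𝟙 _ ≫ W.left.hom = (W.hom.left ≫ V.left.isoSpec.hom) ≫ V.left.isoSpec.inv ≫ V.hom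
    rw [Category.id_comp, Category.assoc, Iso.hom_inv_id_assoc, Over.w]))
    (fun {W W'} k => Over.OverMorphism.ext ((Category.comp_id _).trans (Category.id_comp _).symm))

include hP in
theorem acyclic_adequate (N : BigSite.Mod (Scheme.precoverage P) Z)
    (hN : adequateMod (Scheme.precoverage P) Z N) :
    Unr55.CechCartan.Acyclic.{u + 1, u, u + 1} {V : Over Z | IsAffine V.left} (AffCov P)
      ((BigSite.toAbMod (Scheme.precoverage P) Z).obj N) := by
  intro V hV Y hY q
  obtain ⟨hYa, hYp, hYs⟩ := hY
  haveI : IsAffine V.left := hV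
  haveI := hYa
  let R : CommRingCat.{u} := Γ(V.left, ⊤)
  let B : Type u := Γ(Y.left.left, ⊤)
  letI : Algebra R B := (Y.hom.left.appTop).hom.toAlgebra
  have hB : Spec.map (CommRingCat.ofHom (algebraMap R B)) = Spec.map Y.hom.left.appTop := rfl
  have hnat := Scheme.isoSpec_hom_naturality Y.hom.left
  let eY : (toSpecOver V).obj Y ≅ covObj R B := Over.isoMk Y.left.left.isoSpec (by
    show Y.left.left.isoSpec.hom ≫ Spec.map Y.hom.left.appTop = Y.hom.left ≫ V.left.isoSpec.hom
    exact hnat)
  haveI : Module.FaithfullyFlat R B := by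
    haveI : Flat Y.hom.left := hP.flat _ hYp
    haveI : Flat (Spec.map (CommRingCat.ofHom (algebraMap R B))) := by
      rw [hB, show Spec.map Y.hom.left.appTop = Y.left.left.isoSpec.inv ≫ Y.hom.left ≫ V.left.isoSpec.hom from
        (Iso.eq_inv_comp _).2 hnat]
      infer_instance
    haveI : Module.Flat R B := RingHom.flat_algebraMap_iff.1 ((HasRingHomProperty.Spec_iff (P := @Flat)).1 ‹_›)
    refine Module.FaithfullyFlat.of_comap_surjective fun x => ?_
    obtain ⟨y, hy⟩ := hYs.surj (V.left.isoSpec.inv x)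
    refine ⟨Y.left.left.isoSpec.hom y, ?_⟩
    show (Spec.map Y.hom.left.appTop) (Y.left.left.isoSpec.hom y) = x
    rw [← Scheme.Hom.comp_apply, hnat, Scheme.Hom.comp_apply, hy, ← Scheme.Hom.comp_apply, Iso.inv_hom_id]
    rfl
  let N' : BigSite.Mod (Scheme.precoverage P) (Spec R) :=
    (BigSite.pullMod (Scheme.precoverage P) (specStr V)).obj N
  have hF : adequate R ((toMVF (Scheme.precoverage P) (𝟙 (Spec R))).obj N') :=
    (adequate_pull_iff (specStr V) N (𝟙 (Spec R))).2 (by
      rw [Category.id_comp]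
      exact adequate_affine hP N hN _)
  have h := cech_exactAt_transfer R B N'.val (toSpecOver V) eY hF (q + 1) (Nat.succ_pos q)
  rw [HomologicalComplex.exactAt_iff_isZero_homology] at h
  let i : (toSpecOver V).op ⋙ N'.val.presheaf ≅
      (Over.forget V).op ⋙ ((BigSite.toAbMod (Scheme.precoverage P) Z).obj N).obj :=
    Functor.isoWhiskerRight (NatIso.op (toSpecOverIso V).symm) N.val.presheaf
  exact h.of_iso ((HomologicalComplex.homologyFunctor _ _ (q + 1)).mapIso
    ((cechComplexFunctor (fun _ : PUnit.{u + 2} => Y)).mapIso i.symm))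

include hP in
theorem exists_affCov_lift [IsZariskiLocalAtSource P] {F G : BigSite.Ab (Scheme.precoverage P) Z} (g : F ⟶ G) [Epi g] (V : Over Z)
    [IsAffine V.left] (s : G.obj.obj (op V)) :
    ∃ Y : Over V, AffCov P V Y ∧ (Presheaf.imageSieve g.hom s).arrows Y.hom ∧
      Sieve.ofArrows (fun _ : PUnit.{u + 2} => Y.left) (fun _ => Y.hom) ∈ QuotSh.J (Scheme.precoverage P) Z V := by
  haveI : Sheaf.IsLocallySurjective g := (Sheaf.isLocallySurjective_iff_epi' AddCommGrpCat.{u + 1} g).2 ‹_›
  obtain ⟨ι, W, k, hp, hs, hk⟩ := exists_cover_of_mem hP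
    (Presheaf.imageSieve_mem (QuotSh.J (Scheme.precoverage P) Z) g.hom s)
  obtain ⟨r⟩ := hP.exists_refinement (fun i => (k i).left) hp hs V.left.isoSpec.inv
  haveI := r.fin
  haveI := hP.baseChange
  let C : r.σ → Scheme.{u} := fun j => Spec (r.R' j)
  let p : (∐ C) ⟶ V.left := Sigma.desc fun j => r.g j ≫ V.left.isoSpec.inv
  let Y₀ : Over Z := Over.mk (p ≫ V.hom)
  let W' : r.σ → Over Z := fun j => Over.mk (Sigma.ι C j ≫ Y₀.hom)
  let inc : ∀ j, W' j ⟶ Y₀ := fun j => Over.homMk (Sigma.ι C j) rfl
  have hp' : ∀ j, P (r.g j ≫ V.left.isoSpec.inv) := fun j => hP.comp _ _ (r.prop j) (hP.openImm _ inferInstance)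
  have hYp : P p := IsZariskiLocalAtSource.sigmaDesc hp'
  have hsur : Surjective p := ⟨fun x => by
    obtain ⟨j, v, hv⟩ := r.surj (V.left.isoSpec.hom x)
    refine ⟨Sigma.ι C j v, ?_⟩
    rw [← Scheme.Hom.comp_apply, Sigma.ι_desc, Scheme.Hom.comp_apply, hv, ← Scheme.Hom.comp_apply, Iso.hom_inv_id]
    rfl⟩
  haveI : IsAffine (∐ C) := inferInstance
  let π : Y₀ ⟶ V := Over.homMk p rfl
  refine ⟨Over.mk π, ⟨inferInstanceAs (IsAffine (∐ C)), hYp, hsur⟩, ?_, ?_⟩
  · have hl : ∀ j, ∃ t, g.hom.app (op (W' j)) t = G.obj.map (inc j ≫ π).op s := fun j => by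
      let l : W' j ⟶ W (r.idx j) := Over.homMk (r.lift j) (by
        show r.lift j ≫ (W (r.idx j)).hom = Sigma.ι C j ≫ p ≫ V.hom
        rw [← Over.w (k (r.idx j)), ← Category.assoc, ← Category.assoc]
        refine congrArg (· ≫ V.hom) ?_
        rw [Sigma.ι_desc]
        exact r.fac j)
      have e : inc j ≫ π = l ≫ k (r.idx j) := Over.OverMorphism.ext (by
        show Sigma.ι C j ≫ p = r.lift j ≫ (k (r.idx j)).left
        rw [Sigma.ι_desc]
        exact (r.fac j).symm)
      rw [e]
      exact (Presheaf.imageSieve g.hom s).downward_closed (hk (r.idx j)) l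
    choose t ht using hl
    have hmem : Sieve.ofArrows W' inc ∈ QuotSh.J (Scheme.precoverage P) Z Y₀ := by
      rw [GrothendieckTopology.mem_over_iff, Sieve.overEquiv_ofArrows]
      refine Precoverage.generate_mem_toGrothendieck ((Scheme.ofArrows_mem_precoverage_iff _).2
        ⟨fun x => ?_, fun j => hP.openImm _ (inferInstanceAs (IsOpenImmersion (Sigma.ι C j)))⟩)
      obtain ⟨v, hv⟩ := (sigmaOpenCover C).covers x
      exact ⟨_, v, hv⟩
    have hsh : ∀ H : BigSite.Ab (Scheme.precoverage P) Z,
        Presieve.IsSheafFor (H.obj ⋙ CategoryTheory.forget _) (Presieve.ofArrows W' inc) := fun H => by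
      have h' := (Presheaf.isSheaf_iff_isSheaf_forget _ _ (CategoryTheory.forget AddCommGrpCat.{u + 1})).1 H.property
      rw [isSheaf_iff_isSheaf_of_type] at h'
      rw [Presieve.isSheafFor_iff_generate]
      exact h' _ hmem
    obtain ⟨x, hx, -⟩ := (Presieve.isSheafFor_arrows_iff _ _).1 (hsh F) t fun i j T gi gj hij => by
      by_cases hne : i = j
      · subst hne
        rw [show gi = gj from Over.OverMorphism.ext
          ((cancel_mono (Sigma.ι C i)).1 (congrArg (fun m : T ⟶ Y₀ => m.left) hij))]
      · haveI : IsEmpty T.left := isEmpty_of_commSq_sigmaι_of_ne (g := C) (a := gi.left) (b := gj.left)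
          ⟨congrArg (fun m : T ⟶ Y₀ => m.left) hij⟩ hne
        have he : Sieve.ofArrows (PEmpty.elim : PEmpty.{u + 1} → Over Z) (fun i => i.elim) ∈
            QuotSh.J (Scheme.precoverage P) Z T := by
          rw [GrothendieckTopology.mem_over_iff, Sieve.overEquiv_ofArrows]
          exact Precoverage.generate_mem_toGrothendieck
            ((Scheme.ofArrows_mem_precoverage_iff _).2 ⟨fun x => (IsEmpty.false x).elim, fun i => i.elim⟩)
        have h' := (Presheaf.isSheaf_iff_isSheaf_forget _ _ (CategoryTheory.forget AddCommGrpCat.{u + 1})).1 F.property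
        rw [isSheaf_iff_isSheaf_of_type] at h'
        refine (h' _ he).isSeparatedFor.ext fun W₁ f hf => ?_
        obtain ⟨_, _, _, ⟨i⟩, -⟩ := hf
        exact i.elim
    refine ⟨x, (hsh G).isSeparatedFor.ext fun W₁ f hf => ?_⟩
    obtain ⟨j⟩ := hf
    show G.obj.map (inc j).op (g.hom.app (op Y₀) x) = G.obj.map (inc j).op (G.obj.map π.op s)
    rw [← ConcreteCategory.comp_apply, ← g.hom.naturality, ConcreteCategory.comp_apply,
      show F.obj.map (inc j).op x = t j from hx j, ht j, op_comp,
      Functor.map_comp, ConcreteCategory.comp_apply]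
  · rw [GrothendieckTopology.mem_over_iff, Sieve.overEquiv_ofArrows]
    exact Precoverage.generate_mem_toGrothendieck
      ((Scheme.ofArrows_mem_precoverage_iff _).2 ⟨fun x => ⟨PUnit.unit, hsur.surj x⟩, fun _ => hYp⟩)

include hP in
theorem subsingleton_H_adequate [IsZariskiLocalAtSource P] [IsAffine Z] (N : BigSite.Mod (Scheme.precoverage P) Z)
    (hN : adequateMod (Scheme.precoverage P) Z N) (q : ℕ) :
    Subsingleton (BigSite.H (Scheme.precoverage P) Z ((BigSite.toAbMod (Scheme.precoverage P) Z).obj N) (q + 1)) :=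
  Unr55.CechCartan.subsingleton_H.{u + 1, u, u + 1} (B := {V : Over Z | IsAffine V.left}) (Cov := AffCov P)
    (fun V hV Y hY n a => haveI : IsAffine V.left := hV; isAffine_prod_over V (n + 1) _ fun _ => hY.1)
    (fun V hV F G g _ s => haveI : IsAffine V.left := hV; exists_affCov_lift hP g V s)
    Over.mkIdTerminal (show IsAffine (Over.mk (𝟙 Z)).left from ‹IsAffine Z›) q _ (acyclic_adequate hP N hN)

end Groth.Agent.Adeq88
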