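import Groth.Agent.Adeq88.InjMod
import Groth.Agent.Adeq88.AffineVanish

/-!
Sections over affine objects of an injective resolution of an adequate module.
-/

set_option autoImplicit false
set_option maxHeartbeats 1000000
set_option linter.style.haveILetI false
set_option backward.isDefEq.respectTransparency false
set_option backward.isDefEq.respectTransparency.types false

universe u

open CategoryTheory Limits Opposite AlgebraicGeometry

noncomputable section

namespace Groth.Agent.Adeq88

open Adeq

variable {P : MorphismProperty Scheme.{u}} (hP : GoodProp P) [BigSite.OSh (Scheme.precoverage P)] {T : Scheme.{u}}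

omit [BigSite.OSh (Scheme.precoverage P)] in
theorem affCov_prod (V : Over T) (hV : IsAffine V.left) (Y : Over V) (hY : AffCov P V Y) (n : ℕ)
    (a : Fin (n + 1) → PUnit.{u + 2}) :
    (∏ᶜ (Unr55.CechCartan.fam.{u + 1, u, u + 1} Y ∘ a)).left ∈ {V : Over T | IsAffine V.left} :=
  haveI : IsAffine V.left := hV
  isAffine_prod_over V (n + 1) _ fun _ => hY.1

theorem acyclic_injective (I : BigSite.Mod (Scheme.precoverage P) T) [Injective I] :
    Unr55.CechCartan.Acyclic.{u + 1, u, u + 1} {V : Over T | IsAffine V.left} (AffCov P)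
      ((BigSite.toAbMod (Scheme.precoverage P) T).obj I) := by
  intro V _ Y _ q
  haveI : Injective I.val := injective_val.{u + 1, u + 1, u} I
  exact cech_acyclic_of_injective.{u + 1, u + 1, u} (Unr55.CechCartan.fam.{u + 1, u, u + 1} Y) I.val q

include hP in
theorem surjective_sect_of_acyclic [IsZariskiLocalAtSource P] {C : ShortComplex (BigSite.Mod (Scheme.precoverage P) T)}
    (hC : C.ShortExact)
    (h : Unr55.CechCartan.Acyclic.{u + 1, u, u + 1} {V : Over T | IsAffine V.left} (AffCov P)
      ((BigSite.toAbMod (Scheme.precoverage P) T).obj C.X₁))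
    (V : Over T) [IsAffine V.left] : Function.Surjective (C.g.val.app (op V)) :=
  Unr55.CechCartan.surjective_sections.{u + 1, u, u + 1} {V : Over T | IsAffine V.left} (AffCov P)
    (fun V hV _ _ g _ s => haveI : IsAffine V.left := hV; exists_affCov_lift hP g V s)
    (hC.map_of_exact (BigSite.toAbMod (Scheme.precoverage P) T)) h V ‹IsAffine V.left›

include hP in
theorem acyclic_of_shortExact [IsZariskiLocalAtSource P] {C : ShortComplex (BigSite.Mod (Scheme.precoverage P) T)}
    (hC : C.ShortExact)
    (h : Unr55.CechCartan.Acyclic.{u + 1, u, u + 1} {V : Over T | IsAffine V.left} (AffCov P)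
      ((BigSite.toAbMod (Scheme.precoverage P) T).obj C.X₁))
    (h₂ : Unr55.CechCartan.Acyclic.{u + 1, u, u + 1} {V : Over T | IsAffine V.left} (AffCov P)
      ((BigSite.toAbMod (Scheme.precoverage P) T).obj C.X₂)) :
    Unr55.CechCartan.Acyclic.{u + 1, u, u + 1} {V : Over T | IsAffine V.left} (AffCov P)
      ((BigSite.toAbMod (Scheme.precoverage P) T).obj C.X₃) := by
  intro U hU Y hY q
  have hS := hC.map_of_exact (BigSite.toAbMod (Scheme.precoverage P) T)
  let S := C.map (BigSite.toAbMod (Scheme.precoverage P) T)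
  exact Unr55.CechFl.isZero_homology_of_exact'.{u + 1, u + 1, u} (Unr55.CechCartan.fam.{u + 1, u, u + 1} Y)
    (Functor.whiskerLeft (Over.forget U).op S.f.hom) (Functor.whiskerLeft (Over.forget U).op S.g.hom)
    (fun W => (Unr55.CechFl.exists_sections_preimage S hS W.unop.left 0 (map_zero _)).1)
    (fun W y hy => (Unr55.CechFl.exists_sections_preimage S hS W.unop.left y hy).2)
    (fun W z => ConcreteCategory.congr_hom
      (NatTrans.congr_app (congrArg InducedCategory.Hom.hom S.zero) _) z)
    q (fun a => Unr55.CechCartan.surjective_sections.{u + 1, u, u + 1} _ (AffCov P)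
      (fun V hV _ _ g _ s => haveI : IsAffine V.left := hV; exists_affCov_lift hP g V s) hS h _
      (affCov_prod U hU Y hY (q + 1) a))
    (h₂ U hU Y hY q) (h U hU Y hY (q + 1))

variable {M : BigSite.Mod (Scheme.precoverage P) T} (I : InjectiveResolution M)

/-- The cocycles. -/
abbrev coc (n : ℕ) : BigSite.Mod (Scheme.precoverage P) T := kernel (I.cocomplex.d n (n + 1))

/-- The short complex of the cocycles. -/
def cocycSC (n : ℕ) : ShortComplex (BigSite.Mod (Scheme.precoverage P) T) :=
  ShortComplex.mk (X₁ := coc I n) (X₂ := I.cocomplex.X n) (X₃ := coc I (n + 1)) (kernel.ι (I.cocomplex.d n (n + 1)))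
    (kernel.lift (I.cocomplex.d (n + 1) (n + 1 + 1)) (I.cocomplex.d n (n + 1)) (I.cocomplex.d_comp_d _ _ _))
    (by rw [← cancel_mono (kernel.ι (I.cocomplex.d (n + 1) (n + 1 + 1))), Category.assoc, kernel.lift_ι,
      kernel.condition, zero_comp])

theorem cocycSC_shortExact (n : ℕ) : (cocycSC I n).ShortExact := by
  haveI : Mono (cocycSC I n).f := inferInstanceAs (Mono (kernel.ι _))
  haveI : Epi (cocycSC I n).g := (I.exact_succ n).epi_kernelLift
  let φ : cocycSC I n ⟶ ShortComplex.mk _ _ (kernel.condition (I.cocomplex.d n (n + 1))) :=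
    { τ₁ := 𝟙 _
      τ₂ := 𝟙 _
      τ₃ := kernel.ι (I.cocomplex.d (n + 1) (n + 1 + 1))
      comm₁₂ := (Category.id_comp _).trans (Category.comp_id _).symm
      comm₂₃ := (Category.id_comp _).trans (kernel.lift_ι _ _ _).symm }
  haveI : Epi φ.τ₁ := inferInstanceAs (Epi (𝟙 _))
  haveI : IsIso φ.τ₂ := inferInstanceAs (IsIso (𝟙 _))
  haveI : Mono φ.τ₃ := inferInstanceAs (Mono (kernel.ι _))
  exact ⟨(ShortComplex.exact_iff_of_epi_of_isIso_of_mono φ).2
    (ShortComplex.exact_of_f_is_kernel _ (kernelIsKernel (I.cocomplex.d n (n + 1))))⟩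

include hP in
theorem acyclic_cocycles [IsZariskiLocalAtSource P] (hM : adequateMod (Scheme.precoverage P) T M) (n : ℕ) :
    Unr55.CechCartan.Acyclic.{u + 1, u, u + 1} {V : Over T | IsAffine V.left} (AffCov P)
      ((BigSite.toAbMod (Scheme.precoverage P) T).obj (kernel (I.cocomplex.d n (n + 1)))) := by
  induction n with
  | zero =>
    intro U hU Y hY q
    let e : M ≅ kernel (I.cocomplex.d 0 1) :=
      IsLimit.conePointUniqueUpToIso (t := Fork.ofι (kernel.ι (I.cocomplex.d 0 1)) _) I.isLimitKernelFork
        (kernelIsKernel (I.cocomplex.d 0 1))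
    exact (acyclic_adequate hP M hM U hU Y hY q).of_iso
      ((HomologicalComplex.homologyFunctor _ _ (q + 1)).mapIso
        ((cechComplexFunctor _).mapIso (Functor.isoWhiskerLeft (Over.forget U).op
          ((sheafToPresheaf _ _).mapIso ((BigSite.toAbMod (Scheme.precoverage P) T).mapIso e.symm)))))
  | succ n ih =>
    haveI : Injective (cocycSC I n).X₂ := I.injective n
    have h₂ := acyclic_injective (P := P) (cocycSC I n).X₂
    have h₃ := acyclic_of_shortExact hP (C := cocycSC I n) (cocycSC_shortExact I n) ih h₂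
    exact h₃

include hP in
theorem exists_preimage_succ [IsZariskiLocalAtSource P] (hM : adequateMod (Scheme.precoverage P) T M) (n : ℕ)
    (V : Over T) [IsAffine V.left] (x : (I.cocomplex.X (n + 1)).val.obj (op V))
    (hx : (I.cocomplex.d (n + 1) (n + 1 + 1)).val.app (op V) x = 0) :
    ∃ y, (I.cocomplex.d n (n + 1)).val.app (op V) y = x := by
  obtain ⟨z, hz⟩ := (sect_leftExact (C := ShortComplex.mk _ _ (kernel.condition (I.cocomplex.d (n + 1) (n + 1 + 1))))
    (ShortComplex.exact_of_f_is_kernel _ (kernelIsKernel _)) V).2 x hx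
  obtain ⟨y, hy⟩ := surjective_sect_of_acyclic hP (cocycSC_shortExact I n) (acyclic_cocycles hP I hM n) V z
  refine ⟨y, ?_⟩
  rw [← hz, ← hy]
  exact (congrArg (fun k : I.cocomplex.X n ⟶ I.cocomplex.X (n + 1) => k.val.app (op V) y)
    (kernel.lift_ι _ _ _)).symm

end Groth.Agent.Adeq88
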