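import Groth.Prelude.Def_Adeq
import Mathlib.Algebra.Category.ModuleCat.Presheaf.EpiMono
import Mathlib.Algebra.Homology.ShortComplex.ModuleCat

/-!
Element-level API for module-valued functors on algebras.
-/

set_option autoImplicit false

universe u

open CategoryTheory Limits Opposite TensorProduct

noncomputable section

namespace Groth.Agent.Adeq88

open Adeq

variable {A : Type u} [CommRing A]

/-- The value of a module-valued functor at an algebra. -/
abbrev Val (F : MVF A) (B : Alg A) : Type (u + 1) := F.obj (pt B)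

/-- A component of a morphism as a linear map. -/
def ap {F G : MVF A} (φ : F ⟶ G) (B : Alg A) : Val F B →ₗ[B] Val G B where
  toFun x := φ.app (pt B) x
  map_add' x y := map_add (φ.app (pt B)).hom x y
  map_smul' r x := (φ.app (pt B)).hom.map_smul r x

/-- A transition map as an additive map. -/
def res (F : MVF A) {B C : Alg A} (f : B ⟶ C) : Val F B →+ Val F C where
  toFun x := F.map (ptHom f) x
  map_zero' := map_zero (F.map (ptHom f)).hom
  map_add' x y := map_add (F.map (ptHom f)).hom x y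

theorem res_smul (F : MVF A) {B C : Alg A} (f : B ⟶ C) (b : B) (x : Val F B) :
    res F f (b • x) = f.hom b • res F f x :=
  F.map_smul (ptHom f) b x

theorem res_id (F : MVF A) (B : Alg A) (x : Val F B) : res F (𝟙 B) x = x := by
  show F.map (𝟙 (pt B)) x = x
  exact CategoryTheory.congr_fun (F.presheaf.map_id (pt B)) x

theorem res_comp (F : MVF A) {B C D : Alg A} (f : B ⟶ C) (g : C ⟶ D) (x : Val F B) :
    res F (f ≫ g) x = res F g (res F f x) :=
  F.map_comp_apply (ptHom f) (ptHom g) x

theorem ap_res {F G : MVF A} (φ : F ⟶ G) {B C : Alg A} (f : B ⟶ C) (x : Val F B) :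
    ap φ C (res F f x) = res G f (ap φ B x) :=
  PresheafOfModules.naturality_apply φ (ptHom f) x

theorem hom_ext {F G : MVF A} {φ ψ : F ⟶ G} (h : ∀ B x, ap φ B x = ap ψ B x) : φ = ψ := by
  ext X x
  exact h X.unop.unop x

@[simp] theorem ap_comp {F G H : MVF A} (φ : F ⟶ G) (ψ : G ⟶ H) (B : Alg A) (x : Val F B) :
    ap (φ ≫ ψ) B x = ap ψ B (ap φ B x) := rfl

@[simp] theorem ap_id (F : MVF A) (B : Alg A) (x : Val F B) : ap (𝟙 F) B x = x := rfl

@[simp] theorem ap_zero (F G : MVF A) (B : Alg A) (x : Val F B) : ap (0 : F ⟶ G) B x = 0 := rfl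

@[simp] theorem ap_add {F G : MVF A} (φ ψ : F ⟶ G) (B : Alg A) (x : Val F B) :
    ap (φ + ψ) B x = ap φ B x + ap ψ B x := rfl

@[simp] theorem ap_sub {F G : MVF A} (φ ψ : F ⟶ G) (B : Alg A) (x : Val F B) :
    ap (φ - ψ) B x = ap φ B x - ap ψ B x := rfl

theorem mono_iff {F G : MVF A} (φ : F ⟶ G) : Mono φ ↔ ∀ B, Function.Injective (ap φ B) :=
  ⟨fun _ B => PresheafOfModules.injective_of_mono φ (pt B),
    fun h => PresheafOfModules.mono_of_injective fun X => h X.unop.unop⟩

theorem epi_iff {F G : MVF A} (φ : F ⟶ G) : Epi φ ↔ ∀ B, Function.Surjective (ap φ B) :=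
  ⟨fun _ B => PresheafOfModules.surjective_of_epi φ (pt B),
    fun h => PresheafOfModules.epi_of_surjective fun X => h X.unop.unop⟩

theorem isIso_of_bijective {F G : MVF A} (φ : F ⟶ G)
    (h : ∀ B, Function.Bijective (ap φ B)) : IsIso φ := by
  have := (mono_iff φ).2 fun B => (h B).1
  have := (epi_iff φ).2 fun B => (h B).2
  exact isIso_of_mono_of_epi φ

theorem iso_inv_hom {F G : MVF A} (e : F ≅ G) (B : Alg A) (x : Val F B) :
    ap e.inv B (ap e.hom B x) = x := by
  rw [← ap_comp, e.hom_inv_id, ap_id]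

theorem iso_hom_inv {F G : MVF A} (e : F ≅ G) (B : Alg A) (x : Val G B) :
    ap e.hom B (ap e.inv B x) = x := by
  rw [← ap_comp, e.inv_hom_id, ap_id]

section Lift

variable {T F G : MVF A}

/-- Lift of a morphism through a valuewise injective morphism. -/
theorem exists_lift (ι : F ⟶ G) (hι : ∀ B, Function.Injective (ap ι B)) (g : T ⟶ G)
    (hg : ∀ B x, ap g B x ∈ Set.range (ap ι B)) : ∃ h : T ⟶ F, h ≫ ι = g := by
  choose f hf using hg
  refine ⟨⟨fun X => ModuleCat.ofHom
    { toFun := f X.unop.unop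
      map_add' := fun x y => hι _ ?_
      map_smul' := fun r x => hι _ ?_ }, ?_⟩, ?_⟩
  · exact (hf _ _).trans ((map_add _ x y).trans
      ((congrArg₂ (· + ·) (hf _ x) (hf _ y)).symm.trans (map_add _ _ _).symm))
  · exact (hf _ _).trans (((ap g _).map_smul r x).trans
      ((congrArg (r • ·) (hf _ x)).symm.trans ((ap ι _).map_smul r _).symm))
  · intro X Y k
    ext x
    refine hι Y.unop.unop ?_
    show ap ι Y.unop.unop (f Y.unop.unop (res T k.unop.unop x)) =
      ap ι Y.unop.unop (res F k.unop.unop (f X.unop.unop x))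
    rw [hf, ap_res, ap_res, hf]
  · exact hom_ext fun B x => hf B x

end Lift

section Underline

/-- The functor attached to a module. -/
abbrev uM (M : ModuleCat.{u + 1} A) : MVF A := (underline A).obj M

/-- The map attached to a linear map. -/
abbrev uMap {M N : ModuleCat.{u + 1} A} (g : M ⟶ N) : uM M ⟶ uM N := (underline A).map g

/-- The value of `uM M` is the tensor product. -/
def uval (M : ModuleCat.{u + 1} A) (B : Alg A) : Val (uM M) B ≃ₗ[B] (B ⊗[A] M) where
  toFun x := x
  invFun x := x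
  map_add' _ _ := rfl
  map_smul' _ _ := rfl
  left_inv _ := rfl
  right_inv _ := rfl

/-- A pure tensor in a value of `uM M`. -/
def pure (M : ModuleCat.{u + 1} A) {B : Alg A} (b : B) (m : M) : Val (uM M) B :=
  (uval M B).symm (b ⊗ₜ[A] m)

@[simp] theorem uval_pure (M : ModuleCat.{u + 1} A) {B : Alg A} (b : B) (m : M) :
    uval M B (pure M b m) = b ⊗ₜ[A] m := rfl

theorem uval_res (M : ModuleCat.{u + 1} A) {B C : Alg A} (f : B ⟶ C) (x : Val (uM M) B) :
    uval M C (res (uM M) f x) = f.hom.toLinearMap.rTensor M (uval M B x) := rfl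

theorem uval_ap {M N : ModuleCat.{u + 1} A} (g : M ⟶ N) (B : Alg A) (x : Val (uM M) B) :
    uval N B (ap (uMap g) B x) = g.hom.baseChange B (uval M B x) := rfl

@[simp] theorem res_pure (M : ModuleCat.{u + 1} A) {B C : Alg A} (f : B ⟶ C) (b : B) (m : M) :
    res (uM M) f (pure M b m) = pure M (f.hom b) m :=
  rfl

@[simp] theorem ap_pure {M N : ModuleCat.{u + 1} A} (g : M ⟶ N) {B : Alg A} (b : B) (m : M) :
    ap (uMap g) B (pure M b m) = pure N b (g.hom m) :=
  rfl

theorem pure_induction {M : ModuleCat.{u + 1} A} {B : Alg A} {P : Val (uM M) B → Prop}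
    (x : Val (uM M) B) (h0 : P 0) (hp : ∀ b m, P (pure M b m))
    (ha : ∀ x y, P x → P y → P (x + y)) : P x :=
  TensorProduct.induction_on (motive := P) x h0 hp ha

end Underline

section Pres

/-- A valuewise left exact presentation by underlined modules. -/
structure Pres (F : MVF A) where
  /-- The ambient module. -/
  M : ModuleCat.{u + 1} A
  /-- The target module. -/
  N : ModuleCat.{u + 1} A
  /-- The defining map. -/
  φ : M ⟶ N
  /-- The inclusion. -/
  ι : F ⟶ uM M
  inj : ∀ B, Function.Injective (ap ι B)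
  comp : ∀ B x, ap (uMap φ) B (ap ι B x) = 0
  exact : ∀ B y, ap (uMap φ) B y = 0 → y ∈ Set.range (ap ι B)

theorem Pres.comp_eq {F : MVF A} (p : Pres F) : p.ι ≫ uMap p.φ = 0 :=
  hom_ext fun B x => p.comp B x

theorem kernel_ι_inj {F G : MVF A} (f : F ⟶ G) (B : Alg A) :
    Function.Injective (ap (kernel.ι f) B) :=
  (mono_iff _).1 inferInstance B

theorem kernel_ι_comp {F G : MVF A} (f : F ⟶ G) (B : Alg A) (x : Val (kernel f) B) :
    ap f B (ap (kernel.ι f) B x) = 0 := by
  rw [← ap_comp, kernel.condition, ap_zero]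

theorem kernel_exact {F G : MVF A} (f : F ⟶ G) (B : Alg A) (y : Val F B) (hy : ap f B y = 0) :
    y ∈ Set.range (ap (kernel.ι f) B) := by
  have hS : (ShortComplex.mk (kernel.ι f) f (kernel.condition f)).Exact :=
    ShortComplex.exact_of_f_is_kernel _ (kernelIsKernel f)
  let ev := PresheafOfModules.evaluation.{u + 1} (ringOf A) (pt B)
  have : ev.Additive := PresheafOfModules.instAdditiveModuleCatCarrierObjOppositeRingCatEvaluation (R := ringOf A) (pt B)
  have : PreservesFiniteLimits ev := PresheafOfModules.evaluation_preservesFiniteLimits _ _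
  exact (ShortComplex.moduleCat_exact_iff _).1
    (hS.map_of_mono_of_preservesKernel ev inferInstance inferInstance) y hy

/-- The presentation of a kernel. -/
def Pres.ofKernel {M N : ModuleCat.{u + 1} A} (φ : M ⟶ N) : Pres (kernel (uMap φ)) where
  M := M
  N := N
  φ := φ
  ι := kernel.ι _
  inj := kernel_ι_inj _
  comp := kernel_ι_comp _
  exact := kernel_exact _

/-- Transport of a presentation along an isomorphism. -/
def Pres.ofIso {F G : MVF A} (p : Pres F) (e : G ≅ F) : Pres G where
  M := p.M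
  N := p.N
  φ := p.φ
  ι := e.hom ≫ p.ι
  inj B x y h := by
    rw [ap_comp, ap_comp] at h
    rw [← iso_inv_hom e B x, p.inj B h, iso_inv_hom]
  comp B x := p.comp B (ap e.hom B x)
  exact B y hy := by
    obtain ⟨x, rfl⟩ := p.exact B y hy
    exact ⟨ap e.inv B x, by rw [ap_comp, iso_hom_inv]⟩

theorem Pres.exists_lift {F T : MVF A} (p : Pres F) (g : T ⟶ uM p.M)
    (hg : ∀ B x, ap (uMap p.φ) B (ap g B x) = 0) : ∃ h : T ⟶ F, h ≫ p.ι = g :=
  Adeq88.exists_lift p.ι p.inj g fun B x => p.exact B _ (hg B x)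

theorem adequate_of_pres {F : MVF A} (p : Pres F) : adequate A F := by
  let c : F ⟶ kernel (uMap p.φ) := kernel.lift _ p.ι p.comp_eq
  have hc : c ≫ kernel.ι _ = p.ι := kernel.lift_ι _ _ _
  have hv : ∀ B x, ap (kernel.ι (uMap p.φ)) B (ap c B x) = ap p.ι B x := fun B x => by
    rw [← ap_comp, hc]
  have : IsIso c := isIso_of_bijective c fun B => ⟨fun x y h => p.inj B (by
      rw [← hv, ← hv, h]), fun y => by
      obtain ⟨x, hx⟩ := p.exact B _ (kernel_ι_comp _ B y)
      exact ⟨x, kernel_ι_inj _ B ((hv B x).trans hx)⟩⟩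
  exact ⟨p.M, p.N, p.φ, ⟨asIso c⟩⟩

theorem adequate_iff {F : MVF A} : adequate A F ↔ Nonempty (Pres F) :=
  ⟨fun ⟨_, _, φ, ⟨e⟩⟩ => ⟨(Pres.ofKernel φ).ofIso e⟩, fun ⟨p⟩ => adequate_of_pres p⟩

/-- `uM M` is adequate. -/
def presUM (M : ModuleCat.{u + 1} A) : Pres (uM M) where
  M := M
  N := M
  φ := 0
  ι := 𝟙 _
  inj _ _ _ h := h
  comp B x := by
    show ap ((underline A).map 0) B x = 0
    rw [Functor.map_zero, ap_zero]
  exact B y _ := ⟨y, rfl⟩

end Pres

end Groth.Agent.Adeq88
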