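import Groth.Agent.Adeq88.Local

/-!
Pullback along a morphism of schemes and the associated module-valued functors.
-/

set_option autoImplicit false

universe u

open CategoryTheory Limits Opposite AlgebraicGeometry

noncomputable section

namespace Groth.Agent.Adeq88

open Adeq

variable {K : Precoverage Scheme.{u}} [BigSite.OSh K] {S T : Scheme.{u}} (f : T ⟶ S)
  (M : BigSite.Mod K S) {R : CommRingCat.{u}} (b : Spec R ⟶ T)

/-- The comparison of objects of the big sites. -/
def pullIso (B : Alg R) :
    (specOver (b ≫ f)).obj (op B) ≅ (Over.map f).obj ((specOver b).obj (op B)) :=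
  Over.isoMk (Iso.refl _) (by
    show 𝟙 _ ≫ (Spec.map (CommRingCat.ofHom (algebraMap R B)) ≫ b) ≫ f =
      Spec.map (CommRingCat.ofHom (algebraMap R B)) ≫ b ≫ f
    rw [Category.id_comp, Category.assoc])

/-- The values of the pullback. -/
def pullVal (B : Alg R) :
    Val ((toMVF K b).obj ((BigSite.pullMod K f).obj M)) B ≃+
      M.val.obj (op ((Over.map f).obj ((specOver b).obj (op B)))) :=
  AddEquiv.refl _

/-- The comparison map on values. -/
def pullApp (B : Alg R) :
    Val ((toMVF K b).obj ((BigSite.pullMod K f).obj M)) B →ₗ[B] Val ((toMVF K (b ≫ f)).obj M) B where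
  toFun x := (mval M.val (b ≫ f) B).symm (sres M.val (pullIso f b B).hom (pullVal f M b B x))
  map_add' x y := by rw [map_add, map_add, map_add]; rfl
  map_smul' c x := by
    apply (mval M.val (b ≫ f) B).injective
    rw [RingHom.id_apply]
    show sres M.val (pullIso f b B).hom (pullVal f M b B (c • x)) =
      toSect K (b ≫ f) B c • sres M.val (pullIso f b B).hom (pullVal f M b B x)
    refine (M.val.map_smul (pullIso f b B).hom.op _ _).trans ?_
    congr 1

theorem pullApp_bijective (B : Alg R) : Function.Bijective (pullApp f M b B) :=
  (mval M.val (b ≫ f) B).symm.bijective.comp ((sres_bijective_of_iso M.val (pullIso f b B)).comp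
    (pullVal f M b B).bijective)

/-- The comparison of `F_{f^*M,R}` with `F_{M,R}`. -/
def pullHom : (toMVF K b).obj ((BigSite.pullMod K f).obj M) ⟶ (toMVF K (b ≫ f)).obj M where
  app X := by
    let m := ModuleCat.ofHom (pullApp f M b X.unop.unop)
    exact m
  naturality {X Y} g := by
    ext x
    have e : (specOver (b ≫ f)).map g.unop ≫ (pullIso f b X.unop.unop).hom =
        (pullIso f b Y.unop.unop).hom ≫ (Over.map f).map ((specOver b).map g.unop) := by
      apply Over.OverMorphism.ext
      exact (Category.comp_id _).trans (Category.id_comp _).symm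
    show sres M.val (pullIso f b Y.unop.unop).hom
        (sres M.val ((Over.map f).map ((specOver b).map g.unop)) (pullVal f M b X.unop.unop x)) =
      sres M.val ((specOver (b ≫ f)).map g.unop)
        (sres M.val (pullIso f b X.unop.unop).hom (pullVal f M b X.unop.unop x))
    rw [← sres_comp, ← sres_comp, e]

instance isIso_pullHom : IsIso (pullHom f M b) :=
  isIso_of_bijective _ (pullApp_bijective f M b)

theorem adequate_pull_iff :
    adequate R ((toMVF K b).obj ((BigSite.pullMod K f).obj M)) ↔
      adequate R ((toMVF K (b ≫ f)).obj M) :=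
  (adequate R).prop_iff_of_iso (asIso (pullHom f M b))

end Groth.Agent.Adeq88
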