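import Groth.Agent.Adeq88.CechGeo
import Groth.Agent.Adeq88.Pull

/-!
The Čech complex of an adequate module for a faithfully flat map of affine schemes.
-/

set_option autoImplicit false

universe u

open CategoryTheory Limits Opposite AlgebraicGeometry

noncomputable section

namespace Groth.Agent.Adeq88

open Adeq

variable (R : CommRingCat.{u}) (B : Type u) [CommRing B] [Algebra R B]
  {K : Precoverage Scheme.{u}} [BigSite.OSh K]
  (Q : PresheafOfModules.{u + 1} (BigSite.ORing K (Spec R)).obj)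

/-- Sections over a power as values. -/
def powVal (n : ℕ) : Q.obj (op (powObj R B n)) →+ Val ((toMVFPre K (𝟙 (Spec R))).obj Q) (powAlg R B n) :=
  (mval Q (𝟙 (Spec R)) _).symm.toAddMonoidHom.comp (sres Q (powIso R B n).hom)

theorem powVal_bijective (n : ℕ) : Function.Bijective (powVal R B Q n) :=
  (mval Q (𝟙 (Spec R)) _).symm.bijective.comp (sres_bijective_of_iso Q (powIso R B n))

theorem powVal_face {n m : ℕ} (g : Fin n → Fin m) (x : Q.obj (op (powObj R B n))) :
    powVal R B Q m (sres Q (powMap R B g) x) =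
      res _ (powHom R B g) (powVal R B Q n x) := by
  apply (mval Q (𝟙 (Spec R)) _).injective
  show sres Q (powIso R B m).hom (sres Q (powMap R B g) x) =
    sres Q ((specOver (𝟙 (Spec R))).map (powHom R B g).op) (sres Q (powIso R B n).hom x)
  rw [← sres_comp, ← sres_comp, powHom_spec]

theorem powVal_sum (n : ℕ) (x : Q.obj (op (powObj R B n))) :
    powVal R B Q (n + 1) (∑ j : Fin (n + 1), (-1 : ℤ) ^ (j : ℕ) • sres Q (powMap R B j.succAbove) x) =
      dF (powCoface R B) _ n (powVal R B Q n x) := by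
  rw [map_sum, dF_apply]
  exact Finset.sum_congr rfl fun j _ => by rw [map_zsmul, powVal_face]; rfl

theorem cech_exactAt [Module.FaithfullyFlat R B] (hF : adequate R ((toMVFPre K (𝟙 (Spec R))).obj Q))
    (n : ℕ) (hn : 0 < n) :
    ((cechComplexFunctor (A := AddCommGrpCat.{u + 1})
      (fun _ : PUnit.{u + 2} => covObj R B)).obj Q.presheaf).ExactAt n := by
  obtain ⟨p, rfl⟩ : ∃ p, n = p + 1 := ⟨n - 1, by omega⟩
  rw [HomologicalComplex.exactAt_iff_isZero_homology, Fib44.Cech.isZero_homology_succ_iff]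
  intro f hf
  let a₀ : ∀ m : ℕ, Fin m → PUnit.{u + 2} := fun _ _ => PUnit.unit
  let f₀ : Q.obj (op (powObj R B (p + 2))) := f (a₀ _)
  obtain ⟨y, hy⟩ := powCoface_exact hF (p + 1) (powVal R B Q (p + 2) f₀) (by
    refine (powVal_sum R B Q (p + 2) f₀).symm.trans ?_
    exact (congrArg (powVal R B Q (p + 3)) (show (∑ j : Fin (p + 3), (-1 : ℤ) ^ (j : ℕ) •
      sres Q (powMap R B j.succAbove) f₀) = 0 from hf (a₀ _))).trans (map_zero _))
  obtain ⟨z, rfl⟩ := (powVal_bijective R B Q (p + 1)).2 y
  rw [← powVal_sum] at hy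
  refine ⟨fun _ => z, fun b => ?_⟩
  exact (powVal_bijective R B Q (p + 2)).1 hy

end Groth.Agent.Adeq88
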