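import Groth.Agent.Adeq88.H1

/-!
Exactness of alternating coface sums with a contracting homotopy after a faithfully flat base change.
-/

set_option autoImplicit false

universe u v

open CategoryTheory Limits Opposite TensorProduct

noncomputable section

namespace Groth.Agent.Adeq88

open Adeq

variable {A : Type u} [CommRing A]

/-- A sequence of algebras with cofaces and a homotopy after base change to `E`. -/
structure ExtraCoface (A : Type u) [CommRing A] (E : Type u) [CommRing E] [Algebra A E] where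
  /-- The algebras. -/
  C : ℕ → Alg A
  /-- The cofaces. -/
  δ : ∀ n, Fin (n + 1) → (C n ⟶ C (n + 1))
  /-- The contracting maps. -/
  σ : ∀ n, (C (n + 1) : Type u) →ₐ[A] E ⊗[A] (C n : Type u)
  σ_zero : ∀ n c, σ n ((δ n 0).hom c) = 1 ⊗ₜ c
  σ_succ : ∀ n (j : Fin (n + 1)) c, σ (n + 1) ((δ (n + 1) j.succ).hom c) =
    Algebra.TensorProduct.map (AlgHom.id A E) (δ n j).hom (σ n c)

variable {E : Type u} [CommRing E] [Algebra A E] (X : ExtraCoface A E)

namespace ExtraCoface

/-- The alternating sum of the cofaces. -/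
def d (n : ℕ) : (X.C n : Type u) →ₗ[A] (X.C (n + 1) : Type u) :=
  ∑ j : Fin (n + 1), (-1 : ℤ) ^ (j : ℕ) • (X.δ n j).hom.toLinearMap

/-- The homotopy. -/
def h (n : ℕ) : E ⊗[A] (X.C (n + 1) : Type u) →ₐ[A] E ⊗[A] (X.C n : Type u) :=
  Algebra.TensorProduct.productMap Algebra.TensorProduct.includeLeft (X.σ n)

theorem h_tmul (n : ℕ) (e : E) (c : X.C (n + 1)) :
    X.h n (e ⊗ₜ c) = (e ⊗ₜ 1) * X.σ n c := rfl

theorem h_d_succ (n : ℕ) :
    (X.h (n + 1)).toLinearMap ∘ₗ (X.d (n + 1)).lTensor E + (X.d n).lTensor E ∘ₗ (X.h n).toLinearMap =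
      LinearMap.id := by
  refine TensorProduct.ext' fun e c => ?_
  rw [LinearMap.add_apply, LinearMap.comp_apply, LinearMap.comp_apply, LinearMap.lTensor_tmul,
    AlgHom.toLinearMap_apply, AlgHom.toLinearMap_apply, LinearMap.id_apply, h_tmul, d, d,
    Fin.sum_univ_succ]
  simp only [LinearMap.add_apply, LinearMap.coe_sum, Finset.sum_apply, LinearMap.smul_apply,
    AlgHom.toLinearMap_apply, map_add, map_sum, map_zsmul, h_tmul]
  rw [σ_zero, Fin.val_zero, pow_zero, one_smul, mul_add, Algebra.TensorProduct.tmul_mul_tmul, mul_one,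
    one_mul, Finset.mul_sum]
  have hs : ∀ (j : Fin (n + 1)) (z : E ⊗[A] (X.C n : Type u)),
      (X.δ n j).hom.toLinearMap.lTensor E ((e ⊗ₜ[A] (1 : X.C n)) * z) =
        (e ⊗ₜ[A] (1 : X.C (n + 1))) * Algebra.TensorProduct.map (AlgHom.id A E) (X.δ n j).hom z := by
    intro j z
    show Algebra.TensorProduct.map (AlgHom.id A E) (X.δ n j).hom ((e ⊗ₜ[A] (1 : X.C n)) * z) = _
    rw [map_mul, Algebra.TensorProduct.map_tmul, map_one]
    rfl
  have hl : LinearMap.lTensor E (∑ j : Fin (n + 1), (-1 : ℤ) ^ (j : ℕ) • (X.δ n j).hom.toLinearMap) =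
      ∑ j : Fin (n + 1), (-1 : ℤ) ^ (j : ℕ) • (X.δ n j).hom.toLinearMap.lTensor E :=
    (map_sum (LinearMap.lTensorHom E) _ _).trans (Finset.sum_congr rfl fun j _ => map_zsmul _ _ _)
  rw [hl, LinearMap.sum_apply, add_assoc, add_eq_left, ← Finset.sum_add_distrib]
  refine Finset.sum_eq_zero fun j _ => ?_
  rw [LinearMap.smul_apply, hs, σ_succ, mul_smul_comm, ← add_smul, Fin.val_succ, pow_succ]
  simp

theorem h_d_zero : (X.h 0).toLinearMap ∘ₗ (X.d 0).lTensor E = LinearMap.id := by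
  refine TensorProduct.ext' fun e c => ?_
  rw [LinearMap.comp_apply, LinearMap.lTensor_tmul, AlgHom.toLinearMap_apply, LinearMap.id_apply, d,
    Fin.sum_univ_one, Fin.val_zero, pow_zero, one_smul, AlgHom.toLinearMap_apply, h_tmul, σ_zero,
    Algebra.TensorProduct.tmul_mul_tmul, mul_one, one_mul]

variable (M : ModuleCat.{u + 1} A)

/-- Conjugation by the associator. -/
theorem lTensor_rTensor {P Q : Type u} [AddCommGroup P] [Module A P] [AddCommGroup Q] [Module A Q]
    (g : P →ₗ[A] Q) : (g.rTensor M).lTensor E =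
      (TensorProduct.assoc A E Q M).toLinearMap ∘ₗ (g.lTensor E).rTensor M ∘ₗ
        (TensorProduct.assoc A E P M).symm.toLinearMap := by
  ext e p m
  simp

variable [Module.FaithfullyFlat A E]

theorem d_rTensor_injective : Function.Injective ((X.d 0).rTensor M) := by
  refine (Module.FaithfullyFlat.lTensor_injective_iff_injective A E _).1 ?_
  rw [lTensor_rTensor]
  refine Function.LeftInverse.injective
    (g := fun z => TensorProduct.assoc A E _ M ((X.h 0).toLinearMap.rTensor M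
      ((TensorProduct.assoc A E _ M).symm z))) fun z => ?_
  simp only [LinearMap.comp_apply, LinearEquiv.coe_coe, LinearEquiv.symm_apply_apply]
  rw [← LinearMap.rTensor_comp_apply, h_d_zero, LinearMap.rTensor_id, LinearMap.id_apply,
    LinearEquiv.apply_symm_apply]

theorem d_rTensor_exact (n : ℕ) (x : (X.C (n + 1) : Type u) ⊗[A] M)
    (hx : (X.d (n + 1)).rTensor M x = 0) (hdd : X.d (n + 1) ∘ₗ X.d n = 0) :
    x ∈ Set.range ((X.d n).rTensor M) := by
  refine ((Module.FaithfullyFlat.lTensor_reflects_exact A E ((X.d n).rTensor M) ((X.d (n + 1)).rTensor M)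
    fun z => ⟨fun hz => ?_, ?_⟩) x).1 hx
  · refine ⟨TensorProduct.assoc A E _ M ((X.h n).toLinearMap.rTensor M
      ((TensorProduct.assoc A E _ M).symm z)), ?_⟩
    rw [lTensor_rTensor, LinearMap.comp_apply, LinearMap.comp_apply, LinearEquiv.coe_coe,
      LinearEquiv.map_eq_zero_iff, LinearEquiv.coe_coe] at hz
    rw [lTensor_rTensor, LinearMap.comp_apply, LinearMap.comp_apply, LinearEquiv.coe_coe,
      LinearEquiv.coe_coe, LinearEquiv.symm_apply_apply, ← LinearEquiv.eq_symm_apply,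
      ← LinearMap.rTensor_comp_apply]
    have := LinearMap.congr_fun (congrArg (LinearMap.rTensor (M : Type (u + 1))) (X.h_d_succ n))
      ((TensorProduct.assoc A E _ M).symm z)
    rw [LinearMap.rTensor_add, LinearMap.rTensor_id, LinearMap.add_apply, LinearMap.id_apply,
      LinearMap.rTensor_comp_apply, hz, map_zero, zero_add] at this
    exact this
  · rintro ⟨w, rfl⟩
    rw [← LinearMap.lTensor_comp_apply, ← LinearMap.rTensor_comp, hdd, LinearMap.rTensor_zero,
      LinearMap.lTensor_zero, LinearMap.zero_apply]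

end ExtraCoface

section Adequate

variable (hdd : ∀ n, X.d (n + 1) ∘ₗ X.d n = 0)

/-- The differential on values. -/
def dF (F : MVF A) (n : ℕ) : Val F (X.C n) →+ Val F (X.C (n + 1)) :=
  ∑ j : Fin (n + 1), (-1 : ℤ) ^ (j : ℕ) • res F (X.δ n j)

theorem dF_apply (F : MVF A) (n : ℕ) (x : Val F (X.C n)) :
    dF X F n x = ∑ j : Fin (n + 1), (-1 : ℤ) ^ (j : ℕ) • res F (X.δ n j) x := by
  simp [dF, AddMonoidHom.finsetSum_apply]

theorem ap_dF {F G : MVF A} (φ : F ⟶ G) (n : ℕ) (x : Val F (X.C n)) :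
    ap φ (X.C (n + 1)) (dF X F n x) = dF X G n (ap φ (X.C n) x) := by
  rw [dF_apply, dF_apply, map_sum]
  exact Finset.sum_congr rfl fun j _ => by rw [map_zsmul, ap_res]

theorem uval_dF (M : ModuleCat.{u + 1} A) (n : ℕ) (x : Val (uM M) (X.C n)) :
    uval M (X.C (n + 1)) (dF X (uM M) n x) = (X.d n).rTensor M (uval M (X.C n) x) := by
  rw [dF_apply, ExtraCoface.d, map_sum]
  refine Eq.trans ?_ (LinearMap.congr_fun (map_sum (LinearMap.rTensorHom (M : Type (u + 1))) _ _) _).symm
  rw [LinearMap.sum_apply]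
  refine Finset.sum_congr rfl fun j _ => ?_
  rw [map_zsmul, uval_res, map_zsmul]
  rfl

variable [Module.FaithfullyFlat A E]

theorem uM_dF_injective (M : ModuleCat.{u + 1} A) : Function.Injective (dF X (uM M) 0) :=
  fun x y h => (uval M _).injective (X.d_rTensor_injective M (by rw [← uval_dF, ← uval_dF, h]))

include hdd in
theorem uM_dF_exact (M : ModuleCat.{u + 1} A) (n : ℕ) (x : Val (uM M) (X.C (n + 1)))
    (hx : dF X (uM M) (n + 1) x = 0) : ∃ y, dF X (uM M) n y = x := by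
  obtain ⟨y, hy⟩ := X.d_rTensor_exact M n (uval M (X.C (n + 1)) x) (by rw [← uval_dF, hx, map_zero]) (hdd n)
  exact ⟨(uval M (X.C n)).symm y, (uval M (X.C (n + 1))).injective (by rw [uval_dF, LinearEquiv.apply_symm_apply, hy])⟩

include hdd in
theorem uM_dF_comp (M : ModuleCat.{u + 1} A) (n : ℕ) (y : Val (uM M) (X.C n)) :
    dF X (uM M) (n + 1) (dF X (uM M) n y) = 0 :=
  (uval M _).injective (by
    rw [uval_dF, uval_dF, map_zero, ← LinearMap.rTensor_comp_apply, hdd, LinearMap.rTensor_zero,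
      LinearMap.zero_apply])

include hdd in
theorem dF_exact {F : MVF A} (p : Pres F) (n : ℕ) (x : Val F (X.C (n + 1)))
    (hx : dF X F (n + 1) x = 0) : ∃ y, dF X F n y = x := by
  obtain ⟨m, hm⟩ := uM_dF_exact X hdd p.M n (ap p.ι (X.C (n + 1)) x) (by rw [← ap_dF, hx, map_zero])
  suffices h : ∃ m', dF X (uM p.M) n m' = ap p.ι (X.C (n + 1)) x ∧ ap (uMap p.φ) (X.C n) m' = 0 by
    obtain ⟨m', h1, h2⟩ := h
    obtain ⟨y, hy⟩ := p.exact (X.C n) m' h2
    exact ⟨y, p.inj _ (by rw [ap_dF, hy, h1])⟩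
  have hn : dF X (uM p.N) n (ap (uMap p.φ) (X.C n) m) = 0 := by rw [← ap_dF, hm, p.comp]
  cases n with
  | zero => exact ⟨m, hm, uM_dF_injective X p.N (by rw [hn, map_zero])⟩
  | succ n =>
    obtain ⟨n', hn'⟩ := uM_dF_exact X hdd p.N n _ hn
    let π : p.N ⟶ ModuleCat.of A (p.N ⧸ LinearMap.range p.φ.hom) :=
      ModuleCat.ofHom (LinearMap.range p.φ.hom).mkQ
    have hex : ∀ C : Alg A, Function.Exact (p.φ.hom.baseChange C) (π.hom.baseChange C) := fun C =>
      lTensor_exact (C : Type u) (LinearMap.exact_map_mkQ_range p.φ.hom) (Submodule.mkQ_surjective _)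
    have hπ : ∀ (C : Alg A) (z : Val (uM p.N) C), ap (uMap π) C z = 0 → z ∈ Set.range (ap (uMap p.φ) C) :=
      fun C z hz => by
        obtain ⟨w, hw⟩ := (hex C (uval p.N C z)).1 hz
        exact ⟨(uval p.M C).symm w, hw⟩
    have hπφ : ∀ (C : Alg A) (w : Val (uM p.M) C), ap (uMap π) C (ap (uMap p.φ) C w) = 0 :=
      fun C w => (hex C).apply_apply_eq_zero _
    have hc : dF X _ n (ap (uMap π) (X.C n) n') = 0 := by rw [← ap_dF, hn', hπφ]
    suffices h : ∃ m₁, dF X (uM p.N) n (ap (uMap p.φ) (X.C n) m₁) = ap (uMap p.φ) (X.C (n + 1)) m by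
      obtain ⟨m₁, hm₁⟩ := h
      exact ⟨m - dF X (uM p.M) n m₁, by rw [map_sub, uM_dF_comp X hdd, sub_zero, hm],
        by rw [map_sub, ap_dF, hm₁, sub_self]⟩
    cases n with
    | zero =>
      obtain ⟨m₁, rfl⟩ := hπ _ n' (uM_dF_injective X _ (by rw [hc, map_zero]))
      exact ⟨m₁, hn'⟩
    | succ n =>
      obtain ⟨c', hc'⟩ := uM_dF_exact X hdd _ n _ hc
      obtain ⟨w, hw⟩ := LinearMap.lTensor_surjective (X.C n : Type u)
        (Submodule.mkQ_surjective (LinearMap.range p.φ.hom)) (uval _ (X.C n) c')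
      have hw' : ap (uMap π) (X.C n) ((uval p.N (X.C n)).symm w) = c' := (uval _ (X.C n)).injective hw
      obtain ⟨m₁, hm₁⟩ := hπ _ (n' - dF X (uM p.N) n ((uval p.N (X.C n)).symm w)) (by
        rw [map_sub, ap_dF, hw', hc', sub_self])
      exact ⟨m₁, by rw [hm₁, map_sub, hn', uM_dF_comp X hdd, sub_zero]⟩

end Adequate

end Groth.Agent.Adeq88
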