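import Groth.Agent.Adeq88.ChangeRing
import Groth.Prelude.Def_Adeq2

/-!
Sections of a presheaf of modules over affine schemes: change of the affine object.
-/

set_option autoImplicit false

universe u

open CategoryTheory Limits Opposite AlgebraicGeometry

noncomputable section

namespace Groth.Agent.Adeq88

open Adeq

variable {K : Precoverage Scheme.{u}} [BigSite.OSh K] {S : Scheme.{u}}
  (P : PresheafOfModules.{u + 1} (BigSite.ORing K S).obj)

/-- The transition map of sections of a presheaf of modules, as an additive map. -/
def sres {U V : Over S} (h : V ⟶ U) : P.obj (op U) →+ P.obj (op V) where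
  toFun x := P.map h.op x
  map_zero' := map_zero (P.map h.op).hom
  map_add' x y := map_add (P.map h.op).hom x y

theorem sres_id (U : Over S) (x : P.obj (op U)) : sres P (𝟙 U) x = x :=
  CategoryTheory.congr_fun (P.presheaf.map_id (op U)) x

theorem sres_comp {U V W : Over S} (h : V ⟶ U) (k : W ⟶ V) (x : P.obj (op U)) :
    sres P (k ≫ h) x = sres P k (sres P h x) :=
  P.map_comp_apply h.op k.op x

theorem sres_bijective_of_iso {U V : Over S} (e : V ≅ U) : Function.Bijective (sres P e.hom) :=
  Function.bijective_iff_has_inverse.2 ⟨sres P e.inv,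
    fun x => by rw [← sres_comp, e.inv_hom_id, sres_id],
    fun x => by rw [← sres_comp, e.hom_inv_id, sres_id]⟩

variable {R : CommRingCat.{u}} (a : Spec R ⟶ S)

/-- The identification of values of `F_{P,R}` with sections. -/
def mval (B : Alg R) : Val ((toMVFPre K a).obj P) B ≃+ P.obj (op ((specOver a).obj (op B))) :=
  AddEquiv.refl _

theorem mval_res {B C : Alg R} (f : B ⟶ C) (x : Val ((toMVFPre K a).obj P) B) :
    mval P a C (res _ f x) = sres P ((specOver a).map f.op) (mval P a B x) := rfl

theorem mval_smul (B : Alg R) (b : B) (x : Val ((toMVFPre K a).obj P) B) :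
    mval P a B (b • x) = toSect K a B b • mval P a B x := rfl

theorem mval_ap {Q : PresheafOfModules.{u + 1} (BigSite.ORing K S).obj} (ψ : P ⟶ Q) (B : Alg R)
    (x : Val ((toMVFPre K a).obj P) B) :
    mval Q a B (ap ((toMVFPre K a).map ψ) B x) = ψ.app _ (mval P a B x) := rfl

variable {R' : CommRingCat.{u}} [Algebra R R'] (a' : Spec R' ⟶ S)
  (h : Spec.map (CommRingCat.ofHom (algebraMap R R')) ≫ a = a')

/-- The comparison of the objects of the big site. -/
def overIso (B : Alg R') :
    (specOver a').obj (op B) ≅ (specOver a).obj (op (rA (R : Type u) (R' : Type u) B)) :=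
  Over.isoMk (Iso.refl _) (by
    show 𝟙 _ ≫ Spec.map (CommRingCat.ofHom ((algebraMap R' B).comp (algebraMap R R'))) ≫ a =
      Spec.map (CommRingCat.ofHom (algebraMap R' B)) ≫ a'
    rw [Category.id_comp, CommRingCat.ofHom_comp, Spec.map_comp, Category.assoc, h])

/-- The comparison map on values. -/
def overApp (B : Alg R') :
    Val ((restr (R : Type u) (R' : Type u)).obj ((toMVFPre K a).obj P)) B →ₗ[B]
      Val ((toMVFPre K a').obj P) B where
  toFun x := (mval P a' B).symm (sres P (overIso a a' h B).hom
    (mval P a (rA (R : Type u) (R' : Type u) B) (rval (R : Type u) (R' : Type u) _ B x)))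
  map_add' x y := by rw [map_add, map_add, map_add, map_add]
  map_smul' b x := by
    apply (mval P a' B).injective
    rw [rval_smul, mval_smul, RingHom.id_apply, mval_smul]
    refine ((P.map_smul (overIso a a' h B).hom.op _ _).trans ?_)
    congr 1

theorem overApp_bijective (B : Alg R') : Function.Bijective (overApp P a a' h B) :=
  (mval P a' B).symm.bijective.comp ((sres_bijective_of_iso P (overIso a a' h B)).comp
    ((mval P a _).bijective.comp (rval (R : Type u) (R' : Type u) _ B).bijective))

/-- The comparison of `F_{P,R'}` with the restriction of `F_{P,R}`. -/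
def overHom : (restr (R : Type u) (R' : Type u)).obj ((toMVFPre K a).obj P) ⟶ (toMVFPre K a').obj P where
  app X := by
    let m := ModuleCat.ofHom (overApp P a a' h X.unop.unop)
    exact m
  naturality {X Y} f := by
    ext x
    have e : (specOver a').map f.unop ≫ (overIso a a' h X.unop.unop).hom =
        (overIso a a' h Y.unop.unop).hom ≫
          (specOver a).map ((Alg.restr (R : Type u) (R' : Type u)).map f.unop.unop).op := by
      apply Over.OverMorphism.ext
      exact (Category.comp_id _).trans (Category.id_comp _).symm
    show sres P (overIso a a' h Y.unop.unop).hom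
        (sres P ((specOver a).map ((Alg.restr (R : Type u) (R' : Type u)).map f.unop.unop).op)
          (mval P a _ (rval (R : Type u) (R' : Type u) _ X.unop.unop x))) =
      sres P ((specOver a').map f.unop) (sres P (overIso a a' h X.unop.unop).hom
        (mval P a _ (rval (R : Type u) (R' : Type u) _ X.unop.unop x)))
    rw [← sres_comp, ← sres_comp, e]

include h in
theorem adequate_over (hF : adequate R ((toMVFPre K a).obj P)) :
    adequate R' ((toMVFPre K a').obj P) := by
  have : IsIso (overHom P a a' h) := isIso_of_bijective _ (overApp_bijective P a a' h)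
  exact (adequate (R' : Type u)).prop_of_iso (asIso (overHom P a a' h))
    (adequate_restr (R : Type u) (R' : Type u) hF)

include h in
theorem adequate_restr_over (hF : adequate R' ((toMVFPre K a').obj P)) :
    adequate R' ((restr (R : Type u) (R' : Type u)).obj ((toMVFPre K a).obj P)) := by
  have : IsIso (overHom P a a' h) := isIso_of_bijective _ (overApp_bijective P a a' h)
  exact (adequate (R' : Type u)).prop_of_iso (asIso (overHom P a a' h)).symm hF

omit [Algebra R R'] in
theorem adequate_of_factor (g : Spec R' ⟶ Spec R) (hg : g ≫ a = a')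
    (hF : adequate R ((toMVFPre K a).obj P)) : adequate R' ((toMVFPre K a').obj P) := by
  let : Algebra R R' := (Spec.preimage g).hom.toAlgebra
  refine adequate_over P a a' ?_ hF
  show Spec.map (CommRingCat.ofHom (Spec.preimage g).hom) ≫ a = a'
  rw [CommRingCat.ofHom_hom, Spec.map_preimage, hg]

end Groth.Agent.Adeq88
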