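import Groth.Agent.Adeq88.CechAlg
import Groth.Agent.Adeq88.Over
import Groth.Agent.Fib44.CechExplicit
import Mathlib.AlgebraicGeometry.Morphisms.Affine
import Mathlib.AlgebraicTopology.AlternatingFaceMapComplex

/-!
The powers of an affine scheme over an affine base.
-/

set_option autoImplicit false

universe u

open CategoryTheory Limits Opposite AlgebraicGeometry TensorProduct

noncomputable section

namespace Groth.Agent.Adeq88

open Adeq

variable (R : CommRingCat.{u}) (B : Type u) [CommRing B] [Algebra R B]

/-- The covering object. -/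
abbrev covObj : Over (Spec R) := Over.mk (Spec.map (CommRingCat.ofHom (algebraMap R B)))

/-- The powers of the covering object. -/
abbrev powObj (n : ℕ) : Over (Spec R) := ∏ᶜ fun _ : Fin n => covObj R B

/-- The map of powers attached to a map of index sets. -/
abbrev powMap {n m : ℕ} (g : Fin n → Fin m) : powObj R B m ⟶ powObj R B n :=
  Pi.lift fun k => Pi.π (fun _ : Fin m => covObj R B) (g k)

theorem isAffine_powObj : ∀ n, IsAffine (powObj R B n).left
  | 0 => by
    let t : Over (Spec R) := Over.mk (𝟙 (Spec R))
    let e : powObj R B 0 ≅ t :=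
      { hom := Over.homMk (powObj R B 0).hom (Category.comp_id _)
        inv := Pi.lift fun k => k.elim0
        hom_inv_id := Pi.hom_ext _ _ fun k => k.elim0
        inv_hom_id := Over.OverMorphism.ext (by
          show (Pi.lift fun k : Fin 0 => (k.elim0 : t ⟶ covObj R B)).left ≫ (powObj R B 0).hom = 𝟙 _
          exact Over.w _) }
    have : IsAffine ((Over.forget (Spec R)).obj t) := inferInstanceAs (IsAffine (Spec R))
    exact IsAffine.of_isIso ((Over.forget _).mapIso e).hom
  | n + 1 => by
    have := isAffine_powObj n
    have : IsAffine (covObj R B).left := inferInstanceAs (IsAffine (Spec _))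
    let T : Over (Spec R) := Over.mk (pullback.fst (covObj R B).hom (powObj R B n).hom ≫ (covObj R B).hom)
    let t0 : T ⟶ covObj R B := Over.homMk (pullback.fst _ _) rfl
    let t1 : T ⟶ powObj R B n := Over.homMk (pullback.snd _ _) pullback.condition.symm
    let q0 := Pi.π (fun _ : Fin (n + 1) => covObj R B) 0
    let q1 : powObj R B (n + 1) ⟶ powObj R B n := powMap R B Fin.succ
    let e : powObj R B (n + 1) ≅ T :=
      { hom := Over.homMk (pullback.lift q0.left q1.left ((Over.w q0).trans (Over.w q1).symm)) (by
          show pullback.lift q0.left q1.left _ ≫ pullback.fst _ _ ≫ _ = _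
          rw [pullback.lift_fst_assoc]; exact Over.w q0)
        inv := Pi.lift (Fin.cons t0 fun k => t1 ≫ Pi.π _ k)
        hom_inv_id := by
          refine Pi.hom_ext _ _ fun k => ?_
          rw [Category.assoc, Pi.lift_π, Category.id_comp]
          induction k using Fin.cases with
          | zero => exact Over.OverMorphism.ext (pullback.lift_fst _ _ _)
          | succ k =>
            rw [Fin.cons_succ, ← Category.assoc]
            refine Eq.trans (congrArg (· ≫ Pi.π _ k) (Over.OverMorphism.ext (g := q1) (pullback.lift_snd _ _ _))) ?_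
            exact Pi.lift_π _ k
        inv_hom_id := Over.OverMorphism.ext (by
          apply pullback.hom_ext
          · show ((Pi.lift (Fin.cons t0 fun k => t1 ≫ Pi.π _ k)).left ≫
              pullback.lift q0.left q1.left _) ≫ pullback.fst _ _ = 𝟙 _ ≫ pullback.fst _ _
            rw [Category.assoc, pullback.lift_fst, ← Over.comp_left, Pi.lift_π, Category.id_comp]
            rfl
          · show ((Pi.lift (Fin.cons t0 fun k => t1 ≫ Pi.π _ k)).left ≫
              pullback.lift q0.left q1.left _) ≫ pullback.snd _ _ = 𝟙 _ ≫ pullback.snd _ _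
            rw [Category.assoc, pullback.lift_snd, ← Over.comp_left, Category.id_comp]
            refine (congrArg CommaMorphism.left (show _ = t1 from Pi.hom_ext _ _ fun k => ?_))
            rw [Category.assoc, Pi.lift_π, Pi.lift_π, Fin.cons_succ]) }
    have : IsAffine ((Over.forget (Spec R)).obj T) :=
      inferInstanceAs (IsAffine (pullback (covObj R B).hom (powObj R B n).hom))
    exact IsAffine.of_isIso ((Over.forget _).mapIso e).hom

/-- The ring of functions of a power. -/
def powRingHom (n : ℕ) : R ⟶ Γ((powObj R B n).left, ⊤) :=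
  (Scheme.ΓSpecIso R).inv ≫ (powObj R B n).hom.appTop

instance powAlgebra (n : ℕ) : Algebra R Γ((powObj R B n).left, ⊤) := (powRingHom R B n).hom.toAlgebra

/-- The algebra of a power. -/
def powAlg (n : ℕ) : Alg R :=
  algOf (R : Type u) (Γ((powObj R B n).left, ⊤) : Type u)

/-- The affine model of a power. -/
def powIso (n : ℕ) : (specOver (𝟙 (Spec R))).obj (op (powAlg R B n)) ≅ powObj R B n := by
  have := isAffine_powObj R B n
  refine Over.isoMk (powObj R B n).left.isoSpec.symm ?_
  show (powObj R B n).left.isoSpec.inv ≫ (powObj R B n).hom = Spec.map (powRingHom R B n) ≫ 𝟙 _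
  rw [Category.comp_id, powRingHom, Spec.map_comp]
  have : Spec.map (Scheme.ΓSpecIso R).inv = (Spec R).isoSpec.inv := by
    rw [Scheme.isoSpec_Spec_inv]
  rw [this, Iso.inv_comp_eq, ← Category.assoc, Iso.eq_comp_inv, Scheme.isoSpec_hom_naturality]

/-- The affine functor is fully faithful. -/
theorem specOver_full {C D : Alg R} (h : (specOver (𝟙 (Spec R))).obj (op C) ⟶ (specOver (𝟙 (Spec R))).obj (op D)) :
    ∃ f : D ⟶ C, (specOver (𝟙 (Spec R))).map f.op = h := by
  let φ : CommRingCat.of D ⟶ CommRingCat.of C := Spec.preimage h.left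
  have hφ : Spec.map φ = h.left := Spec.map_preimage _
  have hw : CommRingCat.ofHom (algebraMap R D) ≫ φ = CommRingCat.ofHom (algebraMap R C) := by
    apply Spec.map_injective
    rw [Spec.map_comp, hφ]
    exact (cancel_mono (𝟙 (Spec R))).1 ((Category.assoc _ _ _).trans (Over.w h))
  refine ⟨CommAlgCat.ofHom
    { φ.hom with commutes' := fun r => congrArg (fun m : CommRingCat.of R ⟶ CommRingCat.of C => m.hom r) hw },
    Over.OverMorphism.ext ?_⟩
  exact hφ

theorem specOver_faithful {C D : Alg R} {f g : D ⟶ C}
    (h : (specOver (𝟙 (Spec R))).map f.op = (specOver (𝟙 (Spec R))).map g.op) : f = g :=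
  CommAlgCat.hom_ext (AlgHom.ext fun x =>
    congrArg (fun m : CommRingCat.of D ⟶ CommRingCat.of C => m.hom x)
      (Spec.map_injective (congrArg CommaMorphism.left h)))

/-- The algebra map attached to a map of powers. -/
def powHom {n m : ℕ} (g : Fin n → Fin m) : powAlg R B n ⟶ powAlg R B m :=
  (specOver_full R ((powIso R B m).hom ≫ powMap R B g ≫ (powIso R B n).inv)).choose

theorem powHom_spec {n m : ℕ} (g : Fin n → Fin m) :
    (specOver (𝟙 (Spec R))).map (powHom R B g).op ≫ (powIso R B n).hom =
      (powIso R B m).hom ≫ powMap R B g := by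
  rw [powHom, (specOver_full R _).choose_spec, Category.assoc, Category.assoc, Iso.inv_hom_id,
    Category.comp_id]

theorem powHom_comp {n m l : ℕ} (g : Fin n → Fin m) (g' : Fin m → Fin l) :
    powHom R B g ≫ powHom R B g' = powHom R B (g' ∘ g) := by
  apply specOver_faithful
  rw [← cancel_mono (powIso R B n).hom, op_comp, Functor.map_comp, Category.assoc, powHom_spec,
    powHom_spec, ← Category.assoc, powHom_spec, Category.assoc]
  refine congrArg _ (Pi.hom_ext _ _ fun k => ?_)
  rw [Category.assoc, Pi.lift_π, Pi.lift_π, Pi.lift_π]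
  rfl

theorem powHom_id (n : ℕ) : powHom R B (id : Fin n → Fin n) = 𝟙 _ := by
  apply specOver_faithful
  rw [← cancel_mono (powIso R B n).hom, powHom_spec, op_id, CategoryTheory.Functor.map_id, Category.id_comp]
  exact (congrArg _ (Pi.hom_ext _ (𝟙 _) fun k => by rw [Pi.lift_π, Category.id_comp]; rfl)).trans
    (Category.comp_id _)

/-- The product with the covering object, as an algebra. -/
abbrev covTensor (n : ℕ) : Alg R := algOf (R : Type u) (B ⊗[R] (powAlg R B n : Type u))

/-- The second projection of the product with the covering object. -/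
abbrev covSnd (n : ℕ) : powAlg R B n ⟶ covTensor R B n :=
  CommAlgCat.ofHom Algebra.TensorProduct.includeRight

/-- The first projection of the product with the covering object. -/
def covFst (n : ℕ) : (specOver (𝟙 (Spec R))).obj (op (covTensor R B n)) ⟶ covObj R B :=
  Over.homMk (Spec.map (CommRingCat.ofHom
    (Algebra.TensorProduct.includeLeftRingHom : B →+* B ⊗[R] (powAlg R B n : Type u)))) (by
    show _ ≫ Spec.map _ = Spec.map _ ≫ 𝟙 _
    rw [Category.comp_id, ← Spec.map_comp]
    exact congrArg Spec.map (CommRingCat.hom_ext (RingHom.ext fun r => rfl)))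

/-- The extended section on powers. -/
def consMap (n : ℕ) : (specOver (𝟙 (Spec R))).obj (op (covTensor R B n)) ⟶ powObj R B (n + 1) :=
  Pi.lift (Fin.cons (covFst R B n)
    fun k => (specOver (𝟙 (Spec R))).map (covSnd R B n).op ≫ (powIso R B n).hom ≫ Pi.π _ k)

/-- The extra codegeneracy. -/
def extraHom (n : ℕ) : powAlg R B (n + 1) ⟶ covTensor R B n :=
  (specOver_full R (consMap R B n ≫ (powIso R B (n + 1)).inv)).choose

theorem extraHom_spec (n : ℕ) :
    (specOver (𝟙 (Spec R))).map (extraHom R B n).op ≫ (powIso R B (n + 1)).hom = consMap R B n := by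
  rw [extraHom, (specOver_full R _).choose_spec, Category.assoc, Iso.inv_hom_id, Category.comp_id]

/-- The cofaces. -/
abbrev powδ (n : ℕ) (j : Fin (n + 1)) : powAlg R B n ⟶ powAlg R B (n + 1) := powHom R B j.succAbove

theorem extra_zero (n : ℕ) : powδ R B n 0 ≫ extraHom R B n = covSnd R B n := by
  apply specOver_faithful
  rw [← cancel_mono (powIso R B n).hom, op_comp, Functor.map_comp, Category.assoc, powHom_spec,
    ← Category.assoc, extraHom_spec]
  refine Pi.hom_ext _ _ fun k => ?_
  rw [consMap, Category.assoc, Pi.lift_π, Pi.lift_π, Fin.succAbove_zero, Fin.cons_succ, Category.assoc]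

theorem extra_succ (n : ℕ) (j : Fin (n + 1)) :
    powδ R B (n + 1) j.succ ≫ extraHom R B (n + 1) =
      extraHom R B n ≫
        (CommAlgCat.ofHom (Algebra.TensorProduct.map (AlgHom.id R B) (powδ R B n j).hom) :
          covTensor R B n ⟶ covTensor R B (n + 1)) := by
  let t : covTensor R B n ⟶ covTensor R B (n + 1) :=
    CommAlgCat.ofHom (Algebra.TensorProduct.map (AlgHom.id R B) (powδ R B n j).hom)
  have htr : covSnd R B n ≫ t = powδ R B n j ≫ covSnd R B (n + 1) :=
    CommAlgCat.hom_ext (AlgHom.ext fun x => by
      show Algebra.TensorProduct.map (AlgHom.id (R : Type u) B) (powδ R B n j).hom ((1 : B) ⊗ₜ[(R : Type u)] x) = _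
      rw [Algebra.TensorProduct.map_tmul, map_one]
      rfl)
  have htl : (specOver (𝟙 (Spec R))).map t.op ≫ covFst R B n = covFst R B (n + 1) :=
    Over.OverMorphism.ext (by
      show Spec.map _ ≫ Spec.map _ = Spec.map _
      rw [← Spec.map_comp]
      refine congrArg Spec.map (CommRingCat.hom_ext (RingHom.ext fun b => ?_))
      show Algebra.TensorProduct.map (AlgHom.id R B) (powδ R B n j).hom (b ⊗ₜ[(R : Type u)] 1) = b ⊗ₜ 1
      rw [Algebra.TensorProduct.map_tmul, map_one]
      rfl)
  show _ = extraHom R B n ≫ t
  apply specOver_faithful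
  rw [← cancel_mono (powIso R B (n + 1)).hom, op_comp, op_comp, Functor.map_comp, Functor.map_comp,
    Category.assoc, Category.assoc, powHom_spec, extraHom_spec, ← Category.assoc, extraHom_spec]
  refine Pi.hom_ext _ _ fun k => ?_
  rw [consMap, consMap, Category.assoc, Category.assoc, Pi.lift_π, Pi.lift_π, Pi.lift_π]
  induction k using Fin.cases with
  | zero => rw [Fin.succ_succAbove_zero, Fin.cons_zero, Fin.cons_zero, htl]
  | succ k =>
    rw [Fin.succ_succAbove_succ, Fin.cons_succ, Fin.cons_succ, ← Category.assoc ((specOver _).map t.op),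
      ← Functor.map_comp, ← op_comp, htr, op_comp, Functor.map_comp, Category.assoc,
      ← Category.assoc ((specOver _).map (powδ R B n j).op), powHom_spec, Category.assoc, Pi.lift_π]

/-- The data of the powers. -/
def powCoface : ExtraCoface (R : Type u) B where
  C := powAlg R B
  δ := powδ R B
  σ n := (extraHom R B n).hom
  σ_zero n c := congrArg (fun m : powAlg R B n ⟶ covTensor R B n => m.hom c) (extra_zero R B n)
  σ_succ n j c := congrArg (fun m : powAlg R B (n + 1) ⟶ covTensor R B (n + 1) => m.hom c) (extra_succ R B n j)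

/-- The cosimplicial module of the powers. -/
def powCosimplicial : CosimplicialObject (ModuleCat.{u} R) where
  obj x := ModuleCat.of R (powAlg R B (x.len + 1) : Type u)
  map θ := ModuleCat.ofHom (powHom R B θ.toOrderHom).hom.toLinearMap
  map_id x := ModuleCat.hom_ext (LinearMap.ext fun c => by
    show (powHom R B id).hom c = c
    rw [powHom_id]; rfl)
  map_comp {x y z} θ θ' := ModuleCat.hom_ext (LinearMap.ext fun c => by
    show (powHom R B (θ'.toOrderHom ∘ θ.toOrderHom)).hom c = (powHom R B θ'.toOrderHom).hom ((powHom R B θ.toOrderHom).hom c)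
    rw [← powHom_comp]; rfl)

theorem powCoface_dd (n : ℕ) : (powCoface R B).d (n + 1) ∘ₗ (powCoface R B).d n = 0 := by
  have hobjD : ∀ m, (powCoface R B).d (m + 1) =
      (AlgebraicTopology.AlternatingCofaceMapComplex.objD (powCosimplicial R B) m).hom := fun m => by
    rw [ExtraCoface.d, AlgebraicTopology.AlternatingCofaceMapComplex.objD, ModuleCat.hom_sum]
    refine Finset.sum_congr rfl fun j _ => ?_
    rw [ModuleCat.hom_zsmul]
    rfl
  cases n with
  | zero =>
    refine LinearMap.ext fun c => ?_
    have h0 : powδ R B 0 0 ≫ powδ R B 1 0 = powδ R B 0 0 ≫ powδ R B 1 1 := by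
      rw [powHom_comp, powHom_comp]
      exact congrArg (powHom R B) (funext fun k => k.elim0)
    rw [LinearMap.comp_apply, ExtraCoface.d, ExtraCoface.d, Fin.sum_univ_one, Fin.sum_univ_two,
      LinearMap.add_apply, LinearMap.smul_apply, LinearMap.smul_apply, LinearMap.smul_apply,
      LinearMap.zero_apply]
    have h1 := congrArg (fun m : powAlg R B 0 ⟶ powAlg R B 2 => m.hom c) h0
    simp only [CommAlgCat.hom_comp, AlgHom.comp_apply] at h1
    simp only [powCoface, Fin.val_zero, Fin.val_one, pow_zero, pow_one, one_smul, neg_one_smul,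
      AlgHom.toLinearMap_apply]
    erw [one_smul, one_smul, neg_one_smul]
    exact (congrArg (fun z => z + -((powδ R B 1 1).hom ((powδ R B 0 0).hom c))) h1).trans (add_neg_cancel _)
  | succ n =>
    rw [hobjD, hobjD]
    exact congrArg ModuleCat.Hom.hom
      (AlgebraicTopology.AlternatingCofaceMapComplex.d_squared (powCosimplicial R B) n)

variable {R B} in
/-- The differentials are exact on the values of an adequate functor. -/
theorem powCoface_exact [Module.FaithfullyFlat R B] {F : MVF R} (hF : adequate R F) (n : ℕ)
    (x : Val F (powAlg R B (n + 1))) (hx : dF (powCoface R B) F (n + 1) x = 0) :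
    ∃ y, dF (powCoface R B) F n y = x :=
  (adequate_iff.1 hF).elim fun p => dF_exact (powCoface R B) (powCoface_dd R B) p n x hx

end Groth.Agent.Adeq88
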