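import Groth.Agent.Adeq88.Cech
import Mathlib.CategoryTheory.Limits.Preserves.Shapes.Products

/-!
The Čech complex of an adequate module read on a category with products mapping to the big site of an affine scheme.
-/

set_option autoImplicit false
set_option backward.isDefEq.respectTransparency false

universe u

open CategoryTheory Limits Opposite AlgebraicGeometry

noncomputable section

namespace Groth.Agent.Adeq88

open Adeq

variable (R : CommRingCat.{u}) (B : Type u) [CommRing B] [Algebra R B]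
  {K : Precoverage Scheme.{u}} [BigSite.OSh K]
  (Q : PresheafOfModules.{u + 1} (BigSite.ORing K (Spec R)).obj)
  {C : Type (u + 1)} [Category.{u} C] [HasFiniteProducts C] (G : C ⥤ Over (Spec R))
  [∀ n, PreservesLimitsOfShape (Discrete (Fin n)) G] {Y : C} (e : G.obj Y ≅ covObj R B)

/-- The powers of an object of the category. -/
abbrev cpow (n : ℕ) : C := ∏ᶜ fun _ : Fin n => Y

/-- The comparison of powers. -/
def cpowIso (n : ℕ) : G.obj (cpow (Y := Y) n) ≅ powObj R B n :=
  PreservesProduct.iso G (fun _ : Fin n => Y) ≪≫ Pi.mapIso fun _ => e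

theorem cpowIso_hom_π (n : ℕ) (k : Fin n) :
    (cpowIso R B G e n).hom ≫ Pi.π (fun _ : Fin n => covObj R B) k =
      G.map (Pi.π (fun _ : Fin n => Y) k) ≫ e.hom := by
  simp [cpowIso, PreservesProduct.iso_hom]

theorem cpowIso_face {n m : ℕ} (g : Fin n → Fin m) :
    (cpowIso R B G e m).inv ≫ G.map (Pi.lift fun k => Pi.π (fun _ : Fin m => Y) (g k)) =
      powMap R B g ≫ (cpowIso R B G e n).inv := by
  rw [Iso.inv_comp_eq, ← Category.assoc, Iso.eq_comp_inv]
  refine Pi.hom_ext _ _ fun k => ?_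
  rw [Category.assoc, Category.assoc, cpowIso_hom_π, Pi.lift_π, cpowIso_hom_π, ← Category.assoc, ← G.map_comp,
    Pi.lift_π]

/-- Sections over the powers of an object. -/
def cpowVal (n : ℕ) : Q.obj (op (G.obj (cpow (Y := Y) n))) →+ Q.obj (op (powObj R B n)) :=
  sres Q (cpowIso R B G e n).inv

theorem cpowVal_bijective (n : ℕ) : Function.Bijective (cpowVal R B Q G e n) :=
  sres_bijective_of_iso Q (cpowIso R B G e n).symm

theorem cpowVal_sum (n : ℕ) (x : Q.obj (op (G.obj (cpow (Y := Y) n)))) :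
    cpowVal R B Q G e (n + 1) (∑ j : Fin (n + 1), (-1 : ℤ) ^ (j : ℕ) •
        sres Q (G.map (Pi.lift fun k => Pi.π (fun _ : Fin (n + 1) => Y) (j.succAbove k))) x) =
      ∑ j : Fin (n + 1), (-1 : ℤ) ^ (j : ℕ) • sres Q (powMap R B j.succAbove) (cpowVal R B Q G e n x) := by
  rw [map_sum]
  refine Finset.sum_congr rfl fun j _ => ?_
  rw [map_zsmul]
  refine congrArg _ ?_
  show sres Q _ (sres Q _ x) = sres Q _ (sres Q _ x)
  rw [← sres_comp, ← sres_comp, cpowIso_face]

include e in
theorem cech_exactAt_transfer [Module.FaithfullyFlat R B]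
    (hF : adequate R ((toMVFPre K (𝟙 (Spec R))).obj Q)) (n : ℕ) (hn : 0 < n) :
    ((cechComplexFunctor (A := AddCommGrpCat.{u + 1})
      (fun _ : PUnit.{u + 2} => Y)).obj (G.op ⋙ Q.presheaf)).ExactAt n := by
  obtain ⟨p, rfl⟩ : ∃ p, n = p + 1 := ⟨n - 1, by omega⟩
  rw [HomologicalComplex.exactAt_iff_isZero_homology, Fib44.Cech.isZero_homology_succ_iff]
  intro f hf
  let a₀ : ∀ m : ℕ, Fin m → PUnit.{u + 2} := fun _ _ => PUnit.unit
  let f₀ : Q.obj (op (G.obj (cpow (Y := Y) (p + 2)))) := f (a₀ _)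
  obtain ⟨y, hy⟩ := powCoface_exact hF (p + 1) (powVal R B Q (p + 2) (cpowVal R B Q G e (p + 2) f₀)) (by
    refine (powVal_sum R B Q (p + 2) _).symm.trans ?_
    rw [← cpowVal_sum]
    exact (congrArg (fun w => powVal R B Q (p + 3) (cpowVal R B Q G e (p + 3) w))
      (show (∑ j : Fin (p + 3), (-1 : ℤ) ^ (j : ℕ) •
        sres Q (G.map (Pi.lift fun k => Pi.π (fun _ : Fin (p + 3) => Y) (j.succAbove k))) f₀) = 0 from hf (a₀ _))).trans
      ((congrArg _ (map_zero _)).trans (map_zero _)))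
  obtain ⟨z, rfl⟩ := (powVal_bijective R B Q (p + 1)).2 y
  obtain ⟨z, rfl⟩ := (cpowVal_bijective R B Q G e (p + 1)).2 z
  rw [← powVal_sum, ← cpowVal_sum] at hy
  refine ⟨fun _ => z, fun b => ?_⟩
  exact (cpowVal_bijective R B Q G e (p + 2)).1 ((powVal_bijective R B Q (p + 2)).1 hy)

end Groth.Agent.Adeq88
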