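import Groth.Agent.Adeq88.Constr
import Mathlib.LinearAlgebra.TensorProduct.Tower

/-!
Change of rings for adequate functors.
-/

set_option autoImplicit false

universe u

open CategoryTheory Limits Opposite TensorProduct

noncomputable section

namespace Groth.Agent.Adeq88

open Adeq

variable (A A' : Type u) [CommRing A] [CommRing A'] [Algebra A A']

/-- An algebra over `A'` seen over `A`. -/
abbrev rA (B' : Alg A') : Alg A := (Alg.restr A A').obj B'

/-- The base change of an algebra. -/
abbrev bA (B : Alg A) : Alg A' := (Alg.baseChange A A').obj B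

/-- The values of a restricted functor. -/
def rval (F : MVF A) (B' : Alg A') : Val ((restr A A').obj F) B' ≃+ Val F (rA A A' B') :=
  AddEquiv.refl _

theorem rval_smul (F : MVF A) (B' : Alg A') (b : B') (x : Val ((restr A A').obj F) B') :
    rval A A' F B' (b • x) = (b : rA A A' B') • rval A A' F B' x := rfl

theorem rval_res (F : MVF A) {B' C' : Alg A'} (f : B' ⟶ C') (x : Val ((restr A A').obj F) B') :
    rval A A' F C' (res _ f x) = res F ((Alg.restr A A').map f) (rval A A' F B' x) := rfl

theorem rval_ap {F G : MVF A} (φ : F ⟶ G) (B' : Alg A') (x : Val ((restr A A').obj F) B') :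
    rval A A' G B' (ap ((restr A A').map φ) B' x) = ap φ (rA A A' B') (rval A A' F B' x) := rfl

/-- The values of a pushed functor. -/
def pval (F' : MVF A') (B : Alg A) : Val ((push A A').obj F') B ≃+ Val F' (bA A A' B) :=
  AddEquiv.refl _

theorem pval_smul (F' : MVF A') (B : Alg A) (b : B) (x : Val ((push A A').obj F') B) :
    pval A A' F' B (b • x) = ((1 : A') ⊗ₜ[A] b : bA A A' B) • pval A A' F' B x := rfl

theorem pval_res (F' : MVF A') {B C : Alg A} (f : B ⟶ C) (x : Val ((push A A').obj F') B) :
    pval A A' F' C (res _ f x) = res F' ((Alg.baseChange A A').map f) (pval A A' F' B x) := rfl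

theorem pval_ap {F G : MVF A'} (φ : F ⟶ G) (B : Alg A) (x : Val ((push A A').obj F) B) :
    pval A A' G B (ap ((push A A').map φ) B x) = ap φ (bA A A' B) (pval A A' F B x) := rfl

section Restr

/-- The extended module `A' ⊗ M`. -/
abbrev extM (M : ModuleCat.{u + 1} A) : ModuleCat.{u + 1} A' := ModuleCat.of A' (A' ⊗[A] M)

/-- The extended map. -/
abbrev extMap {M N : ModuleCat.{u + 1} A} (g : M ⟶ N) : extM A A' M ⟶ extM A A' N :=
  ModuleCat.ofHom (g.hom.baseChange A')

theorem restr_uM_aux (M : ModuleCat.{u + 1} A) (B' : Alg A') :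
    ∃ e : Val ((restr A A').obj (uM M)) B' → Val (uM (extM A A' M)) B', Function.Bijective e ∧
      (∀ x y, e (x + y) = e x + e y) ∧
      ∀ (b : B') (m : M), e ((rval A A' (uM M) B').symm (pure M (b : rA A A' B') m)) =
        pure (extM A A' M) b ((1 : A') ⊗ₜ[A] m) := by
  let : Algebra A B' := ((algebraMap A' B').comp (algebraMap A A')).toAlgebra
  have : IsScalarTower A A' B' := IsScalarTower.of_algebraMap_eq fun _ => rfl
  let e := (TensorProduct.AlgebraTensorModule.cancelBaseChange A A' B' B' M).symm
  refine ⟨fun x => (uval (extM A A' M) B').symm (e (uval M (rA A A' B') (rval A A' (uM M) B' x))),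
    ?_, fun x y => ?_, fun b m => ?_⟩
  · exact (uval (extM A A' M) B').symm.bijective.comp (e.bijective.comp
      ((uval M (rA A A' B')).bijective.comp (rval A A' (uM M) B').bijective))
  · exact (congrArg (uval (extM A A' M) B').symm (map_add e _ _)).trans (map_add _ _ _)
  · exact rfl

theorem restr_induction {M : ModuleCat.{u + 1} A} {B' : Alg A'}
    {P : Val ((restr A A').obj (uM M)) B' → Prop} (x : Val ((restr A A').obj (uM M)) B') (h0 : P 0)
    (hp : ∀ (b : B') m, P ((rval A A' (uM M) B').symm (pure M (b : rA A A' B') m)))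
    (ha : ∀ x y, P x → P y → P (x + y)) : P x := by
  suffices ∀ z, P ((rval A A' (uM M) B').symm z) from this (rval A A' (uM M) B' x)
  intro z
  induction z using pure_induction with
  | h0 => exact h0
  | hp b m => exact hp b m
  | ha a b iha ihb => exact ha _ _ iha ihb

theorem exists_restr_uM (M : ModuleCat.{u + 1} A) :
    ∃ θ : (restr A A').obj (uM M) ⟶ uM (extM A A' M), (∀ B', Function.Bijective (ap θ B')) ∧
      ∀ (B' : Alg A') (b : B') (m : M),
        ap θ B' ((rval A A' (uM M) B').symm (pure M (b : rA A A' B') m)) =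
          pure (extM A A' M) b ((1 : A') ⊗ₜ[A] m) := by
  choose e hb hadd hp using restr_uM_aux A A' M
  have hz : ∀ B', e B' 0 = 0 := fun B' => by
    have h := hadd B' 0 0
    rw [add_zero] at h
    exact left_eq_add.1 h
  have hsm : ∀ (B' : Alg A') (c : B') (x : Val ((restr A A').obj (uM M)) B'),
      e B' (c • x) = c • e B' x := by
    intro B' c x
    induction x using restr_induction with
    | h0 => rw [smul_zero, hz, smul_zero]
    | hp b m =>
      rw [hp, smul_pure, ← hp B' (c * b) m]
      rfl
    | ha a b iha ihb => rw [smul_add, hadd, hadd, iha, ihb, smul_add]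
  let θ : (restr A A').obj (uM M) ⟶ uM (extM A A' M) :=
    { app := fun X => ModuleCat.ofHom
        { toFun := e X.unop.unop
          map_add' := hadd _
          map_smul' := hsm _ }
      naturality := fun {X Y} f => by
        ext x
        show e Y.unop.unop (res _ f.unop.unop x) = res (uM (extM A A' M)) f.unop.unop (e X.unop.unop x)
        induction (show Val ((restr A A').obj (uM M)) X.unop.unop from x) using restr_induction with
        | h0 => rw [map_zero, hz, hz, map_zero]
        | hp b m =>
          rw [hp, res_pure, ← hp]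
          rfl
        | ha a b iha ihb => rw [map_add, hadd, hadd, iha, ihb, map_add] }
  exact ⟨θ, hb, hp⟩

theorem adequate_restr {F : MVF A} (hF : adequate A F) : adequate A' ((restr A A').obj F) := by
  obtain ⟨p⟩ := adequate_iff.1 hF
  obtain ⟨θM, hθM, hθM'⟩ := exists_restr_uM A A' p.M
  obtain ⟨θN, hθN, hθN'⟩ := exists_restr_uM A A' p.N
  have hnat : ∀ B' x, ap θN B' (ap ((restr A A').map (uMap p.φ)) B' x) =
      ap (uMap (extMap A A' p.φ)) B' (ap θM B' x) := by
    intro B' x
    induction x using restr_induction with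
    | h0 => simp
    | hp b m =>
      rw [hθM' B' b m, ap_pure]
      exact (hθN' B' b (p.φ.hom m))
    | ha a b iha ihb => simp only [map_add, iha, ihb]
  refine adequate_of_pres
    { M := extM A A' p.M, N := extM A A' p.N, φ := extMap A A' p.φ,
      ι := (restr A A').map p.ι ≫ θM, inj := ?_, comp := ?_, exact := ?_ }
  · intro B' x y h
    rw [ap_comp, ap_comp] at h
    exact (rval A A' F B').injective (p.inj _ (congrArg (rval A A' (uM p.M) B') ((hθM B').1 h)))
  · intro B' x
    rw [ap_comp, ← hnat]
    refine (congrArg (ap θN B') ?_).trans (map_zero _)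
    exact p.comp (rA A A' B') (rval A A' F B' x)
  · intro B' y hy
    obtain ⟨z, rfl⟩ := (hθM B').2 y
    rw [← hnat] at hy
    obtain ⟨x, hx⟩ := p.exact (rA A A' B') (rval A A' (uM p.M) B' z)
      ((hθN B').1 (hy.trans (map_zero (ap θN B')).symm))
    exact ⟨(rval A A' F B').symm x, congrArg (ap θM B') hx⟩

end Restr

section Push

/-- The restricted module. -/
abbrev resM (M : ModuleCat.{u + 1} A') : ModuleCat.{u + 1} A :=
  (ModuleCat.restrictScalars (algebraMap A A')).obj M

/-- The restricted map. -/
abbrev resMap {M N : ModuleCat.{u + 1} A'} (g : M ⟶ N) : resM A A' M ⟶ resM A A' N :=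
  (ModuleCat.restrictScalars (algebraMap A A')).map g

theorem push_uM_aux (M : ModuleCat.{u + 1} A') (B : Alg A) :
    ∃ e : Val (uM (resM A A' M)) B → Val ((push A A').obj (uM M)) B, Function.Bijective e ∧
      (∀ x y, e (x + y) = e x + e y) ∧
      ∀ (b : B) (m : M), e (pure (resM A A' M) b m) =
        (pval A A' (uM M) B).symm (pure M ((1 : A') ⊗ₜ[A] b : bA A A' B) m) := by
  let : Module A M := Module.compHom M (algebraMap A A')
  have : IsScalarTower A A' M := IsScalarTower.of_algebraMap_smul fun _ _ => rfl
  let e := ((TensorProduct.comm A (B : Type u) M).trans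
    ((TensorProduct.AlgebraTensorModule.cancelBaseChange A A' A' M (B : Type u)).symm.restrictScalars A)).toAddEquiv.trans
    (TensorProduct.comm A' (M : Type (u + 1)) (A' ⊗[A] (B : Type u))).toAddEquiv
  refine ⟨fun x => (pval A A' (uM M) B).symm
    ((uval M (bA A A' B)).symm (e (uval (resM A A' M) B x))), ?_, fun x y => ?_, fun b m => ?_⟩
  · exact (pval A A' (uM M) B).symm.bijective.comp ((uval M (bA A A' B)).symm.bijective.comp
      (e.bijective.comp (uval (resM A A' M) B).bijective))
  · exact congrArg (pval A A' (uM M) B).symm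
      ((congrArg (uval M (bA A A' B)).symm (map_add e _ _)).trans (map_add _ _ _))
  · exact rfl

theorem smul_pure_one (M : ModuleCat.{u + 1} A') (B : Alg A) (c b : B) (m : M) :
    ((1 : A') ⊗ₜ[A] c : bA A A' B) • pure M (B := bA A A' B) ((1 : A') ⊗ₜ[A] b) m =
      pure M (B := bA A A' B) ((1 : A') ⊗ₜ[A] (c * b)) m := by
  have h : ((1 : A') ⊗ₜ[A] c : A' ⊗[A] (B : Type u)) * ((1 : A') ⊗ₜ[A] b) = (1 : A') ⊗ₜ[A] (c * b) := by
    rw [Algebra.TensorProduct.tmul_mul_tmul, one_mul]
  exact congrArg (fun w => pure M (B := bA A A' B) w m) h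

theorem exists_push_uM (M : ModuleCat.{u + 1} A') :
    ∃ θ : uM (resM A A' M) ⟶ (push A A').obj (uM M), (∀ B, Function.Bijective (ap θ B)) ∧
      ∀ (B : Alg A) (b : B) (m : M), ap θ B (pure (resM A A' M) b m) =
        (pval A A' (uM M) B).symm (pure M ((1 : A') ⊗ₜ[A] b : bA A A' B) m) := by
  choose e hb hadd hp using push_uM_aux A A' M
  have hz : ∀ B, e B 0 = 0 := fun B => by
    have h := hadd B 0 0
    rw [add_zero] at h
    exact left_eq_add.1 h
  have hsm : ∀ (B : Alg A) (c : B) (x : Val (uM (resM A A' M)) B), e B (c • x) = c • e B x := by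
    intro B c x
    induction x using pure_induction with
    | h0 => rw [smul_zero, hz, smul_zero]
    | hp b m =>
      rw [smul_pure]
      apply (pval A A' (uM M) B).injective
      rw [pval_smul]
      erw [hp B (c * b) m, hp B b m]
      rw [AddEquiv.apply_symm_apply, AddEquiv.apply_symm_apply]
      exact (smul_pure_one A A' M B c b m).symm
    | ha a b iha ihb => rw [smul_add, hadd, hadd, iha, ihb, smul_add]
  let L : ∀ B : Alg A, Val (uM (resM A A' M)) B →ₗ[B] Val ((push A A').obj (uM M)) B := fun B =>
    { toFun := e B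
      map_add' := hadd B
      map_smul' := hsm B }
  let θ : uM (resM A A' M) ⟶ (push A A').obj (uM M) :=
    { app := fun X => by
        let m := ModuleCat.ofHom (L X.unop.unop)
        exact m
      naturality := fun {X Y} f => by
        ext x
        show e Y.unop.unop (res _ f.unop.unop x) =
          res ((push A A').obj (uM M)) f.unop.unop (e X.unop.unop x)
        induction (show Val (uM (resM A A' M)) X.unop.unop from x) using pure_induction with
        | h0 => rw [map_zero, hz, hz, map_zero]
        | hp b m =>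
          apply (pval A A' (uM M) Y.unop.unop).injective
          rw [pval_res, res_pure]
          erw [hp Y.unop.unop _ m, hp X.unop.unop b m]
          rw [AddEquiv.apply_symm_apply, AddEquiv.apply_symm_apply, res_pure]
          rfl
        | ha a b iha ihb => rw [map_add, hadd, hadd, iha, ihb, map_add] }
  exact ⟨θ, hb, hp⟩

theorem adequate_push {F' : MVF A'} (hF : adequate A' F') : adequate A ((push A A').obj F') := by
  obtain ⟨p⟩ := adequate_iff.1 hF
  obtain ⟨θM, hθM, hθM'⟩ := exists_push_uM A A' p.M
  obtain ⟨θN, hθN, hθN'⟩ := exists_push_uM A A' p.N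
  have : ∀ X, IsIso ((PresheafOfModules.Hom.app θM) X) := fun X =>
    (ConcreteCategory.isIso_iff_bijective _).2 (hθM X.unop.unop)
  have : IsIso θM := isIso_of_bijective θM hθM
  have hnat : ∀ B x, ap θN B (ap (uMap (resMap A A' p.φ)) B x) =
      ap ((push A A').map (uMap p.φ)) B (ap θM B x) := by
    intro B x
    induction x using pure_induction with
    | h0 => simp
    | hp b m =>
      rw [ap_pure]
      apply (pval A A' (uM p.N) B).injective
      rw [pval_ap]
      erw [hθN' B b (p.φ.hom m), hθM' B b m]
      exact (ap_pure (B := bA A A' B) p.φ ((1 : A') ⊗ₜ[A] b) m).symm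
    | ha a b iha ihb => simp only [map_add, iha, ihb]
  refine adequate_of_pres
    { M := resM A A' p.M, N := resM A A' p.N, φ := resMap A A' p.φ,
      ι := (push A A').map p.ι ≫ inv θM, inj := ?_, comp := ?_, exact := ?_ }
  all_goals have hinv : ∀ B z, ap θM B (ap (inv θM) B z) = z := fun B z => by
              rw [← ap_comp, IsIso.inv_hom_id, ap_id]
  · intro B x y h
    rw [ap_comp, ap_comp] at h
    have h' := congrArg (ap θM B) h
    rw [hinv, hinv] at h'
    exact (pval A A' F' B).injective (p.inj _ (congrArg (pval A A' (uM p.M) B) h'))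
  · intro B x
    apply (hθN B).1
    rw [ap_comp, hnat, hinv, map_zero]
    apply (pval A A' (uM p.N) B).injective
    rw [pval_ap, pval_ap, p.comp, map_zero]
  · intro B y hy
    have h := hnat B y
    rw [hy, map_zero] at h
    obtain ⟨x, hx⟩ := p.exact (bA A A' B) (pval A A' (uM p.M) B (ap θM B y))
      (by rw [← pval_ap, ← h, map_zero])
    refine ⟨(pval A A' F' B).symm x, (hθM B).1 ?_⟩
    rw [ap_comp, hinv]
    apply (pval A A' (uM p.M) B).injective
    rw [pval_ap, AddEquiv.apply_symm_apply, hx]

end Push

section Descent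

/-- The components of the unit `F ⟶ push (restr F)`. -/
def unitApp (F : MVF A) (B : Alg A) :
    Val F B →ₗ[B] Val ((push A A').obj ((restr A A').obj F)) B where
  toFun x := (pval A A' ((restr A A').obj F) B).symm
    ((rval A A' F (bA A A' B)).symm (res F (Alg.unit A A' B) x))
  map_add' x y := by rw [map_add, map_add, map_add]
  map_smul' b x := by
    apply (pval A A' ((restr A A').obj F) B).injective
    refine Eq.trans ?_ (pval_smul A A' _ B b _).symm
    exact res_smul F (Alg.unit A A' B) b x

theorem unit_natural {B C : Alg A} (f : B ⟶ C) :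
    f ≫ Alg.unit A A' C = Alg.unit A A' B ≫ (Alg.restr A A').map ((Alg.baseChange A A').map f) := by
  exact CommAlgCat.hom_ext (DFunLike.ext _ _ fun b => rfl)

/-- The unit `F ⟶ push (restr F)`. -/
def unitHom (F : MVF A) : F ⟶ (push A A').obj ((restr A A').obj F) where
  app X := by
    let m := ModuleCat.ofHom (unitApp A A' F X.unop.unop)
    exact m
  naturality {X Y} f := by
    ext x
    show res F (Alg.unit A A' Y.unop.unop) (res F f.unop.unop x) =
      res F ((Alg.restr A A').map ((Alg.baseChange A A').map f.unop.unop))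
        (res F (Alg.unit A A' X.unop.unop) x)
    rw [← res_comp, ← res_comp, unit_natural]

theorem unitHom_apply (F : MVF A) (B : Alg A) (x : Val F B) :
    ap (unitHom A A' F) B x = (pval A A' ((restr A A').obj F) B).symm
      ((rval A A' F (bA A A' B)).symm (res F (Alg.unit A A' B) x)) := rfl

theorem adequate_of_restr {F : MVF A} (h₁ : adequate A' ((restr A A').obj F))
    (h₂ : ∀ B : Alg A, Function.Injective (res F (Alg.unit A A' B)) ∧
      ∀ y : Val F (rA A A' (bA A A' B)),
        res F (Alg.unit A A' (rA A A' (bA A A' B))) y =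
          res F ((Alg.restr A A').map ((Alg.baseChange A A').map (Alg.unit A A' B))) y →
        y ∈ Set.range (res F (Alg.unit A A' B))) :
    adequate A F := by
  let G1 := (push A A').obj ((restr A A').obj F)
  let G2 := (push A A').obj ((restr A A').obj G1)
  have hG1 : adequate A G1 := adequate_push A A' h₁
  have hG2 : adequate A G2 := adequate_push A A' (adequate_restr A A' hG1)
  let c1 : G1 ⟶ G2 := (push A A').map ((restr A A').map (unitHom A A' F))
  let c2 : G1 ⟶ G2 := unitHom A A' G1
  let V : ∀ B, Val G1 B ≃+ Val F (rA A A' (bA A A' B)) := fun B =>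
    (pval A A' _ B).trans (rval A A' F _)
  let W : ∀ B, Val G2 B ≃+ Val F (rA A A' (bA A A' (rA A A' (bA A A' B)))) := fun B =>
    ((pval A A' _ B).trans (rval A A' G1 _)).trans (V _)
  have hη : ∀ B x, V B (ap (unitHom A A' F) B x) = res F (Alg.unit A A' B) x := fun B x => rfl
  have hc1 : ∀ B y, W B (ap c1 B y) =
      res F (Alg.unit A A' (rA A A' (bA A A' B))) (V B y) := fun B y => rfl
  have hc2 : ∀ B y, W B (ap c2 B y) =
      res F ((Alg.restr A A').map ((Alg.baseChange A A').map (Alg.unit A A' B))) (V B y) :=
    fun B y => rfl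
  have hw : unitHom A A' F ≫ (c1 - c2) = 0 := hom_ext fun B x => by
    rw [ap_comp, ap_sub, ap_zero, sub_eq_zero]
    apply (W B).injective
    rw [hc1, hc2, hη, ← res_comp, ← res_comp]
    congr 1
  let k : F ⟶ kernel (c1 - c2) := kernel.lift _ (unitHom A A' F) hw
  have hk : ∀ B x, ap (kernel.ι (c1 - c2)) B (ap k B x) = ap (unitHom A A' F) B x := fun B x => by
    rw [← ap_comp, kernel.lift_ι]
  have : IsIso k := isIso_of_bijective k fun B => ⟨fun x y h => (h₂ B).1 (by
      rw [← hη, ← hη, ← hk, ← hk, h]), fun z => by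
      have hz := kernel_ι_comp (c1 - c2) B z
      rw [ap_sub, sub_eq_zero] at hz
      obtain ⟨x, hx⟩ := (h₂ B).2 (V B (ap (kernel.ι (c1 - c2)) B z)) (by rw [← hc1, ← hc2, hz])
      exact ⟨x, kernel_ι_inj _ B ((hk B x).trans ((V B).injective ((hη B x).trans hx)))⟩⟩
  exact (adequate A).prop_of_iso (asIso k).symm (adequate_kernel (c1 - c2) hG1 hG2)

end Descent

end Groth.Agent.Adeq88
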