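import Groth.Agent.Adeq88.Sheafify
import Mathlib.Algebra.Category.ModuleCat.Presheaf.Colimits

/-!
Colimits of adequate modules.
-/

set_option autoImplicit false

universe u w w'

open CategoryTheory Limits Opposite AlgebraicGeometry

noncomputable section

namespace Groth.Agent.Adeq88

open Adeq

section Pre

variable {K : Precoverage Scheme.{u}} [BigSite.OSh K] {S : Scheme.{u}} {R : CommRingCat.{u}}
  (a : Spec R ⟶ S)

instance toMVFPre_preservesColimitsOfShape {J : Type w} [Category.{w'} J]
    [HasColimitsOfShape J AddCommGrpCat.{u + 1}] [Small.{u + 1} J]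
    [HasColimitsOfShape J (PresheafOfModules.{u + 1} (BigSite.ORing K S).obj)]
    [HasColimitsOfShape J (MVF R)]
    [PreservesColimitsOfShape J (PresheafOfModules.toPresheaf.{u + 1} (BigSite.ORing K S).obj)]
    [PreservesColimitsOfShape J (PresheafOfModules.toPresheaf.{u + 1} (ringOf (R : Type u)))] :
    PreservesColimitsOfShape J (toMVFPre K a) := by
  have : PreservesColimitsOfShape J (toMVFPre K a ⋙ PresheafOfModules.toPresheaf.{u + 1} (ringOf (R : Type u))) :=
    inferInstanceAs (PreservesColimitsOfShape J (PresheafOfModules.toPresheaf.{u + 1} (BigSite.ORing K S).obj ⋙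
      (Functor.whiskeringLeft _ _ AddCommGrpCat.{u + 1}).obj (specOver a).op))
  have : ReflectsColimitsOfShape J (PresheafOfModules.toPresheaf.{u + 1} (ringOf (R : Type u))) :=
    reflectsColimitsOfShape_of_reflectsIsomorphisms
  exact preservesColimitsOfShape_of_reflects_of_preserves _ (PresheafOfModules.toPresheaf.{u + 1} (ringOf (R : Type u)))

end Pre

variable {P : MorphismProperty Scheme.{u}} (hP : GoodProp P)
  [BigSite.OSh (Scheme.precoverage P)] {S : Scheme.{u}}

include hP in
theorem adequateMod_of_sheafified (M : BigSite.Mod (Scheme.precoverage P) S)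
    (Q : PresheafOfModules.{u + 1} (BigSite.ORing (Scheme.precoverage P) S).obj)
    (hQ : ∀ (R : CommRingCat.{u}) (a : Spec R ⟶ S), adequate R ((toMVFPre (Scheme.precoverage P) a).obj Q))
    (e : (PresheafOfModules.sheafification (𝟙 (BigSite.ORing (Scheme.precoverage P) S).obj)).obj Q ≅ M) :
    adequateMod (Scheme.precoverage P) S M :=
  (adequateMod (Scheme.precoverage P) S).prop_of_iso e (adequateMod_sheafification hP Q hQ)

include hP in
theorem adequateMod_colimit {J : Type (u + 1)} [SmallCategory J]
    (D : J ⥤ BigSite.Mod (Scheme.precoverage P) S)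
    (hD : ∀ j, adequateMod (Scheme.precoverage P) S (D.obj j)) :
    adequateMod (Scheme.precoverage P) S (colimit D) := by
  let sh := PresheafOfModules.sheafification (𝟙 (BigSite.ORing (Scheme.precoverage P) S).obj)
  let G := SheafOfModules.forget (BigSite.ORing (Scheme.precoverage P) S) ⋙
    PresheafOfModules.restrictScalars (𝟙 (BigSite.ORing (Scheme.precoverage P) S).obj)
  let adj := PresheafOfModules.sheafificationAdjunction (𝟙 (BigSite.ORing (Scheme.precoverage P) S).obj)
  let e : (D ⋙ G) ⋙ sh ≅ D :=
    Functor.associator _ _ _ ≪≫ Functor.isoWhiskerLeft D (asIso adj.counit) ≪≫ D.rightUnitor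
  refine adequateMod_of_sheafified hP _ (colimit (D ⋙ G)) (fun R a => ?_)
    (preservesColimitIso sh (D ⋙ G) ≪≫ HasColimit.isoOfNatIso e)
  refine (adequate (R : Type u)).prop_of_iso (preservesColimitIso (toMVFPre _ a) (D ⋙ G)).symm
    (adequate_colimit _ fun j => ?_)
  exact adequate_affine hP (D.obj j) (hD j) a

include hP in
theorem adequateMod_cokernel {M N : BigSite.Mod (Scheme.precoverage P) S} (φ : M ⟶ N)
    (hM : adequateMod (Scheme.precoverage P) S M) (hN : adequateMod (Scheme.precoverage P) S N) :
    adequateMod (Scheme.precoverage P) S (cokernel φ) := by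
  let sh := PresheafOfModules.sheafification (𝟙 (BigSite.ORing (Scheme.precoverage P) S).obj)
  let G := SheafOfModules.forget (BigSite.ORing (Scheme.precoverage P) S) ⋙
    PresheafOfModules.restrictScalars (𝟙 (BigSite.ORing (Scheme.precoverage P) S).obj)
  let adj := PresheafOfModules.sheafificationAdjunction (𝟙 (BigSite.ORing (Scheme.precoverage P) S).obj)
  have : sh.Additive := adj.left_adjoint_additive
  have : PreservesColimitsOfSize.{0, 0} sh := adj.leftAdjoint_preservesColimits
  refine adequateMod_of_sheafified hP _ (cokernel (G.map φ)) (fun R a => ?_)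
    (PreservesCokernel.iso sh (G.map φ) ≪≫
      cokernel.mapIso _ _ ((asIso adj.counit).app M) ((asIso adj.counit).app N) (adj.counit.naturality φ))
  refine (adequate (R : Type u)).prop_of_iso (PreservesCokernel.iso (toMVFPre _ a) (G.map φ)).symm
    (adequate_cokernel _ (adequate_affine hP M hM a) (adequate_affine hP N hN a))

end Groth.Agent.Adeq88
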