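import Groth.Agent.Adeq88.Sums

/-!
Kernels, cokernels, colimits and extensions of adequate functors.
-/

set_option autoImplicit false

universe u

open CategoryTheory Limits Opposite TensorProduct DirectSum

noncomputable section

namespace Groth.Agent.Adeq88

open Adeq

variable {A : Type u} [CommRing A]

theorem Pres.dincl_sum_ι {I : Type (u + 1)} [DecidableEq I] {L : I → MVF A} (p : ∀ i, Pres (L i))
    (i : I) : dincl L i ≫ (Pres.sum p).ι = (p i).ι ≫ uMap (mincl (fun i => (p i).M) i) :=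
  (exists_pres_dsum L p).choose_spec.1 i

theorem exists_extend_sum {I : Type (u + 1)} [DecidableEq I] {L : I → MVF A}
    (p : ∀ i, LinPres (L i)) {M : ModuleCat.{u + 1} A} (h : dsum L ⟶ uM M) :
    ∃ g : (Pres.sum fun i => (p i).toPres).M ⟶ M,
      (Pres.sum fun i => (p i).toPres).ι ≫ uMap g = h := by
  choose g hg using fun i => (p i).exists_extend (dincl L i ≫ h)
  refine ⟨ModuleCat.ofHom (DirectSum.toModule A I M fun i => (g i).hom), dsum_hom_ext fun i => ?_⟩
  refine ((Category.assoc _ _ _).symm.trans (congrArg (· ≫ _)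
    (Pres.dincl_sum_ι (fun i => (p i).toPres) i))).trans ((Category.assoc _ _ _).trans ?_)
  refine Eq.trans (congrArg ((p i).ι ≫ ·) ?_) (hg i)
  refine ((underline A).map_comp _ _).symm.trans (congrArg (underline A).map ?_)
  exact ModuleCat.hom_ext (LinearMap.ext fun x =>
    DirectSum.toModule_lof A (M := fun i => ((p i).M : Type (u + 1))) (φ := fun i => (g i).hom) i x)

/-- The module `M × N`. -/
abbrev mprod (M N : ModuleCat.{u + 1} A) : ModuleCat.{u + 1} A := ModuleCat.of A (M × N)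

/-- The pairing of two maps. -/
abbrev mpair {P M N : ModuleCat.{u + 1} A} (f : P ⟶ M) (g : P ⟶ N) : P ⟶ mprod M N :=
  ModuleCat.ofHom (f.hom.prod g.hom)

/-- The first projection. -/
abbrev mfst (M N : ModuleCat.{u + 1} A) : mprod M N ⟶ M := ModuleCat.ofHom (LinearMap.fst A M N)

/-- The second projection. -/
abbrev msnd (M N : ModuleCat.{u + 1} A) : mprod M N ⟶ N := ModuleCat.ofHom (LinearMap.snd A M N)

/-- The first inclusion. -/
abbrev minl (M N : ModuleCat.{u + 1} A) : M ⟶ mprod M N := ModuleCat.ofHom (LinearMap.inl A M N)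

/-- The second inclusion. -/
abbrev minr (M N : ModuleCat.{u + 1} A) : N ⟶ mprod M N := ModuleCat.ofHom (LinearMap.inr A M N)

theorem uMap_mprod_ext {M N : ModuleCat.{u + 1} A} {B : Alg A} {x y : Val (uM (mprod M N)) B}
    (h1 : ap (uMap (mfst M N)) B x = ap (uMap (mfst M N)) B y)
    (h2 : ap (uMap (msnd M N)) B x = ap (uMap (msnd M N)) B y) : x = y := by
  have hid : mfst M N ≫ minl M N + msnd M N ≫ minr M N = 𝟙 (mprod M N) :=
    ModuleCat.hom_ext (LinearMap.ext fun z => by
      show ((z.1, 0) : M × N) + (0, z.2) = z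
      simp)
  have e : ∀ z, z = ap (uMap (minl M N)) B (ap (uMap (mfst M N)) B z) +
      ap (uMap (minr M N)) B (ap (uMap (msnd M N)) B z) := fun z => by
    rw [← uMap_comp, ← uMap_comp, ← uMap_add, hid, uMap_id]
  rw [e x, e y, h1, h2]

theorem fst_pair {P M N : ModuleCat.{u + 1} A} (f : P ⟶ M) (g : P ⟶ N) (B : Alg A)
    (x : Val (uM P) B) : ap (uMap (mfst M N)) B (ap (uMap (mpair f g)) B x) = ap (uMap f) B x := by
  rw [← uMap_comp]; rfl

theorem snd_pair {P M N : ModuleCat.{u + 1} A} (f : P ⟶ M) (g : P ⟶ N) (B : Alg A)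
    (x : Val (uM P) B) : ap (uMap (msnd M N)) B (ap (uMap (mpair f g)) B x) = ap (uMap g) B x := by
  rw [← uMap_comp]; rfl

theorem fst_inl {M N : ModuleCat.{u + 1} A} (B : Alg A) (x : Val (uM M) B) :
    ap (uMap (mfst M N)) B (ap (uMap (minl M N)) B x) = x := by
  rw [← uMap_comp]; exact uMap_id B x

theorem snd_inl {M N : ModuleCat.{u + 1} A} (B : Alg A) (x : Val (uM M) B) :
    ap (uMap (msnd M N)) B (ap (uMap (minl M N)) B x) = 0 := by
  rw [← uMap_comp]; exact uMap_zero B x

theorem fst_inr {M N : ModuleCat.{u + 1} A} (B : Alg A) (x : Val (uM N) B) :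
    ap (uMap (mfst M N)) B (ap (uMap (minr M N)) B x) = 0 := by
  rw [← uMap_comp]; exact uMap_zero B x

theorem snd_inr {M N : ModuleCat.{u + 1} A} (B : Alg A) (x : Val (uM N) B) :
    ap (uMap (msnd M N)) B (ap (uMap (minr M N)) B x) = x := by
  rw [← uMap_comp]; exact uMap_id B x

theorem adequate_of_exact {F G C : MVF A} (hF : adequate A F) (hG : adequate A G)
    (φ : F ⟶ G) (π : G ⟶ C) (hπ : ∀ B, Function.Surjective (ap π B))
    (hw : ∀ B x, ap π B (ap φ B x) = 0)
    (hex : ∀ B y, ap π B y = 0 → y ∈ Set.range (ap φ B)) : adequate A C := by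
  classical
  obtain ⟨q⟩ := adequate_iff.1 hG
  obtain ⟨I, L, p, f, hf⟩ := exists_cover hF
  let s := Pres.sum fun i => (p i).toPres
  obtain ⟨g, hg⟩ := exists_extend_sum p (f ≫ φ ≫ q.ι)
  let d : s.M ⟶ mprod q.M s.N := mpair g s.φ
  let W : ModuleCat.{u + 1} A := ModuleCat.of A ((q.M × s.N) ⧸ LinearMap.range d.hom)
  let qW : mprod q.M s.N ⟶ W := ModuleCat.ofHom (LinearMap.range d.hom).mkQ
  let ρ : q.M ⟶ W := minl _ _ ≫ qW
  let d2 : q.M ⟶ mprod W q.N := mpair ρ q.φ
  let R : ModuleCat.{u + 1} A := ModuleCat.of A ((W × q.N) ⧸ LinearMap.range d2.hom)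
  let qR : mprod W q.N ⟶ R := ModuleCat.ofHom (LinearMap.range d2.hom).mkQ
  let ψ : W ⟶ R := minl _ _ ≫ qR
  have hkerρ : ∀ B (y : Val G B), ap (uMap ρ) B (ap q.ι B y) = 0 ↔ ap π B y = 0 := by
    intro B y
    constructor
    · intro h
      rw [uMap_comp] at h
      obtain ⟨z, hz⟩ := uMap_exact d qW (LinearMap.exact_map_mkQ_range d.hom)
        (Submodule.mkQ_surjective _) B _ h
      have h1 := congrArg (ap (uMap (mfst _ _)) B) hz
      have h2 := congrArg (ap (uMap (msnd _ _)) B) hz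
      rw [fst_pair, fst_inl] at h1
      rw [snd_pair, snd_inl] at h2
      obtain ⟨w, hw'⟩ := s.exact B z h2
      rw [← hw', ← ap_comp, hg, ap_comp, ap_comp] at h1
      rw [← q.inj B h1, hw]
    · intro h
      obtain ⟨x, rfl⟩ := hex B y h
      obtain ⟨w, rfl⟩ := hf B x
      have e : ap q.ι B (ap φ B (ap f B w)) = ap (uMap g) B (ap s.ι B w) := by
        exact (congrArg (fun h => ap h B w) hg).symm
      have e2 : ap (uMap (minl q.M s.N)) B (ap (uMap g) B (ap s.ι B w)) =
          ap (uMap d) B (ap s.ι B w) := by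
        apply uMap_mprod_ext
        · rw [fst_inl, fst_pair]
        · rw [snd_inl, snd_pair, s.comp]
      rw [e, uMap_comp, e2, ← uMap_comp]
      have hdq : d ≫ qW = 0 := ModuleCat.hom_ext (LinearMap.range_mkQ_comp d.hom)
      rw [hdq, uMap_zero]
  obtain ⟨ι, hι⟩ := exists_desc π hπ (q.ι ≫ uMap ρ) fun B x hx => by
    rw [ap_comp]; exact (hkerρ B x).2 hx
  have hι' : ∀ B (y : Val G B), ap ι B (ap π B y) = ap (uMap ρ) B (ap q.ι B y) := fun B y => by
    rw [← ap_comp, hι, ap_comp]
  refine adequate_of_pres { M := W, N := R, φ := ψ, ι := ι, inj := ?_, comp := ?_, exact := ?_ }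
  · intro B c c' h
    obtain ⟨y, rfl⟩ := hπ B c
    obtain ⟨y', rfl⟩ := hπ B c'
    rw [hι', hι', ← sub_eq_zero, ← map_sub, ← map_sub] at h
    rw [← sub_eq_zero, ← map_sub]
    exact (hkerρ B _).1 h
  · intro B c
    obtain ⟨y, rfl⟩ := hπ B c
    rw [hι', uMap_comp]
    have e : ap (uMap (minl W q.N)) B (ap (uMap ρ) B (ap q.ι B y)) =
        ap (uMap d2) B (ap q.ι B y) := by
      apply uMap_mprod_ext
      · rw [fst_inl, fst_pair]
      · rw [snd_inl, snd_pair, q.comp]
    rw [e, ← uMap_comp, show d2 ≫ qR = 0 from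
      ModuleCat.hom_ext (LinearMap.range_mkQ_comp d2.hom), uMap_zero]
  · intro B w hw'
    rw [uMap_comp] at hw'
    obtain ⟨z, hz⟩ := uMap_exact d2 qR (LinearMap.exact_map_mkQ_range d2.hom)
      (Submodule.mkQ_surjective _) B _ hw'
    have h1 := congrArg (ap (uMap (mfst _ _)) B) hz
    have h2 := congrArg (ap (uMap (msnd _ _)) B) hz
    rw [fst_pair, fst_inl] at h1
    rw [snd_pair, snd_inl] at h2
    obtain ⟨y, hy⟩ := q.exact B z h2
    exact ⟨ap π B y, by rw [hι', hy, h1]⟩

theorem adequate_cokernel {F G : MVF A} (φ : F ⟶ G) (hF : adequate A F) (hG : adequate A G) :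
    adequate A (cokernel φ) :=
  adequate_of_exact hF hG φ (cokernel.π φ) (cokernel_π_surjective φ)
    (fun B x => by rw [← ap_comp, cokernel.condition, ap_zero]) (cokernel_exact φ)

theorem adequate_kernel_of_sum {I : Type (u + 1)} [DecidableEq I] {L : I → MVF A}
    (p : ∀ i, LinPres (L i)) {G : MVF A} (hG : adequate A G) (f : dsum L ⟶ G) :
    adequate A (kernel f) := by
  obtain ⟨q⟩ := adequate_iff.1 hG
  obtain ⟨g, hg⟩ := exists_extend_sum p (f ≫ q.ι)
  let s := Pres.sum fun i => (p i).toPres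
  refine adequate_of_pres { M := s.M, N := mprod s.N q.M, φ := mpair s.φ g,
                            ι := kernel.ι f ≫ s.ι, inj := ?_, comp := ?_, exact := ?_ }
  · intro B x y h
    rw [ap_comp, ap_comp] at h
    exact kernel_ι_inj f B (s.inj B h)
  · intro B x
    rw [ap_comp]
    apply uMap_mprod_ext
    · rw [fst_pair, s.comp, map_zero]
    · rw [snd_pair, ← ap_comp, hg, ap_comp, kernel_ι_comp, map_zero, map_zero]
  · intro B y hy
    have h1 := congrArg (ap (uMap (mfst _ _)) B) hy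
    have h2 := congrArg (ap (uMap (msnd _ _)) B) hy
    rw [fst_pair, map_zero] at h1
    rw [snd_pair, map_zero] at h2
    obtain ⟨x, rfl⟩ := s.exact B y h1
    rw [← ap_comp, hg, ap_comp] at h2
    obtain ⟨k, rfl⟩ := kernel_exact f B x (q.inj B (h2.trans (map_zero _).symm))
    exact ⟨k, ap_comp _ _ _ _⟩

theorem adequate_kernel {F G : MVF A} (φ : F ⟶ G) (hF : adequate A F) (hG : adequate A G) :
    adequate A (kernel φ) := by
  classical
  obtain ⟨I, L, p, f, hf⟩ := exists_cover hF
  have hw : kernel.ι f ≫ f ≫ φ = 0 := by rw [← Category.assoc, kernel.condition, zero_comp]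
  let j : kernel f ⟶ kernel (f ≫ φ) := kernel.lift _ (kernel.ι f) hw
  let π : kernel (f ≫ φ) ⟶ kernel φ :=
    kernel.lift _ (kernel.ι (f ≫ φ) ≫ f) (by rw [Category.assoc, kernel.condition])
  have hπ : ∀ B x, ap (kernel.ι φ) B (ap π B x) = ap f B (ap (kernel.ι (f ≫ φ)) B x) := fun B x => by
    rw [← ap_comp, kernel.lift_ι, ap_comp]
  have hj : ∀ B x, ap (kernel.ι (f ≫ φ)) B (ap j B x) = ap (kernel.ι f) B x := fun B x => by
    rw [← ap_comp, kernel.lift_ι]
  refine adequate_of_exact (adequate_kernel_of_sum p hF f) (adequate_kernel_of_sum p hG (f ≫ φ))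
    j π ?_ ?_ ?_
  · intro B y
    obtain ⟨x, hx⟩ := hf B (ap (kernel.ι φ) B y)
    obtain ⟨z, hz⟩ := kernel_exact (f ≫ φ) B x (by rw [ap_comp, hx, kernel_ι_comp])
    exact ⟨z, kernel_ι_inj φ B (by rw [hπ, hz, hx])⟩
  · intro B x
    exact kernel_ι_inj φ B (by rw [hπ, hj, kernel_ι_comp, map_zero])
  · intro B y hy
    obtain ⟨x, hx⟩ := kernel_exact f B (ap (kernel.ι (f ≫ φ)) B y) (by rw [← hπ, hy, map_zero])
    exact ⟨x, kernel_ι_inj _ B (by rw [hj, hx])⟩

theorem adequate_colimit {J : Type (u + 1)} [SmallCategory J] (D : J ⥤ MVF A) [HasColimit D]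
    (hD : ∀ j, adequate A (D.obj j)) : adequate A (colimit D) := by
  classical
  let T : MVF A := dsum fun j => D.obj j
  let S : MVF A := dsum fun a : (Σ j j' : J, (j ⟶ j')) => D.obj a.1
  obtain ⟨ψ, hψ⟩ := exists_ddesc (L := fun a : (Σ j j' : J, (j ⟶ j')) => D.obj a.1) (G := T)
    fun a => D.map a.2.2 ≫ dincl _ a.2.1 - dincl _ a.1
  have hadq : adequate A (cokernel ψ) :=
    adequate_cokernel ψ (adequate_dsum _ fun a => hD a.1) (adequate_dsum _ hD)
  let c : Cocone D :=
    { pt := cokernel ψ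
      ι :=
        { app := fun j => dincl _ j ≫ cokernel.π ψ
          naturality := fun j j' f => by
            rw [Functor.const_obj_map]
            erw [Category.comp_id]
            rw [← sub_eq_zero, ← Category.assoc,
              ← Preadditive.sub_comp]
            have := hψ ⟨j, j', f⟩
            dsimp only at this
            rw [← this, Category.assoc, cokernel.condition, comp_zero] } }
  obtain ⟨π, hπ⟩ := exists_ddesc (L := fun j => D.obj j) (colimit.ι D)
  have hπψ : ψ ≫ π = 0 := dsum_hom_ext fun a => by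
    rw [← Category.assoc, hψ a, Preadditive.sub_comp, Category.assoc, hπ, hπ, comp_zero,
      colimit.w, sub_self]
  refine (adequate A).prop_of_iso ?_ hadq
  exact
    { hom := cokernel.desc ψ π hπψ
      inv := colimit.desc D c
      hom_inv_id := by
        refine coequalizer.hom_ext (dsum_hom_ext fun j => ?_)
        rw [Category.comp_id, cokernel.π_desc_assoc, ← Category.assoc, hπ, colimit.ι_desc]
      inv_hom_id := by
        refine colimit.hom_ext fun j => ?_
        rw [colimit.ι_desc_assoc, Category.comp_id]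
        show (dincl _ j ≫ cokernel.π ψ) ≫ cokernel.desc ψ π hπψ = _
        rw [Category.assoc, cokernel.π_desc, hπ] }

section Extension

variable {L : MVF A} (p : LinPres L)

include p in
theorem LinPres.exists_lift_ext {S : ShortComplex (MVF A)} (hS : S.ShortExact) (q : Pres S.X₁)
    (h : L ⟶ S.X₃) : ∃ s : L ⟶ S.X₂, s ≫ S.g = h := by
  have hfi : ∀ B, Function.Injective (ap S.f B) := (mono_iff _).1 hS.mono_f
  obtain ⟨η, hη⟩ := (epi_iff S.g).1 hS.epi_g p.U (ap h p.U p.ξ)
  obtain ⟨d, hd⟩ := exact_elem hS (poly p.U) (res S.X₂ p.σ η - Xp p.U • res S.X₂ (Cp p.U) η) (by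
    rw [map_sub, map_smul, ap_res, ap_res, hη, sub_eq_zero]
    exact p.homog_ξ.map p h)
  obtain ⟨d₁, hd₁⟩ := q.exact p.U (cf q.M 1 (ap q.ι (poly p.U) d))
    (by rw [← cf_ap, q.comp, map_zero])
  let η' : Val S.X₂ p.U := η + ap S.f p.U d₁
  have hg : ap S.g p.U η' = ap h p.U p.ξ := by
    have : S.f ≫ S.g = 0 := S.zero
    rw [map_add, hη, ← ap_comp, this, ap_zero, add_zero]
  have hη' : p.Homog η' := by
    -- the cocycle identity, checked in two variables
    let P1 : Alg A := poly p.U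
    let P2 : Alg A := poly P1
    let s₁ : P1 ⟶ P2 := CommAlgCat.ofHom (Polynomial.mapAlgHom p.σ.hom)
    let j : P1 ⟶ P2 := Cp P1
    let k : P1 ⟶ P2 := CommAlgCat.ofHom (Polynomial.mapAlgHom (Cp p.U).hom)
    let ts : P1 ⟶ P2 := CommAlgCat.ofHom
      ((Polynomial.aeval ((Xp P1) * j.hom (Xp p.U)) : Polynomial p.U →ₐ[p.U] Polynomial P1).restrictScalars A)
    have hs₁X : s₁.hom (Xp p.U) = Xp P1 := Polynomial.map_X _
    have hkX : k.hom (Xp p.U) = Xp P1 := Polynomial.map_X _
    have hs₁C : Cp p.U ≫ s₁ = p.σ ≫ j :=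
      CommAlgCat.hom_ext (AlgHom.ext fun u => Polynomial.map_C _)
    have hkC : Cp p.U ≫ k = Cp p.U ≫ j :=
      CommAlgCat.hom_ext (AlgHom.ext fun u => Polynomial.map_C _)
    have htsX : ts.hom (Xp p.U) = Xp P1 * j.hom (Xp p.U) := Polynomial.aeval_X _
    have htsC : Cp p.U ≫ ts = Cp p.U ≫ j :=
      CommAlgCat.hom_ext (AlgHom.ext fun u => Polynomial.aeval_C _ u)
    have hσs : p.σ ≫ s₁ = p.σ ≫ ts := p.hom_ext_U fun i => by
      have h1 : (p.σ ≫ s₁).hom (p.xg i) = Xp P1 * j.hom (Xp p.U * (Cp p.U).hom (p.xg i)) := by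
        show s₁.hom (p.σ.hom (p.xg i)) = _
        rw [p.σ_xg, map_mul, hs₁X, ← p.σ_xg]
        exact congrArg (Xp P1 * ·) (congrArg (fun f : p.U ⟶ P2 => f.hom (p.xg i)) hs₁C)
      have h2 : (p.σ ≫ ts).hom (p.xg i) = Xp P1 * j.hom (Xp p.U * (Cp p.U).hom (p.xg i)) := by
        show ts.hom (p.σ.hom (p.xg i)) = _
        rw [p.σ_xg, map_mul, htsX, map_mul, mul_assoc]
        exact congrArg (fun w => Xp P1 * (j.hom (Xp p.U) * w))
          (congrArg (fun f : p.U ⟶ P2 => f.hom (p.xg i)) htsC)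
      rw [h1, h2]
    have eA : ap S.f P2 (res S.X₁ s₁ d) + Xp P1 • res S.X₂ j (res S.X₂ p.σ η) =
        res S.X₂ (p.σ ≫ s₁) η := by
      rw [ap_res, hd, map_sub, res_smul, hs₁X, ← res_comp, ← res_comp, ← res_comp, hs₁C,
        sub_add_cancel]
    have eB : ap S.f P2 (res S.X₁ ts d) + (Xp P1 * j.hom (Xp p.U)) • res S.X₂ j (res S.X₂ (Cp p.U) η) =
        res S.X₂ (p.σ ≫ ts) η := by
      rw [ap_res, hd, map_sub, res_smul, htsX, ← res_comp, ← res_comp, ← res_comp, htsC,
        sub_add_cancel]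
    have eC : res S.X₂ j (res S.X₂ p.σ η) =
        ap S.f P2 (res S.X₁ j d) + j.hom (Xp p.U) • res S.X₂ j (res S.X₂ (Cp p.U) η) := by
      rw [ap_res, hd, map_sub, res_smul, sub_add_cancel]
    have coc : res S.X₁ s₁ d + Xp P1 • res S.X₁ j d = res S.X₁ ts d := by
      apply hfi P2
      rw [hσs, eC, smul_add, smul_smul] at eA
      rw [← eB, ← add_assoc, add_right_cancel_iff] at eA
      rw [map_add, map_smul]
      exact eA
    have c1 : ∀ y : Val (uM q.M) P1,
        cf q.M 1 (res (uM q.M) s₁ y) = res (uM q.M) p.σ (cf q.M 1 y) := by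
      intro y
      induction y using pure_induction with
      | h0 => simp
      | hp r m => exact congrArg (fun w => pure q.M w m) (Polynomial.coeff_map _ _)
      | ha x y hx hy => simp only [map_add, hx, hy]
    have c2 : ∀ y : Val (uM q.M) P1,
        cf q.M 1 (res (uM q.M) ts y) = Xp p.U • res (uM q.M) (Cp p.U) (cf q.M 1 y) := by
      intro y
      induction y using pure_induction with
      | h0 => simp
      | hp r m =>
        rw [res_pure, cf_pure, cf_pure, res_pure, smul_pure]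
        congr 1
        induction (show Polynomial p.U from r) using Polynomial.induction_on' with
        | add a b ha hb =>
          have hadd : ts.hom (a + b : Polynomial p.U) = ts.hom a + ts.hom b := map_add _ _ _
          refine (congrArg (fun w : Polynomial P1 => w.coeff 1) hadd).trans ?_
          rw [Polynomial.coeff_add, Polynomial.coeff_add, map_add, mul_add, ← ha, ← hb]
        | monomial i a =>
          have hm : ts.hom (Polynomial.monomial i a : Polynomial p.U) =
              (Polynomial.C ((Polynomial.X : Polynomial p.U) ^ i * Polynomial.C a) : Polynomial P1) *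
                Polynomial.X ^ i := by
            show Polynomial.aeval ((Xp P1) * j.hom (Xp p.U)) (Polynomial.monomial i a) = _
            rw [Polynomial.aeval_monomial, mul_pow]
            show Polynomial.C (Polynomial.C a) * (Polynomial.X ^ i *
              (Polynomial.C (Polynomial.X : Polynomial p.U)) ^ i) = _
            rw [map_mul, map_pow]
            ring
          refine (congrArg (fun w : Polynomial P1 => w.coeff 1) hm).trans ?_
          rw [Polynomial.coeff_C_mul_X_pow, Polynomial.coeff_monomial]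
          rcases eq_or_ne i 1 with rfl | hi
          · simp [Cp_apply]
          · rw [if_neg (Ne.symm hi), if_neg hi]
            simp
      | ha x y hx hy => simp only [map_add, smul_add, hx, hy]
    have key : res (uM q.M) p.σ (cf q.M 1 (ap q.ι P1 d)) + ap q.ι P1 d =
        Xp p.U • res (uM q.M) (Cp p.U) (cf q.M 1 (ap q.ι P1 d)) := by
      have := congrArg (fun w => cf q.M 1 (ap q.ι P2 w)) coc
      simp only [map_add, map_smul, ap_res] at this
      rwa [cf_X_smul_res_C, c1, c2] at this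
    have key' : res S.X₁ p.σ d₁ + d = Xp p.U • res S.X₁ (Cp p.U) d₁ := by
      apply q.inj
      rw [map_add, map_smul, ap_res, ap_res, hd₁]
      exact key
    have key'' := congrArg (ap S.f (poly p.U)) key'
    rw [map_add, map_smul, ap_res, ap_res, hd] at key''
    show res S.X₂ p.σ _ = _
    rw [map_add, map_add, smul_add, ← key'']
    abel
  let s₀ : ∀ {C : Alg A}, Val L C → Val S.X₂ C := fun {C} y => res S.X₂ (p.ev y) η'
  have hnat : ∀ {C D : Alg A} (f : C ⟶ D) (y : Val L C), s₀ (res L f y) = res S.X₂ f (s₀ y) :=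
    fun f y => by
    show res S.X₂ _ η' = _
    rw [p.ev_natural, res_comp]
  have hsmul : ∀ {C : Alg A} (b : C) (y : Val L C), s₀ (b • y) = b • s₀ y := by
    intro C b y
    let θ : poly p.U ⟶ C := CommAlgCat.ofHom
      { Polynomial.eval₂RingHom (p.ev y).hom.toRingHom b with
        commutes' := fun a => by
          show Polynomial.eval₂ (p.ev y).hom.toRingHom b (algebraMap A (Polynomial p.U) a) = _
          rw [Polynomial.algebraMap_apply, Polynomial.eval₂_C]
          exact (p.ev y).hom.commutes a }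
    have hθX : θ.hom (Xp p.U) = b := Polynomial.eval₂_X _ _
    have hθC : Cp p.U ≫ θ = p.ev y :=
      CommAlgCat.hom_ext (AlgHom.ext fun u => Polynomial.eval₂_C _ _)
    have hξ : res L (p.σ ≫ θ) p.ξ = b • y := by
      rw [res_comp, show res L p.σ p.ξ = _ from p.homog_ξ, res_smul, hθX, ← res_comp, hθC,
        p.res_ev]
    show res S.X₂ (p.ev (b • y)) η' = b • res S.X₂ (p.ev y) η'
    rw [← hξ, p.ev_res_ξ, res_comp, show res S.X₂ p.σ η' = _ from hη', res_smul, hθX, ← res_comp,
      hθC]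
  have hgs : ∀ {C : Alg A} (y : Val L C), ap S.g C (s₀ y) = ap h C y := fun y => by
    rw [ap_res, hg, ← ap_res, p.res_ev]
  have hadd : ∀ {C : Alg A} (x y : Val L C), s₀ (x + y) = s₀ x + s₀ y := by
    have hδ : ∀ {C : Alg A} (x y : Val L C), ∃ e : Val S.X₁ C,
        ap S.f C e = s₀ (x + y) - s₀ x - s₀ y := fun {C} x y =>
      exact_elem hS C _ (by simp only [map_sub, hgs, map_add]; abel)
    choose δ hδ using @hδ
    have δnat : ∀ {C D : Alg A} (f : C ⟶ D) (x y : Val L C),
        δ (res L f x) (res L f y) = res S.X₁ f (δ x y) := fun f x y => by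
      apply hfi
      rw [hδ, ap_res, hδ, map_sub, map_sub, ← map_add, hnat, hnat, hnat]
    have δsmul : ∀ {C : Alg A} (b : C) (x y : Val L C), δ (b • x) (b • y) = b • δ x y := fun b x y => by
      apply hfi
      rw [hδ, map_smul, hδ, ← smul_add, hsmul, hsmul, hsmul, smul_sub, smul_sub]
    let φ₂ : mprod p.M p.M ⟶ mprod p.N p.N := ModuleCat.ofHom (p.φ.hom.prodMap p.φ.hom)
    let p₂ : LinPres (kernel (uMap φ₂)) := LinPres.ofKernel φ₂
      ((p.bM.prod p.bM).reindex finSumFinEquiv) ((p.bN.prod p.bN).reindex finSumFinEquiv)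
    have hπ₁ : ∀ B (z : Val (uM (mprod p.M p.M)) B),
        ap (uMap p.φ) B (ap (uMap (mfst _ _)) B z) =
          ap (uMap (mfst _ _)) B (ap (uMap φ₂) B z) := fun B z => by
      rw [← uMap_comp, ← uMap_comp]; rfl
    have hπ₂ : ∀ B (z : Val (uM (mprod p.M p.M)) B),
        ap (uMap p.φ) B (ap (uMap (msnd _ _)) B z) =
          ap (uMap (msnd _ _)) B (ap (uMap φ₂) B z) := fun B z => by
      rw [← uMap_comp, ← uMap_comp]; rfl
    obtain ⟨π₁, hp₁⟩ := p.toPres.exists_lift (kernel.ι (uMap φ₂) ≫ uMap (mfst _ _)) fun B z => by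
      rw [ap_comp, hπ₁, kernel_ι_comp, map_zero]
    obtain ⟨π₂, hp₂⟩ := p.toPres.exists_lift (kernel.ι (uMap φ₂) ≫ uMap (msnd _ _)) fun B z => by
      rw [ap_comp, hπ₂, kernel_ι_comp, map_zero]
    let D : ∀ {B : Alg A}, Val (kernel (uMap φ₂)) B → Val (uM q.M) B := fun {B} z =>
      ap q.ι B (δ (ap π₁ B z) (ap π₂ B z))
    have hD : p₂.Homog (D p₂.ξ) := by
      show res _ _ _ = _
      rw [← ap_res q.ι, ← δnat, ← ap_res π₁, ← ap_res π₂,
        show res _ p₂.σ p₂.ξ = _ from p₂.homog_ξ, map_smul, map_smul, δsmul, map_smul, ap_res π₁,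
        ap_res π₂, δnat, ap_res q.ι]
    obtain ⟨g, hg'⟩ := p₂.exists_hom_uM hD
    have hDg : ∀ {B : Alg A} (z : Val (kernel (uMap φ₂)) B),
        D z = ap (p₂.ι ≫ uMap g) B z := fun {B} z => by
      have e : ∀ w, D (res _ (p₂.ev z) w) = res _ (p₂.ev z) (D w) := fun w => by
        show ap q.ι B _ = _
        rw [ap_res π₁, ap_res π₂, δnat, ap_res q.ι]
      conv_lhs => rw [← p₂.res_ev z, e, ← hg', ← ap_res, p₂.res_ev z]
    intro C x y
    have hs0 : s₀ (0 : Val L C) = 0 := by
      rw [← zero_smul (C : Type u) (0 : Val L C), hsmul, zero_smul]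
    have pair : ∀ a b : Val L C, ∃ z : Val (kernel (uMap φ₂)) C, ap π₁ C z = a ∧ ap π₂ C z = b ∧
        ap (kernel.ι (uMap φ₂)) C z = ap (uMap (minl _ _)) C (ap p.ι C a) +
          ap (uMap (minr _ _)) C (ap p.ι C b) := fun a b => by
      obtain ⟨z, hz⟩ := kernel_exact (uMap φ₂) C (ap (uMap (minl _ _)) C (ap p.ι C a) +
        ap (uMap (minr _ _)) C (ap p.ι C b)) (by
        apply uMap_mprod_ext
        · rw [← hπ₁, map_add, fst_inl, fst_inr, add_zero, p.comp, map_zero]
        · rw [← hπ₂, map_add, snd_inl, snd_inr, zero_add, p.comp, map_zero])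
      refine ⟨z, p.inj C ?_, p.inj C ?_, hz⟩
      · rw [← ap_comp, hp₁, ap_comp, hz, map_add, fst_inl, fst_inr, add_zero]
      · rw [← ap_comp, hp₂, ap_comp, hz, map_add, snd_inl, snd_inr, zero_add]
    obtain ⟨z, hz₁, hz₂, hz⟩ := pair x y
    obtain ⟨zx, hx₁, hx₂, hx⟩ := pair x 0
    obtain ⟨zy, hy₁, hy₂, hy⟩ := pair 0 y
    have hzz : z = zx + zy := kernel_ι_inj _ C (by
      rw [map_add, hz, hx, hy, map_zero, map_zero, map_zero, add_zero, zero_add])
    have h0x : δ x (0 : Val L C) = 0 := hfi C (by rw [hδ, add_zero, hs0, sub_zero, sub_self, map_zero])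
    have h0y : δ (0 : Val L C) y = 0 := hfi C (by rw [hδ, zero_add, hs0, sub_zero, sub_self, map_zero])
    have hδ0 : δ x y = 0 := by
      apply q.inj
      have := hDg z
      rw [hzz, map_add, ← hDg, ← hDg, ← hzz] at this
      simp only [D, hz₁, hz₂, hx₁, hx₂, hy₁, hy₂, h0x, h0y, map_zero, add_zero] at this
      rw [this, map_zero]
    have := hδ x y
    rw [hδ0, map_zero, eq_comm, sub_sub, sub_eq_zero] at this
    exact this
  refine ⟨⟨fun X => ModuleCat.ofHom
    { toFun := fun y => s₀ (C := X.unop.unop) y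
      map_add' := fun x y => hadd x y
      map_smul' := fun b y => hsmul b y }, ?_⟩, hom_ext fun C y => hgs y⟩
  intro X Y f
  ext y
  exact hnat f.unop.unop y

theorem adequate_of_shortExact {S : ShortComplex (MVF A)} (hS : S.ShortExact)
    (h₁ : adequate A S.X₁) (h₃ : adequate A S.X₃) : adequate A S.X₂ := by
  classical
  obtain ⟨q⟩ := adequate_iff.1 h₁
  have hfi : ∀ B, Function.Injective (ap S.f B) := (mono_iff _).1 hS.mono_f
  have hfg : ∀ B x, ap S.g B (ap S.f B x) = 0 := fun B x => by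
    rw [← ap_comp, S.zero, ap_zero]
  obtain ⟨I, L, p, π, hπ⟩ := exists_cover h₃
  choose t ht using fun i => (p i).exists_lift_ext hS q (dincl L i ≫ π)
  obtain ⟨τ, hτ⟩ := exists_ddesc t
  have hτg : τ ≫ S.g = π := dsum_hom_ext fun i => by rw [← Category.assoc, hτ, ht]
  let L' : Option I → MVF A := fun o => o.elim S.X₁ L
  obtain ⟨ρ, hρ⟩ := exists_ddesc (L := L') (G := S.X₂) fun o =>
    match o with | none => S.f | some i => t i
  let i₀ : S.X₁ ⟶ dsum L' := dincl L' none
  let iS : ∀ i, L i ⟶ dsum L' := fun i => dincl L' (some i)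
  have hρ₀ : i₀ ≫ ρ = S.f := hρ none
  have hρS : ∀ i, iS i ≫ ρ = t i := fun i => hρ (some i)
  obtain ⟨jL, hjL⟩ := exists_ddesc (L := L) (G := dsum L') iS
  have hρj : jL ≫ ρ = τ := dsum_hom_ext fun i => by
    rw [← Category.assoc, hjL, hρS i, hτ]
  obtain ⟨l, hl⟩ := exists_lift S.f hfi (kernel.ι π ≫ τ) fun B x => exact_elem hS B _ (by
    rw [← ap_comp, Category.assoc, hτg, kernel.condition, ap_zero])
  let κ : kernel π ⟶ dsum L' := l ≫ i₀ - kernel.ι π ≫ jL
  have hρn : ∀ B x, ap ρ B (ap (i₀) B x) = ap S.f B x := fun B x => by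
    rw [← ap_comp, hρ₀]
  have hρjL : ∀ B w, ap ρ B (ap jL B w) = ap τ B w := fun B w => by rw [← ap_comp, hρj]
  have hdec : ∀ B (z : Val (dsum L') B), ∃ (x : Val S.X₁ B) (w : Val (dsum L) B),
      z = ap (i₀) B x + ap jL B w := by
    intro B z
    induction z using dsum_induction with
    | h0 => exact ⟨0, 0, by simp⟩
    | hi o y =>
      rcases o with _ | i
      · exact ⟨y, 0, by rw [map_zero, add_zero]; rfl⟩
      · exact ⟨0, ap (dincl L i) B y, by rw [map_zero, zero_add, ← ap_comp, hjL]; rfl⟩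
    | ha a b ha hb =>
      obtain ⟨x, w, rfl⟩ := ha
      obtain ⟨x', w', rfl⟩ := hb
      exact ⟨x + x', w + w', by rw [map_add, map_add]; abel⟩
  refine adequate_of_exact (adequate_kernel_of_sum p h₃ π)
    (adequate_dsum L' fun o => by rcases o with _ | i <;> [exact h₁; exact (p i).adequate]) κ ρ ?_ ?_ ?_
  · intro B y
    obtain ⟨w, hw⟩ := hπ B (ap S.g B y)
    obtain ⟨x, hx⟩ := exact_elem hS B (y - ap τ B w) (by
      rw [map_sub, ← ap_comp τ, hτg, hw, sub_self])
    exact ⟨ap (i₀) B x + ap jL B w, by rw [map_add, hρn, hρjL, hx, sub_add_cancel]⟩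
  · intro B k
    rw [ap_sub, ap_comp, ap_comp, map_sub, hρn, hρjL, ← ap_comp l, hl, ap_comp, sub_self]
  · intro B z hz
    obtain ⟨x, w, rfl⟩ := hdec B z
    rw [map_add, hρn, hρjL] at hz
    have hw : ap π B w = 0 := by
      have := congrArg (ap S.g B) hz
      rwa [map_add, hfg, zero_add, ← ap_comp, hτg, map_zero] at this
    obtain ⟨k, rfl⟩ := kernel_exact π B w hw
    have hxl : x = - ap l B k := hfi B (by
      rw [map_neg, ← ap_comp l, hl, ap_comp]; exact eq_neg_of_add_eq_zero_left hz)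
    exact ⟨-k, by rw [map_neg, ap_sub, ap_comp, ap_comp, hxl, map_neg]; abel⟩

end Extension

end Groth.Agent.Adeq88
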