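import Groth.Agent.Adeq88.Constr
import Mathlib.CategoryTheory.Adjunction.Basic
import Mathlib.CategoryTheory.Preadditive.Injective.Basic

/-!
The coreflector onto adequate functors.
-/

set_option autoImplicit false

universe u

open CategoryTheory Limits Opposite

noncomputable section

namespace Groth.Agent.Adeq88

open Adeq

variable (A : Type u) [CommRing A]

/-- The standard finite free module. -/
abbrev stdM (n : ℕ) : ModuleCat.{u + 1} A := ModuleCat.of A (ULift.{u + 1} (Fin n → A))

/-- The standard basis. -/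
def stdB (n : ℕ) : Module.Basis (Fin n) A (stdM A n) :=
  (Pi.basisFun A (Fin n)).map ULift.moduleEquiv.symm

/-- The index set of the standard linearly adequate functors. -/
abbrev LinIdx : Type u := Σ n : ℕ, Σ r : ℕ, Fin n → Fin r → A

/-- The map of a standard linearly adequate functor. -/
def stdφ (d : LinIdx A) : stdM A d.1 ⟶ stdM A d.2.1 :=
  ModuleCat.ofHom ((stdB A d.1).constr A fun i => ∑ j, d.2.2 i j • stdB A d.2.1 j)

/-- A standard linearly adequate functor. -/
abbrev std (d : LinIdx A) : MVF A := kernel (uMap (stdφ A d))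

/-- The presentation of a standard linearly adequate functor. -/
def stdPres (d : LinIdx A) : LinPres (std A d) :=
  LinPres.ofKernel (stdφ A d) (stdB A d.1) (stdB A d.2.1)

variable {A}

theorem exists_std_surj {L : MVF A} (p : LinPres L) :
    ∃ (d : LinIdx A) (θ : std A d ⟶ L), ∀ B, Function.Surjective (ap θ B) := by
  let d : LinIdx A := ⟨p.n, p.r, fun i j => p.mat j i⟩
  let g : stdM A p.n ⟶ p.M := ModuleCat.ofHom ((stdB A p.n).constr A p.bM)
  let ψ : stdM A p.r ⟶ p.N := ModuleCat.ofHom ((stdB A p.r).constr A p.bN)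
  have hg : g ≫ p.φ = stdφ A d ≫ ψ := by
    apply ModuleCat.hom_ext
    refine (stdB A p.n).ext fun i => ?_
    show p.φ.hom ((stdB A p.n).constr A p.bM (stdB A p.n i)) =
      (stdB A p.r).constr A p.bN ((stdB A p.n).constr A (fun i => ∑ j, p.mat j i • stdB A p.r j) (stdB A p.n i))
    simp only [Module.Basis.constr_basis, map_sum, map_smul]
    exact (p.bN.sum_repr _).symm
  obtain ⟨θ, hθ⟩ := p.exists_lift (kernel.ι (uMap (stdφ A d)) ≫ uMap g) fun B z => by
    rw [ap_comp]
    refine (uMap_comp g p.φ B _).symm.trans ?_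
    rw [hg]
    refine (uMap_comp (stdφ A d) ψ B _).trans ?_
    rw [kernel_ι_comp, map_zero]
  refine ⟨d, θ, fun B y => ?_⟩
  let c := p.co (ap p.ι B y)
  have hc : ∀ k, ∑ i, p.mat k i • c i = 0 :=
    (p.rel_iff _).1 (by rw [p.ofCo_co]; exact p.comp B y)
  have hm : ∀ j i, (stdPres A d).mat j i = p.mat j i := fun j i => by
    show (stdB A p.r).repr ((stdB A p.n).constr A (fun i => ∑ j, p.mat j i • stdB A p.r j)
      (stdB A p.n i)) j = _
    rw [Module.Basis.constr_basis, Module.Basis.repr_sum_self]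
  obtain ⟨z, hz⟩ := kernel_exact (uMap (stdφ A d)) B (∑ i, pure (stdM A p.n) (c i) (stdB A p.n i))
    (((stdPres A d).rel_iff c).2 fun k =>
      (Finset.sum_congr rfl fun i _ => by rw [hm]).trans (hc k))
  refine ⟨z, p.inj B ?_⟩
  rw [← ap_comp, hθ, ap_comp, hz]
  conv_rhs => rw [← p.ofCo_co (ap p.ι B y)]
  rw [LinPres.ofCo, map_sum]
  refine Finset.sum_congr rfl fun i _ => ?_
  show pure p.M (c i) ((stdB A p.n).constr A p.bM (stdB A p.n i)) = _
  rw [Module.Basis.constr_basis]

theorem exists_std_cover {G : MVF A} (hG : adequate A G) :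
    ∃ (I : Type (u + 1)) (d : I → LinIdx A) (π : dsum (fun i => std A (d i)) ⟶ G),
      ∀ B, Function.Surjective (ap π B) := by
  classical
  have h : ∀ i : Σ B : Alg A, Val G B, ∃ (d : LinIdx A) (h : std A d ⟶ G) (z : Val (std A d) i.1),
      ap h i.1 z = i.2 := fun i => by
    obtain ⟨L, p, h, y, hy⟩ := exists_lin_elem hG i.2
    obtain ⟨d, θ, hθ⟩ := exists_std_surj p
    obtain ⟨z, hz⟩ := hθ i.1 y
    exact ⟨d, θ ≫ h, z, by rw [ap_comp, hz, hy]⟩
  choose d h z hz using h
  obtain ⟨π, hπ⟩ := exists_ddesc (L := fun i : Σ B : Alg A, Val G B => std A (d i)) (G := G) h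
  refine ⟨_, d, π, fun B x =>
    ⟨ap (dincl (fun i : Σ B : Alg A, Val G B => std A (d i)) ⟨B, x⟩) B (z ⟨B, x⟩), ?_⟩⟩
  exact (congrArg (fun φ => ap φ B (z ⟨B, x⟩)) (hπ ⟨B, x⟩)).trans (hz ⟨B, x⟩)

theorem exists_coreflection (F : MVF A) :
    ∃ (Q : MVF A) (_ : adequate A Q) (ε : Q ⟶ F),
      (∀ (G : MVF A), adequate A G → ∀ f : G ⟶ F, ∃ g : G ⟶ Q, g ≫ ε = f) ∧
      ∀ (G : MVF A), adequate A G → ∀ g : G ⟶ Q, g ≫ ε = 0 → g = 0 := by
  classical
  let I : Type (u + 1) := Σ d : LinIdx A, (std A d ⟶ F)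
  let S : MVF A := dsum fun i : I => std A i.1
  obtain ⟨π, hπ⟩ := exists_ddesc (L := fun i : I => std A i.1) fun i => i.2
  let I₂ : Type (u + 1) := Σ d : LinIdx A, (std A d ⟶ kernel π)
  obtain ⟨ρ, hρ⟩ := exists_ddesc (L := fun i : I₂ => std A i.1) fun i => i.2
  let κ := ρ ≫ kernel.ι π
  have hS : adequate A S := adequate_dsum _ fun i => (stdPres A i.1).adequate
  have hQ : adequate A (cokernel κ) :=
    adequate_cokernel κ (adequate_dsum _ fun i => (stdPres A i.1).adequate) hS
  let ε : cokernel κ ⟶ F := cokernel.desc κ π (by rw [Category.assoc, kernel.condition, comp_zero])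
  have uniq0 : ∀ (d : LinIdx A) (g : std A d ⟶ cokernel κ), g ≫ ε = 0 → g = 0 := by
    intro d g hg
    obtain ⟨s, hs⟩ := (stdPres A d).exists_lift_of_epi (adequate_iff.1 hS).some
      (adequate_iff.1 hQ).some (cokernel.π κ) (cokernel_π_surjective κ) g
    have hsπ : s ≫ π = 0 := by
      rw [← hg, ← hs, Category.assoc, cokernel.π_desc]
    let s' : std A d ⟶ kernel π := kernel.lift π s hsπ
    have h' : dincl (fun i : I₂ => std A i.1) ⟨d, s'⟩ ≫ κ = s := by
      rw [← Category.assoc, hρ ⟨d, s'⟩, kernel.lift_ι]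
    rw [← hs, ← h', Category.assoc, cokernel.condition, comp_zero]
  have uniq : ∀ (G : MVF A), adequate A G → ∀ g : G ⟶ cokernel κ, g ≫ ε = 0 → g = 0 := by
    intro G hG g hg
    obtain ⟨J, d, e, he⟩ := exists_std_cover hG
    have : Epi e := (epi_iff e).2 he
    rw [← cancel_epi e, comp_zero]
    refine dsum_hom_ext fun j => ?_
    rw [comp_zero, ← Category.assoc]
    exact uniq0 _ _ (by rw [Category.assoc, hg, comp_zero])
  refine ⟨cokernel κ, hQ, ε, fun G hG f => ?_, uniq⟩
  obtain ⟨J, d, e, he⟩ := exists_std_cover hG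
  obtain ⟨t, ht⟩ := exists_ddesc (L := fun j => std A (d j)) fun j =>
    dincl (fun i : I => std A i.1) ⟨d j, dincl (fun j => std A (d j)) j ≫ e ≫ f⟩ ≫ cokernel.π κ
  have htε : t ≫ ε = e ≫ f := dsum_hom_ext fun j => by
    rw [← Category.assoc, ht, Category.assoc, cokernel.π_desc,
      hπ ⟨d j, dincl (fun j => std A (d j)) j ≫ e ≫ f⟩]
  have hk : kernel.ι e ≫ t = 0 := uniq _ (adequate_kernel e
    (adequate_dsum _ fun j => (stdPres A (d j)).adequate) hG) _ (by
    rw [Category.assoc, htε, ← Category.assoc, kernel.condition, zero_comp])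
  have : Epi e := (epi_iff e).2 he
  refine ⟨Abelian.epiDesc e t hk, ?_⟩
  rw [← cancel_epi e, ← Category.assoc, Abelian.comp_epiDesc, htε]

theorem isLeftAdjoint_ι : (adequate A).ι.IsLeftAdjoint := by
  choose Q hQ ε hex huniq using fun F : MVF A => exists_coreflection F
  have key : ∀ (G : Adequate A) (F : MVF A), Function.Bijective
      fun g : G ⟶ (⟨Q F, hQ F⟩ : Adequate A) => g.hom ≫ ε F := fun G F => by
    refine ⟨fun g g' h => ObjectProperty.hom_ext _ ?_, fun f => ?_⟩
    · have := huniq F G.obj G.property (g.hom - g'.hom) (by rw [Preadditive.sub_comp, sub_eq_zero]; exact h)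
      exact sub_eq_zero.1 this
    · obtain ⟨g, hg⟩ := hex F G.obj G.property f
      exact ⟨ObjectProperty.homMk g, hg⟩
  refine ⟨_, ⟨Adjunction.adjunctionOfEquivRight
    (G_obj := fun F => (⟨Q F, hQ F⟩ : Adequate A))
    (fun G F => (Equiv.ofBijective _ (key G F)).symm) fun G' G F h f => ?_⟩⟩
  apply (Equiv.ofBijective _ (key G' F)).injective
  rw [Equiv.apply_symm_apply]
  show h.hom ≫ f = (h ≫ (Equiv.ofBijective _ (key G F)).symm f).hom ≫ ε F
  rw [ObjectProperty.FullSubcategory.comp_hom, Category.assoc]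
  exact congrArg (h.hom ≫ ·) ((Equiv.ofBijective _ (key G F)).apply_symm_apply f).symm

theorem enoughInjectives_adequate [EnoughInjectives (MVF A)] : EnoughInjectives (Adequate A) := by
  obtain ⟨R, ⟨adj⟩⟩ := (isLeftAdjoint_ι (A := A)).exists_rightAdjoint
  constructor
  intro X
  let J := Injective.under X.obj
  let ι₀ : X.obj ⟶ J := Injective.ι X.obj
  refine ⟨{ J := R.obj J, f := adj.homEquiv X J ι₀, injective := ⟨fun {Y Z} g f hf => ?_⟩, mono := ?_ }⟩
  · have : Mono f.hom := by
      have hk : kernel.ι f.hom = 0 := by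
        let K : Adequate A := ⟨kernel f.hom, adequate_kernel f.hom Y.property Z.property⟩
        have h0 : (ObjectProperty.homMk (kernel.ι f.hom) : K ⟶ Y) = ObjectProperty.homMk 0 := by
          rw [← cancel_mono f]
          apply ObjectProperty.hom_ext
          show kernel.ι f.hom ≫ f.hom = 0 ≫ f.hom
          rw [kernel.condition, zero_comp]
        exact congrArg InducedCategory.Hom.hom h0
      exact Abelian.mono_of_kernel_ι_eq_zero _ hk
    refine ⟨adj.homEquiv Z J (Injective.factorThru ((adj.homEquiv Y J).symm g) f.hom), ?_⟩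
    rw [← Adjunction.homEquiv_naturality_left, ← Equiv.eq_symm_apply]
    exact Injective.comp_factorThru _ f.hom
  · refine ⟨fun {Z} a b h => ObjectProperty.hom_ext _ ?_⟩
    rw [← Adjunction.homEquiv_naturality_left, ← Adjunction.homEquiv_naturality_left,
      EmbeddingLike.apply_eq_iff_eq] at h
    exact (cancel_mono ι₀).1 h

end Groth.Agent.Adeq88
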