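import Groth.Agent.Adeq88.Flat
import Mathlib.RingTheory.Flat.FaithfullyFlat.Basic
import Mathlib.RingTheory.TensorProduct.Pi

/-!
Faithfully flat descent for the values of adequate functors.
-/

set_option autoImplicit false

universe u v

open CategoryTheory Limits Opposite TensorProduct

noncomputable section

namespace Groth.Agent.Adeq88

open Adeq

section Amitsur

variable {R E : Type u} [CommRing R] [CommRing E] [Algebra R E] [Module.FaithfullyFlat R E]
  {N : Type v} [AddCommGroup N] [Module R N]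

/-- The inclusion of a module in its base change. -/
def unitL (R E : Type u) [CommRing R] [CommRing E] [Algebra R E] (N : Type v) [AddCommGroup N]
    [Module R N] : N →ₗ[R] E ⊗[R] N := TensorProduct.mk R E N 1

/-- The two maps `E ⊗ N → (E ⊗ E) ⊗ N`. -/
def coL (R E : Type u) [CommRing R] [CommRing E] [Algebra R E] (N : Type v) [AddCommGroup N]
    [Module R N] : E ⊗[R] N →ₗ[R] (E ⊗[R] E) ⊗[R] N :=
  ((Algebra.TensorProduct.includeLeft (R := R) (S := R) (A := E) (B := E)).toLinearMap -
    (Algebra.TensorProduct.includeRight (R := R) (A := E) (B := E)).toLinearMap).rTensor N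

theorem amitsur_exact : Function.Exact (unitL R E N) (coL R E N) := by
  refine Module.FaithfullyFlat.lTensor_reflects_exact R E _ _ fun x => ⟨fun hx => ?_, ?_⟩
  · -- contracting homotopy given by multiplication
    let μ : E ⊗[R] (E ⊗[R] N) →ₗ[R] E ⊗[R] N :=
      (LinearMap.mul' R E).rTensor N ∘ₗ (TensorProduct.assoc R E E N).symm.toLinearMap
    let ν : E ⊗[R] ((E ⊗[R] E) ⊗[R] N) →ₗ[R] E ⊗[R] (E ⊗[R] N) :=
      (TensorProduct.assoc R E E N).toLinearMap ∘ₗ
        (((LinearMap.mul' R E).rTensor E ∘ₗ (TensorProduct.assoc R E E E).symm.toLinearMap).rTensor N) ∘ₗ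
        (TensorProduct.assoc R E (E ⊗[R] E) N).symm.toLinearMap
    have key : ν ∘ₗ (coL R E N).lTensor E = (unitL R E N).lTensor E ∘ₗ μ - LinearMap.id := by
      ext a b n
      simp [ν, μ, coL, unitL, TensorProduct.tmul_sub, TensorProduct.sub_tmul]
    refine ⟨μ x, ?_⟩
    have h := LinearMap.congr_fun key x
    rw [LinearMap.comp_apply, hx, map_zero, LinearMap.sub_apply, LinearMap.comp_apply,
      LinearMap.id_apply, eq_comm, sub_eq_zero] at h
    exact h
  · rintro ⟨y, rfl⟩
    rw [← LinearMap.lTensor_comp_apply]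
    have : coL R E N ∘ₗ unitL R E N = 0 := by
      ext n
      simp [coL, unitL, TensorProduct.sub_tmul, Algebra.TensorProduct.one_def]
    rw [this, LinearMap.lTensor_zero, LinearMap.zero_apply]

theorem unitL_injective : Function.Injective (unitL R E N) :=
  Module.FaithfullyFlat.tensorProduct_mk_injective N

end Amitsur

section FF

variable {A : Type u} [CommRing A] {B E : Alg A} (f : B ⟶ E) [Algebra B E]
  (hf : ∀ b, algebraMap B E b = f.hom b)

include hf in
theorem isScalarTower_of_hom : IsScalarTower A B E :=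
  IsScalarTower.of_algebraMap_eq fun a => by rw [hf]; exact (f.hom.commutes a).symm

/-- The square of an algebra over another one. -/
def sqAlg (hf : ∀ b, algebraMap B E b = f.hom b) : Alg A :=
  haveI := isScalarTower_of_hom f hf
  algOf A ((E : Type u) ⊗[B] (E : Type u))

/-- The first coface. -/
def sqL : E ⟶ sqAlg f hf :=
  haveI := isScalarTower_of_hom f hf
  CommAlgCat.ofHom ((Algebra.TensorProduct.includeLeft (R := B) (S := B) (A := E) (B := E)).restrictScalars A)

/-- The second coface. -/
def sqR : E ⟶ sqAlg f hf :=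
  haveI := isScalarTower_of_hom f hf
  CommAlgCat.ofHom ((Algebra.TensorProduct.includeRight (R := B) (A := E) (B := E)).restrictScalars A)

include hf in
theorem uM_ff_injective [Module.FaithfullyFlat B E] (M : ModuleCat.{u + 1} A) :
    Function.Injective (res (uM M) f) := by
  intro x y h
  apply unitL_injective (R := (B : Type u)) (E := (E : Type u))
  apply (bcT_uM_bijective f hf M).1
  show bcT f hf _ ((1 : E) ⊗ₜ[B] x) = bcT f hf _ ((1 : E) ⊗ₜ[B] y)
  rw [bcT_tmul, bcT_tmul, one_smul, one_smul, h]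

theorem uM_ff_exact [Module.FaithfullyFlat B E] (M : ModuleCat.{u + 1} A) (y : Val (uM M) E)
    (h : res (uM M) (sqL f hf) y = res (uM M) (sqR f hf) y) : y ∈ Set.range (res (uM M) f) := by
  obtain ⟨z, rfl⟩ := (bcT_uM_bijective f hf M).2 y
  have := isScalarTower_of_hom f hf
  let : Algebra B (sqAlg f hf) := inferInstanceAs (Algebra B ((E : Type u) ⊗[B] (E : Type u)))
  let g : B ⟶ sqAlg f hf := f ≫ sqL f hf
  have hg : ∀ b, algebraMap B (sqAlg f hf) b = g.hom b := fun b => by
    show algebraMap B ((E : Type u) ⊗[B] (E : Type u)) b = (f.hom b) ⊗ₜ[B] (1 : E)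
    rw [← hf, Algebra.TensorProduct.algebraMap_apply]
  have hg' : f ≫ sqR f hf = g := CommAlgCat.hom_ext (AlgHom.ext fun b => by
    show (1 : E) ⊗ₜ[B] (f.hom b) = (f.hom b) ⊗ₜ[B] (1 : E)
    rw [← hf, Algebra.TensorProduct.tmul_one_eq_one_tmul])
  let iL : (E : Type u) →ₗ[B] (sqAlg f hf : Type u) :=
    (Algebra.TensorProduct.includeLeft (R := (B : Type u)) (S := (B : Type u)) (A := (E : Type u))
      (B := (E : Type u))).toLinearMap
  let iR : (E : Type u) →ₗ[B] (sqAlg f hf : Type u) :=
    (Algebra.TensorProduct.includeRight (R := (B : Type u)) (A := (E : Type u))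
      (B := (E : Type u))).toLinearMap
  have hL : ∀ w, res (uM M) (sqL f hf) (bcT f hf _ w) = bcT g hg (uM M) (iL.rTensor _ w) := by
    intro w
    induction w using TensorProduct.induction_on with
    | zero => simp
    | tmul c x =>
      rw [bcT_tmul, LinearMap.rTensor_tmul, bcT_tmul, res_smul, ← res_comp]
      rfl
    | add x y hx hy => simp only [map_add, hx, hy]
  have hR : ∀ w, res (uM M) (sqR f hf) (bcT f hf _ w) = bcT g hg (uM M) (iR.rTensor _ w) := by
    intro w
    induction w using TensorProduct.induction_on with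
    | zero => simp
    | tmul c x =>
      rw [bcT_tmul, LinearMap.rTensor_tmul, bcT_tmul, res_smul, ← res_comp, hg']
      rfl
    | add x y hx hy => simp only [map_add, hx, hy]
  rw [hL, hR] at h
  have h' := (bcT_uM_bijective g hg M).1 h
  obtain ⟨v, rfl⟩ := (amitsur_exact z).1 (by
    rw [coL, LinearMap.rTensor_sub, LinearMap.sub_apply, sub_eq_zero]
    exact h')
  exact ⟨v, by show _ = bcT f hf _ ((1 : E) ⊗ₜ[B] v); rw [bcT_tmul, one_smul]⟩

include hf in
theorem ff_injective [Module.FaithfullyFlat B E] {F : MVF A} (p : Pres F) :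
    Function.Injective (res F f) := fun x y h =>
  p.inj B (uM_ff_injective f hf p.M (by rw [← ap_res, ← ap_res, h]))

theorem ff_exact [Module.FaithfullyFlat B E] {F : MVF A} (p : Pres F) (y : Val F E)
    (h : res F (sqL f hf) y = res F (sqR f hf) y) : y ∈ Set.range (res F f) := by
  obtain ⟨v, hv⟩ := uM_ff_exact f hf p.M (ap p.ι E y) (by rw [← ap_res, ← ap_res, h])
  obtain ⟨x, rfl⟩ := p.exact B v (uM_ff_injective f hf p.N (by
    rw [← ap_res, hv, p.comp, map_zero]))
  exact ⟨x, p.inj E (by rw [ap_res, hv])⟩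

end FF

section Family

variable {A : Type u} [CommRing A]

theorem uM_jointly_injective {σ : Type} [Fintype σ] {P : Alg A} {Q : σ → Alg A}
    (π : ∀ i, P ⟶ Q i) (s : ∀ i, (Q i : Type u) →ₗ[A] P)
    (hs : ∀ p, ∑ i, s i ((π i).hom p) = p) {M : ModuleCat.{u + 1} A} {x y : Val (uM M) P}
    (h : ∀ i, res (uM M) (π i) x = res (uM M) (π i) y) : x = y := by
  have key : ∀ z, uval M P z = ∑ i, (s i).rTensor M (uval M (Q i) (res (uM M) (π i) z)) := by
    intro z
    induction z using pure_induction with
    | h0 => simp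
    | hp b m =>
      simp only [res_pure, uval_pure, LinearMap.rTensor_tmul, ← TensorProduct.sum_tmul, hs]
    | ha a b iha ihb => simp only [map_add, iha, ihb, Finset.sum_add_distrib]
  exact (uval M P).injective (by rw [key, key]; simp only [h])

theorem jointly_injective {σ : Type} [Fintype σ] {P : Alg A} {Q : σ → Alg A}
    (π : ∀ i, P ⟶ Q i) (s : ∀ i, (Q i : Type u) →ₗ[A] P)
    (hs : ∀ p, ∑ i, s i ((π i).hom p) = p) {F : MVF A} (q : Pres F) {x y : Val F P}
    (h : ∀ i, res F (π i) x = res F (π i) y) : x = y :=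
  q.inj P (uM_jointly_injective π s hs fun i => by rw [← ap_res, ← ap_res, h])

/-- The product algebra. -/
abbrev piAlg {σ : Type} (Q : σ → Alg A) : Alg A := algOf A (∀ i, (Q i : Type u))

/-- The projections of the product algebra. -/
def piProj {σ : Type} (Q : σ → Alg A) (i : σ) : piAlg Q ⟶ Q i :=
  CommAlgCat.ofHom (Pi.evalAlgHom A (fun i => (Q i : Type u)) i)

theorem pi_surj {σ : Type} [Fintype σ] {Q : σ → Alg A} {F : MVF A} (q : Pres F)
    (y : ∀ i, Val F (Q i)) : ∃ x, ∀ i, res F (piProj Q i) x = y i := by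
  classical
  let s : ∀ i, (Q i : Type u) →ₗ[A] piAlg Q := fun i =>
    LinearMap.single A (fun i => (Q i : Type u)) i
  have hs : ∀ p, ∑ i, s i ((piProj Q i).hom p) = p := fun p => Finset.univ_sum_single p
  have huM : ∀ (M : ModuleCat.{u + 1} A) (z : ∀ i, Val (uM M) (Q i)), ∃ w : Val (uM M) (piAlg Q),
      ∀ i, res (uM M) (piProj Q i) w = z i := by
    intro M z
    refine ⟨∑ j, (uval M (piAlg Q)).symm ((s j).rTensor M (uval M (Q j) (z j))), fun i => ?_⟩
    rw [map_sum, Finset.sum_eq_single i]
    · apply (uval M (Q i)).injective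
      rw [uval_res, LinearEquiv.apply_symm_apply, ← LinearMap.rTensor_comp_apply]
      have : (piProj Q i).hom.toLinearMap ∘ₗ s i = LinearMap.id :=
        LinearMap.ext fun c => Pi.single_eq_same (M := fun i => (Q i : Type u)) i c
      rw [this, LinearMap.rTensor_id, LinearMap.id_apply]
    · intro j _ hj
      apply (uval M (Q i)).injective
      rw [uval_res, LinearEquiv.apply_symm_apply, ← LinearMap.rTensor_comp_apply]
      have : (piProj Q i).hom.toLinearMap ∘ₗ s j = 0 :=
        LinearMap.ext fun c => Pi.single_eq_of_ne (M := fun i => (Q i : Type u)) hj.symm c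
      rw [this, LinearMap.rTensor_zero, LinearMap.zero_apply, map_zero]
    · exact fun hi => absurd (Finset.mem_univ i) hi
  obtain ⟨w, hw⟩ := huM q.M fun i => ap q.ι (Q i) (y i)
  obtain ⟨x, rfl⟩ := q.exact (piAlg Q) w (uM_jointly_injective (piProj Q) s hs fun i => by
    rw [← ap_res, hw, q.comp, map_zero])
  exact ⟨x, fun i => q.inj _ (by rw [ap_res, hw])⟩

end Family

section FamilyDescent

variable {A : Type u} [CommRing A] {σ : Type} [Fintype σ] {B : Alg A} (Q : σ → Alg A)
  [∀ i, Algebra B (Q i)] [∀ i, IsScalarTower A B (Q i)] (f : ∀ i, B ⟶ Q i)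
  (hf : ∀ i b, algebraMap B (Q i) b = (f i).hom b) [Module.FaithfullyFlat B (∀ i, (Q i : Type u))]

/-- The pairwise products. -/
abbrev pairAlg (i j : σ) : Alg A := algOf A ((Q i : Type u) ⊗[B] (Q j : Type u))

/-- The first coface of a pair. -/
def pairL (i j : σ) : Q i ⟶ pairAlg (B := B) Q i j :=
  CommAlgCat.ofHom ((Algebra.TensorProduct.includeLeft (R := B) (S := B) (A := Q i) (B := Q j)).restrictScalars A)

/-- The second coface of a pair. -/
def pairR (i j : σ) : Q j ⟶ pairAlg (B := B) Q i j :=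
  CommAlgCat.ofHom ((Algebra.TensorProduct.includeRight (R := B) (A := Q i) (B := Q j)).restrictScalars A)

include hf in
theorem family_descent {F : MVF A} (q : Pres F) :
    (∀ x y : Val F B, (∀ i, res F (f i) x = res F (f i) y) → x = y) ∧
      ∀ y : ∀ i, Val F (Q i), (∀ i j, res F (pairL (B := B) Q i j) (y i) =
        res F (pairR (B := B) Q i j) (y j)) → ∃ x, ∀ i, res F (f i) x = y i := by
  classical
  let : Algebra B (piAlg Q) := inferInstanceAs (Algebra B (∀ i, (Q i : Type u)))
  have : Module.FaithfullyFlat B (piAlg Q) :=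
    inferInstanceAs (Module.FaithfullyFlat B (∀ i, (Q i : Type u)))
  let g : B ⟶ piAlg Q := CommAlgCat.ofHom (IsScalarTower.toAlgHom A B (∀ i, (Q i : Type u)))
  have hg : ∀ b, algebraMap B (piAlg Q) b = g.hom b := fun b => rfl
  have hgp : ∀ i, g ≫ piProj Q i = f i := fun i => CommAlgCat.hom_ext (AlgHom.ext fun b => hf i b)
  let s : ∀ i, (Q i : Type u) →ₗ[B] piAlg Q := fun i =>
    LinearMap.single B (fun i => (Q i : Type u)) i
  have hs : ∀ p, ∑ i, s i ((piProj Q i).hom p) = p := fun p => Finset.univ_sum_single p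
  have : IsScalarTower A B (piAlg Q) := isScalarTower_of_hom g hg
  refine ⟨fun x y h => ff_injective g hg q (jointly_injective (piProj Q)
    (fun i => (s i).restrictScalars A) hs q fun i => by
      rw [← res_comp, ← res_comp, hgp, h]), fun y hy => ?_⟩
  obtain ⟨x, hx⟩ := pi_surj q y
  let π : ∀ k : σ × σ, sqAlg g hg ⟶ pairAlg (B := B) Q k.1 k.2 := fun k =>
    CommAlgCat.ofHom ((Algebra.TensorProduct.map
      (Pi.evalAlgHom B (fun i => (Q i : Type u)) k.1)
      (Pi.evalAlgHom B (fun i => (Q i : Type u)) k.2)).restrictScalars A)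
  let t : ∀ k : σ × σ, (pairAlg (B := B) Q k.1 k.2 : Type u) →ₗ[A] sqAlg g hg := fun k =>
    (TensorProduct.map (s k.1) (s k.2)).restrictScalars A
  let π' : ∀ i, (piAlg Q : Type u) →ₗ[B] (Q i : Type u) := fun i =>
    (Pi.evalAlgHom B (fun i => (Q i : Type u)) i).toLinearMap
  have key : ∀ p : (piAlg Q : Type u) ⊗[B] (piAlg Q : Type u),
      ∑ k : σ × σ, TensorProduct.map (s k.1) (s k.2) (TensorProduct.map (π' k.1) (π' k.2) p) = p := by
    intro p
    induction p using TensorProduct.induction_on with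
    | zero => simp
    | tmul a b =>
      simp only [TensorProduct.map_tmul, Fintype.sum_prod_type]
      refine Eq.trans ?_ (congrArg₂ (· ⊗ₜ[(B : Type u)] ·) (hs a) (hs b))
      dsimp only
      rw [TensorProduct.sum_tmul]
      refine Finset.sum_congr rfl fun i _ => ?_
      rw [TensorProduct.tmul_sum]
      rfl
    | add a b iha ihb => simp only [map_add, Finset.sum_add_distrib, iha, ihb]
  have ht : ∀ p, ∑ k, t k ((π k).hom p) = p := fun p => key p
  have hl : ∀ k : σ × σ, sqL g hg ≫ π k = piProj Q k.1 ≫ pairL (B := B) Q k.1 k.2 := fun k =>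
    CommAlgCat.hom_ext (AlgHom.ext fun a => rfl)
  have hr : ∀ k : σ × σ, sqR g hg ≫ π k = piProj Q k.2 ≫ pairR (B := B) Q k.1 k.2 := fun k =>
    CommAlgCat.hom_ext (AlgHom.ext fun a => rfl)
  obtain ⟨z, hz⟩ := ff_exact g hg q x (jointly_injective π t ht q fun k => by
    rw [← res_comp, ← res_comp, hl, hr, res_comp, res_comp, hx, hx, hy])
  exact ⟨z, fun i => by rw [← hgp, res_comp, hz, hx]⟩

end FamilyDescent

end Groth.Agent.Adeq88
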