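import Groth.Agent.Adeq88.Constr
import Mathlib.Algebra.Category.Ring.FilteredColimits
import Mathlib.Algebra.Category.Ring.Under.Basic
import Mathlib.Algebra.Category.Grp.FilteredColimits
import Mathlib.CategoryTheory.Limits.Constructions.Over.Connected
import Mathlib.CategoryTheory.Limits.Types.Filtered
import Mathlib.CategoryTheory.Filtered.Connected

/-!
Adequate functors commute with filtered colimits of algebras.
-/

set_option autoImplicit false

universe u

open CategoryTheory Limits Opposite TensorProduct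

noncomputable section

namespace Groth.Agent.Adeq88

open Adeq

variable {A : Type u} [CommRing A] {J : Type u} [SmallCategory J] [IsFiltered J]
  {D : J ⥤ Alg A} {c : Cocone D} (hc : IsColimit c)

/-- The colimit of the underlying sets. -/
def isColimitTypes : IsColimit ((forget (Alg A)).mapCocone c) :=
  have : PreservesColimitsOfShape J
      ((commAlgCatEquivUnder (CommRingCat.of A)).functor ⋙ Under.forget _ ⋙ forget CommRingCat.{u}) :=
    haveI := IsFiltered.isConnected J
    inferInstance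
  isColimitOfPreserves
    ((commAlgCatEquivUnder (CommRingCat.of A)).functor ⋙ Under.forget _ ⋙ forget CommRingCat.{u}) hc

include hc in
theorem alg_surj (x : c.pt) : ∃ (j : J) (y : D.obj j), (c.ι.app j).hom y = x :=
  Types.jointly_surjective _ (isColimitTypes hc) x

include hc in
theorem alg_eq {j : J} (y y' : D.obj j) (h : (c.ι.app j).hom y = (c.ι.app j).hom y') :
    ∃ (k : J) (f : j ⟶ k), (D.map f).hom y = (D.map f).hom y' :=
  (Types.FilteredColimit.isColimit_eq_iff' (isColimitTypes hc) y y').1 h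

include hc in
theorem alg_surj_fin {ι : Type} [Fintype ι] (j₀ : J) (x : ι → c.pt) :
    ∃ (j : J) (_ : j₀ ⟶ j) (y : ι → D.obj j), ∀ i, (c.ι.app j).hom (y i) = x i := by
  classical
  choose j y hy using fun i => alg_surj hc (x i)
  obtain ⟨S, hS⟩ := IsFiltered.sup_objs_exists (insert j₀ (Finset.image j Finset.univ))
  refine ⟨S, (hS (Finset.mem_insert_self _ _)).some, fun i =>
    (D.map (hS (Finset.mem_insert_of_mem (Finset.mem_image_of_mem j (Finset.mem_univ i)))).some).hom (y i),
    fun i => ?_⟩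
  rw [← hy i]
  exact congrArg (fun f : D.obj (j i) ⟶ c.pt => f.hom (y i)) (c.w _)

include hc in
theorem alg_eq_fin {ι : Type} [Fintype ι] {j : J} (y y' : ι → D.obj j)
    (h : ∀ i, (c.ι.app j).hom (y i) = (c.ι.app j).hom (y' i)) :
    ∃ (k : J) (f : j ⟶ k), ∀ i, (D.map f).hom (y i) = (D.map f).hom (y' i) := by
  classical
  suffices ∀ s : Finset ι, ∃ (k : J) (f : j ⟶ k),
      ∀ i ∈ s, (D.map f).hom (y i) = (D.map f).hom (y' i) by
    obtain ⟨k, f, hf⟩ := this Finset.univ
    exact ⟨k, f, fun i => hf i (Finset.mem_univ i)⟩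
  intro s
  induction s using Finset.induction_on with
  | empty => exact ⟨j, 𝟙 j, fun i hi => absurd hi (Finset.notMem_empty i)⟩
  | insert a s _ ih =>
    obtain ⟨k, f, hf⟩ := ih
    have hw : ∀ z : D.obj j, (c.ι.app k).hom ((D.map f).hom z) = (c.ι.app j).hom z := fun z =>
      congrArg (fun g : D.obj j ⟶ c.pt => g.hom z) (c.w f)
    obtain ⟨l, g, hg⟩ := alg_eq hc _ _ ((hw (y a)).trans ((h a).trans (hw (y' a)).symm))
    refine ⟨l, f ≫ g, fun i hi => ?_⟩
    rcases Finset.mem_insert.1 hi with rfl | hi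
    · rw [D.map_comp]; exact hg
    · rw [D.map_comp]; exact congrArg (D.map g).hom (hf i hi)

include hc in
theorem uM_surj (M : ModuleCat.{u + 1} A) (x : Val (uM M) c.pt) :
    ∃ (j : J) (y : Val (uM M) (D.obj j)), res (uM M) (c.ι.app j) y = x := by
  have j₀ : J := IsFiltered.nonempty.some
  obtain ⟨k, b, m, hbm⟩ := TensorProduct.exists_sum_tmul_eq (uval M c.pt x)
  obtain ⟨j, _, y, hy⟩ := alg_surj_fin hc j₀ b
  refine ⟨j, ∑ i, pure M (y i) (m i), (uval M c.pt).injective ?_⟩
  rw [hbm, map_sum, map_sum]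
  exact Finset.sum_congr rfl fun i _ => by rw [res_pure, uval_pure, hy]

include hc in
theorem uM_zero (M : ModuleCat.{u + 1} A) {j : J} (y : Val (uM M) (D.obj j))
    (h : res (uM M) (c.ι.app j) y = 0) : ∃ (k : J) (f : j ⟶ k), res (uM M) (D.map f) y = 0 := by
  classical
  obtain ⟨n, b, m, hbm⟩ := TensorProduct.exists_sum_tmul_eq (uval M (D.obj j) y)
  have hy : y = ∑ i, pure M (b i) (m i) := (uval M _).injective (by rw [hbm, map_sum]; rfl)
  have h0 : ∑ i, (c.ι.app j).hom (b i) ⊗ₜ[A] m i = 0 := by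
    have h' := congrArg (uval M c.pt) h
    rw [hy, map_sum, map_sum, map_zero] at h'
    exact h'
  obtain ⟨n', e, l, a, z, h1, h2⟩ := exists_vanishesTrivially _ m h0
  obtain ⟨k, f, e', he'⟩ := alg_surj_fin hc j e
  have hw : ∀ z : D.obj j, (c.ι.app k).hom ((D.map f).hom z) = (c.ι.app j).hom z := fun z =>
    congrArg (fun g : D.obj j ⟶ c.pt => g.hom z) (c.w f)
  let v : Fin n ⊕ Fin n' → D.obj k := Sum.elim (fun i => (D.map f).hom (b i)) e'
  obtain ⟨k', g, hg⟩ := alg_eq_fin hc (fun q : Fin l => ∑ i, a i q • v i) (fun _ => 0) (fun q => by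
    rw [map_zero, map_sum]
    refine Eq.trans (Finset.sum_congr rfl fun i _ => ?_) (h2 q)
    rw [map_smul]
    rcases i with i | i
    · exact congrArg (a (Sum.inl i) q • ·) (hw (b i))
    · exact congrArg (a (Sum.inr i) q • ·) (he' i))
  refine ⟨k', f ≫ g, (uval M _).injective ?_⟩
  rw [map_zero, D.map_comp, res_comp, hy, map_sum, map_sum, map_sum]
  simp only [res_pure, uval_pure]
  have hv : TensorProduct.VanishesTrivially A (fun i => (D.map g).hom (v i))
      (Sum.elim m (0 : Fin n' → M)) :=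
    ⟨l, a, z, h1, fun q => by
      have := hg q
      rw [map_zero, map_sum] at this
      simp only [map_smul] at this
      exact this⟩
  have := TensorProduct.sum_tmul_eq_zero_of_vanishesTrivially A hv
  rw [Fintype.sum_sum_type] at this
  simpa [v] using this

include hc in
theorem adequate_surj {F : MVF A} (p : Pres F) (x : Val F c.pt) :
    ∃ (j : J) (y : Val F (D.obj j)), res F (c.ι.app j) y = x := by
  obtain ⟨j, z, hz⟩ := uM_surj hc p.M (ap p.ι c.pt x)
  obtain ⟨k, f, hf⟩ := uM_zero hc p.N (ap (uMap p.φ) (D.obj j) z) (by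
    rw [← ap_res]; exact (congrArg (ap (uMap p.φ) c.pt) hz).trans (p.comp c.pt x))
  obtain ⟨y, hy⟩ := p.exact (D.obj k) (res (uM p.M) (D.map f) z) (by rw [ap_res, hf])
  refine ⟨k, y, p.inj c.pt ?_⟩
  rw [← hz, ← c.w f, res_comp, ← hy]
  exact ap_res p.ι (c.ι.app k) y

include hc in
theorem adequate_zero {F : MVF A} (p : Pres F) {j : J} (y : Val F (D.obj j))
    (h : res F (c.ι.app j) y = 0) : ∃ (k : J) (f : j ⟶ k), res F (D.map f) y = 0 := by
  obtain ⟨k, f, hf⟩ := uM_zero hc p.M (ap p.ι (D.obj j) y) (by rw [← ap_res, h, map_zero])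
  exact ⟨k, f, p.inj _ (by rw [ap_res, hf, map_zero])⟩

include hc in
theorem isColimit_toAb {F : MVF A} (p : Pres F) : Nonempty (IsColimit (F.toAb.mapCocone c)) := by
  have : PreservesColimitsOfShape J (forget Ab.{u + 1}) :=
    haveI := preservesFilteredColimitsOfSize_shrink.{u, u + 1, u, u + 1} (forget Ab.{u + 1})
    PreservesFilteredColimitsOfSize.preserves_filtered_colimits J
  have : ReflectsColimitsOfShape J (forget Ab.{u + 1}) :=
    reflectsColimitsOfShape_of_reflectsIsomorphisms
  refine ⟨isColimitOfReflects (forget Ab.{u + 1})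
    (Types.FilteredColimit.isColimitOf' _ _ (fun x => ?_) (fun j x y h => ?_))⟩
  · obtain ⟨j, y, hy⟩ := adequate_surj hc p (x : Val F c.pt)
    exact ⟨j, y, hy.symm⟩
  · let x' : Val F (D.obj j) := x
    let y' : Val F (D.obj j) := y
    have h' : res F (c.ι.app j) (x' - y') = 0 :=
      (map_sub (res F (c.ι.app j)) x' y').trans (sub_eq_zero.2 h)
    obtain ⟨k, f, hf⟩ := adequate_zero hc p (x' - y') h'
    exact ⟨k, f, sub_eq_zero.1 ((map_sub (res F (D.map f)) x' y').symm.trans hf)⟩

end Groth.Agent.Adeq88
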