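import Groth.Agent.Adeq88.Constr
import Mathlib.RingTheory.RingHom.Flat
import Mathlib.RingTheory.Flat.Basic
import Mathlib.LinearAlgebra.TensorProduct.Tower

/-!
Adequate functors commute with flat base change.
-/

set_option autoImplicit false

universe u

open CategoryTheory Limits Opposite TensorProduct
open scoped ChangeOfRings

noncomputable section

namespace Groth.Agent.Adeq88

open Adeq

variable {A : Type u} [CommRing A] {B C : Alg A} (f : B ⟶ C)

/-- The base change map on values, for a given algebra structure equal to `f`. -/
def bcT [Algebra B C] (hf : ∀ b, algebraMap B C b = f.hom b) (F : MVF A) :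
    (C : Type u) ⊗[B] Val F B →+ Val F C :=
  TensorProduct.liftAddHom
    (AddMonoidHom.mk' (fun c => AddMonoidHom.mk' (fun x => c • res F f x)
      fun x y => by rw [map_add, smul_add]) fun c d => by ext x; exact add_smul c d _)
    fun b c x => by
      show (b • c) • res F f x = c • res F f (b • x)
      rw [res_smul, smul_smul, Algebra.smul_def, hf, mul_comm]

variable [Algebra B C] (hf : ∀ b, algebraMap B C b = f.hom b)

theorem bcT_tmul (F : MVF A) (c : C) (x : Val F B) :
    bcT f hf F (c ⊗ₜ[B] x) = c • res F f x := rfl

theorem bcT_natural {F G : MVF A} (φ : F ⟶ G) (z : (C : Type u) ⊗[B] Val F B) :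
    bcT f hf G ((ap φ B).lTensor C z) = ap φ C (bcT f hf F z) := by
  induction z using TensorProduct.induction_on with
  | zero => simp
  | tmul c x => rw [LinearMap.lTensor_tmul, bcT_tmul, bcT_tmul, map_smul, ap_res]
  | add x y hx hy => simp only [map_add, hx, hy]

theorem bcT_uM_bijective (M : ModuleCat.{u + 1} A) : Function.Bijective (bcT f hf (uM M)) := by
  have : IsScalarTower A B C := IsScalarTower.of_algebraMap_eq fun a => by
    rw [hf]; exact (f.hom.commutes a).symm
  let e := (LinearEquiv.lTensor (C : Type u) (uval M B)).trans
    ((TensorProduct.AlgebraTensorModule.cancelBaseChange A B B C M).trans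
      (LinearEquiv.refl _ _))
  have he : ∀ z, uval M C (bcT f hf (uM M) z) = e z := by
    intro z
    induction z using TensorProduct.induction_on with
    | zero => simp
    | tmul c x =>
      induction x using pure_induction with
      | h0 => simp
      | hp b m =>
        rw [bcT_tmul, res_pure, smul_pure, uval_pure]
        show _ = (b • c) ⊗ₜ[A] m
        rw [Algebra.smul_def, hf, mul_comm]
      | ha x y hx hy => simp only [TensorProduct.tmul_add, map_add, hx, hy]
    | add x y hx hy => simp only [map_add, hx, hy]
  have : (bcT f hf (uM M) : _ → _) = (uval M C).symm ∘ e := funext fun z =>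
    (uval M C).injective ((he z).trans ((uval M C).apply_symm_apply _).symm)
  rw [this]
  exact (uval M C).symm.bijective.comp e.bijective

theorem bcT_bijective [Module.Flat B C] {F : MVF A} (p : Pres F) :
    Function.Bijective (bcT f hf F) := by
  have hinj : Function.Injective ((ap p.ι B).lTensor (C : Type u)) :=
    Module.Flat.lTensor_preserves_injective_linearMap _ (p.inj B)
  have hex : Function.Exact ((ap p.ι B).lTensor (C : Type u))
      ((ap (uMap p.φ) B).lTensor (C : Type u)) :=
    Module.Flat.lTensor_exact (C : Type u) fun y => ⟨p.exact B y, by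
      rintro ⟨x, rfl⟩; exact p.comp B x⟩
  refine ⟨(injective_iff_map_eq_zero (bcT f hf F)).2 fun z hz => ?_, fun y => ?_⟩
  · apply hinj
    rw [map_zero]
    apply (bcT_uM_bijective f hf p.M).1
    rw [bcT_natural, hz, map_zero, map_zero]
  · obtain ⟨w, hw⟩ := (bcT_uM_bijective f hf p.M).2 (ap p.ι C y)
    obtain ⟨z, rfl⟩ := (hex w).1 ((bcT_uM_bijective f hf p.N).1 (by
      rw [bcT_natural, hw, p.comp, map_zero]))
    exact ⟨z, p.inj C (by rw [← bcT_natural, hw])⟩

omit [Algebra B C] in
theorem bc_tmul (F : MVF A) (c : C) (x : Val F B) :
    F.bc f (c ⊗ₜ[B, f.hom.toRingHom] x) = c • res F f x :=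
  rfl

omit [Algebra B C] in
theorem isIso_bc {F : MVF A} (p : Pres F) (hflat : f.hom.toRingHom.Flat) : IsIso (F.bc f) := by
  let : Algebra B C := f.hom.toRingHom.toAlgebra
  have : Module.Flat B C := hflat
  have hf : ∀ b, algebraMap B C b = f.hom b := fun _ => rfl
  have e : ∀ z, (F.bc f) z = bcT f hf F z := by
    intro z
    induction z using TensorProduct.induction_on with
    | zero => exact (map_zero (F.bc f).hom).trans (map_zero (bcT f hf F)).symm
    | tmul c x => exact bc_tmul f F c x
    | add x y hx hy =>
      exact (map_add (F.bc f).hom x y).trans ((congrArg₂ (· + ·) hx hy).trans (map_add _ x y).symm)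
  rw [ConcreteCategory.isIso_iff_bijective]
  have : (fun z => (F.bc f) z) = fun z => bcT f hf F z := funext e
  show Function.Bijective fun z => (F.bc f) z
  rw [this]
  exact bcT_bijective f hf p

end Groth.Agent.Adeq88
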