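import Groth.Agent.Adeq88.Ext
import Groth.Agent.Desc59.OverSheafCrit

/-!
Adequate modules satisfy the sheaf condition for the fpqc topology.
-/

set_option autoImplicit false

universe u

open CategoryTheory Limits Opposite AlgebraicGeometry TensorProduct

noncomputable section

namespace Groth.Agent.Adeq88

open Adeq

variable {K : Precoverage Scheme.{u}} [BigSite.OSh K] {S : Scheme.{u}}
  (Q : PresheafOfModules.{u + 1} (BigSite.ORing K S).obj)

theorem isSheafFor_ff {R E : CommRingCat.{u}} (φ : R ⟶ E) (hflat : Flat (Spec.map φ))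
    (hsurj : Surjective (Spec.map φ)) (a : Spec R ⟶ S)
    (hF : adequate R ((toMVFPre K a).obj Q)) :
    Presieve.IsSheafFor (Q.presheaf ⋙ CategoryTheory.forget Ab.{u + 1})
      (.singleton (Over.homMk (Spec.map φ) : Over.mk (Spec.map φ ≫ a) ⟶ Over.mk a)) := by
  let : Algebra R E := φ.hom.toAlgebra
  obtain ⟨p⟩ := adequate_iff.1 hF
  have hfl : Module.Flat R E :=
    RingHom.flat_algebraMap_iff.1 ((HasRingHomProperty.Spec_iff (P := @Flat)).1 hflat)
  have : Module.FaithfullyFlat R E :=
    Module.FaithfullyFlat.of_comap_surjective fun x => hsurj.1 x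
  let f : algOf (R : Type u) (R : Type u) ⟶ algOf (R : Type u) (E : Type u) :=
    CommAlgCat.ofHom (Algebra.ofId (R : Type u) (E : Type u))
  let : Algebra (algOf (R : Type u) (R : Type u)) (algOf (R : Type u) (E : Type u)) :=
    (inferInstance : Algebra (R : Type u) (E : Type u))
  have : Module.FaithfullyFlat (algOf (R : Type u) (R : Type u)) (algOf (R : Type u) (E : Type u)) :=
    (inferInstance : Module.FaithfullyFlat (R : Type u) (E : Type u))
  have hf : ∀ b, algebraMap (algOf (R : Type u) (R : Type u)) (algOf (R : Type u) (E : Type u)) b = f.hom b :=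
    fun _ => rfl
  let g : (specOver a).obj (op (algOf (R : Type u) (E : Type u))) ⟶ Over.mk a := Over.homMk (Spec.map φ) rfl
  have hg : g = (specOver a).map f.op ≫ (selfIso a).hom :=
    Over.OverMorphism.ext (Category.comp_id _).symm
  refine Presieve.isSheafFor_singleton.2 fun x hx => ?_
  have hlr : (specOver a).map (sqL f hf).op ≫ g = (specOver a).map (sqR f hf).op ≫ g := by
    rw [hg, ← Functor.map_comp_assoc, ← Functor.map_comp_assoc, ← op_comp, ← op_comp, sq_comm f hf]
  obtain ⟨v, hv⟩ := ff_exact f hf p ((mval Q a _).symm x) ((mval Q a _).injective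
    (hx ((specOver a).map (sqL f hf).op) ((specOver a).map (sqR f hf).op) hlr))
  obtain ⟨y, hy⟩ := (sres_bijective_of_iso Q (selfIso a)).2 (mval Q a _ v)
  have hres : ∀ z, sres Q g z = mval Q a _ (res _ f ((mval Q a _).symm (sres Q (selfIso a).hom z))) :=
    fun z => by rw [hg, sres_comp]; rfl
  have hgy : sres Q g y = x := by
    rw [hres, hy, AddEquiv.symm_apply_apply, hv, AddEquiv.apply_symm_apply]
  refine ⟨y, hgy, fun y' hy' => (sres_bijective_of_iso Q (selfIso a)).1
    ((mval Q a _).symm.injective (ff_injective f hf p ((mval Q a _).injective ?_)))⟩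
  exact (hres y').symm.trans ((show sres Q g y' = x from hy').trans (hgy.symm.trans (hres y)))

end Groth.Agent.Adeq88
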