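import Groth.Agent.Unr55.Et.CechInjU
import Mathlib.Algebra.Category.ModuleCat.Presheaf.Free
import Mathlib.Algebra.Category.ModuleCat.Presheaf.Sheafification
import Mathlib.Algebra.Category.ModuleCat.Presheaf.EpiMono
import Mathlib.Algebra.Category.ModuleCat.Presheaf.Abelian

/-!
Injective presheaves of modules: Čech acyclicity and surjectivity of restrictions along monomorphisms.
-/

set_option autoImplicit false
set_option maxHeartbeats 1000000
set_option backward.isDefEq.respectTransparency false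
set_option backward.isDefEq.respectTransparency.types false

universe u v w

open CategoryTheory CategoryTheory.Limits Opposite

namespace Groth.Agent.Adeq88

open Groth.Agent.Unr55

noncomputable section

variable {C : Type v} [Category.{w} C] {R : Cᵒᵖ ⥤ RingCat.{max u w}}

/-- A presheaf of types of the arrows to an object. -/
abbrev reprT (U : C) : Cᵒᵖ ⥤ Type (max u w) := yoneda.obj U ⋙ uliftFunctor.{u, w}

theorem restriction_surjective_of_injective (I : PresheafOfModules.{max u w} R) [Injective I] {U U' : C}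
    (a : U' ⟶ U) [Mono a] : Function.Surjective (I.map a.op) := by
  intro x
  let φ : reprT.{u} U' ⟶ I.presheaf ⋙ CategoryTheory.forget Ab :=
    { app := fun V => ↾fun g => I.map g.down.op x
      naturality := fun V W h => by
        ext g
        exact I.map_comp_apply g.down.op h x }
  let j : (PresheafOfModules.free R).obj (reprT.{u} U') ⟶ (PresheafOfModules.free R).obj (reprT.{u} U) :=
    (PresheafOfModules.free R).map (Functor.whiskerRight (yoneda.map a) uliftFunctor.{u, w})
  have : Mono j := by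
    refine PresheafOfModules.mono_of_injective (fun {V} => ?_)
    exact Finsupp.mapDomain_injective fun p q h => ULift.ext _ _
      ((cancel_mono a).1 (congrArg ULift.down h))
  let e := PresheafOfModules.freeObjDesc φ
  let ψ := Injective.factorThru e j
  let z : ((PresheafOfModules.free R).obj (reprT.{u} U)).obj (op U) :=
    ModuleCat.freeMk (⟨𝟙 U⟩ : (reprT.{u} U).obj (op U))
  refine ⟨ψ.app (op U) z, ?_⟩
  have h1 : ((PresheafOfModules.free R).obj (reprT.{u} U)).map a.op z =
      j.app (op U') (ModuleCat.freeMk (⟨𝟙 U'⟩ : (reprT.{u} U').obj (op U'))) := by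
    refine (ModuleCat.freeDesc_apply _ _).trans ?_
    refine Eq.trans ?_ (ModuleCat.free_map_apply _ _).symm
    refine congrArg ModuleCat.freeMk (ULift.ext _ _ ?_)
    exact (Category.comp_id a).trans (Category.id_comp a).symm
  have h2 : ψ.app (op U') (j.app (op U') (ModuleCat.freeMk (⟨𝟙 U'⟩ : (reprT.{u} U').obj (op U')))) =
      e.app (op U') (ModuleCat.freeMk (⟨𝟙 U'⟩ : (reprT.{u} U').obj (op U'))) :=
    congrArg (fun k : (PresheafOfModules.free R).obj (reprT.{u} U') ⟶ I => k.app (op U') _)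
      (Injective.comp_factorThru e j)
  refine (PresheafOfModules.naturality_apply ψ a.op z).symm.trans ?_
  rw [h1, h2]
  refine (ModuleCat.freeDesc_apply _ _).trans ?_
  show I.map (𝟙 U').op x = x
  simp

section Cech

variable {U : C} {ι : Type (max u w)} (Y : ι → Over U)

/-- The free presheaves of modules on the tuples. -/
abbrev FM (R : Cᵒᵖ ⥤ RingCat.{max u w}) (n : ℕ) : PresheafOfModules.{max u w} R :=
  (PresheafOfModules.free R).obj (CechInjU.NF Y n)

/-- The differential. -/
def dM (n : ℕ) : FM Y R (n + 1) ⟶ FM Y R n :=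
  ∑ j : Fin (n + 2), (-1 : ℤ) ^ (j : ℕ) • (PresheafOfModules.free R).map (CechInjU.omitF Y n j)

theorem app_sum_apply {M N : PresheafOfModules.{max u w} R} {κ : Type} (s : Finset κ) (f : κ → (M ⟶ N))
    (c : κ → ℤ) (V : Cᵒᵖ) (x : M.obj V) :
    (∑ k ∈ s, c k • f k).app V x = ∑ k ∈ s, c k • (f k).app V x := by
  let ev : (M ⟶ N) →+ N.obj V := AddMonoidHom.mk' (fun α => α.app V x) (fun _ _ => rfl)
  exact (map_sum ev _ _).trans (Finset.sum_congr rfl fun k _ => map_zsmul ev _ _)

theorem dM_mk (n : ℕ) (V : Cᵒᵖ) (x : CechInjU.N Y (n + 1) V.unop) :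
    (dM Y n : FM Y R (n + 1) ⟶ _).app V (ModuleCat.freeMk (x : (CechInjU.NF Y (n + 1)).obj V)) =
      ∑ j : Fin (n + 2), (-1 : ℤ) ^ (j : ℕ) •
        (ModuleCat.freeMk ((CechInjU.omit' Y j x : CechInjU.N Y n V.unop) : (CechInjU.NF Y n).obj V) :
          (FM Y R n).obj V) := by
  refine (app_sum_apply _ _ _ V _).trans (Finset.sum_congr rfl fun j _ => congrArg _ ?_)
  exact ModuleCat.free_map_apply _ _

/-- The homotopy over an object. -/
def hM (n : ℕ) (V : Cᵒᵖ) : (FM Y R n).obj V ⟶ (FM Y R (n + 1)).obj V :=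
  (ModuleCat.free (R.obj V)).map (↾fun x : CechInjU.N Y n V.unop => CechInjU.cone Y x)

theorem hM_mk (n : ℕ) (V : Cᵒᵖ) (x : CechInjU.N Y n V.unop) :
    (hM Y n V : (FM Y R n).obj V ⟶ _) (ModuleCat.freeMk (x : (CechInjU.NF Y n).obj V)) =
      (ModuleCat.freeMk (CechInjU.cone Y x : (CechInjU.NF Y (n + 1)).obj V) : (FM Y R (n + 1)).obj V) :=
  ModuleCat.free_map_apply _ _

theorem homotopyM (n : ℕ) (V : Cᵒᵖ) (z : (FM Y R (n + 1)).obj V) :
    (dM Y (n + 1)).app V (hM Y (n + 1) V z) + hM Y n V ((dM Y n).app V z) = z := by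
  have h : (hM Y (n + 1) V : (FM Y R (n + 1)).obj V ⟶ _) ≫ (dM Y (n + 1)).app V + (dM Y n).app V ≫ hM Y n V =
      𝟙 ((FM Y R (n + 1)).obj V) := by
    refine ModuleCat.free_hom_ext fun x => ?_
    show (dM Y (n + 1)).app V (hM Y (n + 1) V (ModuleCat.freeMk x)) +
      hM Y n V ((dM Y n).app V (ModuleCat.freeMk x)) = ModuleCat.freeMk x
    rw [hM_mk, dM_mk, dM_mk, map_sum, Fin.sum_univ_succ]
    simp only [map_zsmul, hM_mk, Fin.val_zero, pow_zero, one_smul, CechInjU.omit_zero_cone, Fin.val_succ,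
      CechInjU.omit_succ_cone, pow_succ, mul_neg, mul_one, neg_smul, Finset.sum_neg_distrib]
    abel
  exact congrArg (fun k : (FM Y R (n + 1)).obj V ⟶ _ => k z) h

theorem exists_factorM (n : ℕ) {I : PresheafOfModules.{max u w} R} [Injective I] (φ : FM Y R (n + 1) ⟶ I)
    (h : dM Y (n + 1) ≫ φ = 0) : ∃ y : FM Y R n ⟶ I, dM Y n ≫ y = φ := by
  have h0 : kernel.ι (dM Y n : FM Y R (n + 1) ⟶ _) ≫ φ = 0 := by
    refine PresheafOfModules.hom_ext fun V => ?_
    ext k
    let z := (kernel.ι (dM Y n : FM Y R (n + 1) ⟶ _)).app V k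
    have hz : (dM Y n).app V z = 0 :=
      congrArg (fun α : kernel (dM Y n : FM Y R (n + 1) ⟶ _) ⟶ FM Y R n => α.app V k) (kernel.condition _)
    have hz' := homotopyM Y n V z
    rw [hz, map_zero, add_zero] at hz'
    show φ.app V z = 0
    rw [← hz']
    exact congrArg (fun α : FM Y R (n + 2) ⟶ I => α.app V _) h
  have hE : (ShortComplex.mk (kernel.ι (dM Y n : FM Y R (n + 1) ⟶ _)) (dM Y n) (kernel.condition _)).Exact :=
    ShortComplex.exact_of_f_is_kernel _ (kernelIsKernel _)
  exact ⟨hE.descToInjective φ h0, hE.comp_descToInjective φ h0⟩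

theorem cech_acyclic_of_injective [HasFiniteProducts (Over U)] (I : PresheafOfModules.{max u w} R) [Injective I]
    (p : ℕ) :
    IsZero (((cechComplexFunctor Y).obj ((Over.forget U).op ⋙ I.presheaf)).homology (p + 1)) := by
  rw [Fib44.Cech.isZero_homology_succ_iff]
  intro f hf
  let φ : FM Y R (p + 1) ⟶ I := PresheafOfModules.freeObjDesc (CechInjU.toPsh Y (p + 1) f)
  have hφ : ∀ (V : Cᵒᵖ) (x : CechInjU.N Y (p + 1) V.unop),
      φ.app V (ModuleCat.freeMk (x : (CechInjU.NF Y (p + 1)).obj V)) =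
        I.presheaf.map (CechInjU.liftN Y x).left.op (f fun k => (x.1 k).1) := fun V x =>
    ModuleCat.freeDesc_apply _ _
  have hd : dM Y (p + 1) ≫ φ = 0 := by
    refine PresheafOfModules.hom_ext fun V => ModuleCat.free_hom_ext fun x => ?_
    show φ.app V ((dM Y (p + 1)).app V (ModuleCat.freeMk x)) = 0
    rw [dM_mk, map_sum]
    have h := congrArg (fun z => I.presheaf.map (CechInjU.liftN Y (V := V.unop) x).left.op z) (hf fun k => (x.1 k).1)
    simp only [map_sum, map_zsmul, map_zero] at h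
    refine Eq.trans (Finset.sum_congr rfl fun j _ => ?_) h
    rw [map_zsmul]
    refine congrArg _ ((hφ V _).trans ?_)
    rw [CechInjU.liftN_omit Y (V := V.unop) x j]
    exact ConcreteCategory.congr_hom (I.presheaf.map_comp (Fib44.Cech.face Y (fun k => (x.1 k).1) j.succAbove).left.op
      (CechInjU.liftN Y (V := V.unop) x).left.op) _
  obtain ⟨y, hy⟩ := exists_factorM Y p φ hd
  refine ⟨fun a => y.app (op (∏ᶜ (Y ∘ a)).left)
    (ModuleCat.freeMk (CechInjU.canon Y a : (CechInjU.NF Y p).obj (op (∏ᶜ (Y ∘ a)).left))), fun a => ?_⟩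
  have h := (congrArg (fun α : FM Y R (p + 1) ⟶ I => α.app (op (∏ᶜ (Y ∘ a)).left)
      (ModuleCat.freeMk (CechInjU.canon Y a : (CechInjU.NF Y (p + 1)).obj (op (∏ᶜ (Y ∘ a)).left)))) hy).trans (hφ (op (∏ᶜ (Y ∘ a)).left) (CechInjU.canon Y a))
  have h' : y.app (op (∏ᶜ (Y ∘ a)).left) ((dM Y p).app (op (∏ᶜ (Y ∘ a)).left)
      (ModuleCat.freeMk (CechInjU.canon Y a : (CechInjU.NF Y (p + 1)).obj (op (∏ᶜ (Y ∘ a)).left)))) = _ := h
  rw [dM_mk, map_sum] at h'
  erw [CechInjU.liftN_canon, CategoryTheory.Functor.map_id] at h'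
  refine Eq.trans (Finset.sum_congr rfl fun j _ => ?_) h'
  rw [map_zsmul]
  refine congrArg _ ?_
  refine (PresheafOfModules.naturality_apply y (Fib44.Cech.face Y a j.succAbove).left.op
    (ModuleCat.freeMk (CechInjU.canon Y (a ∘ j.succAbove) : (CechInjU.NF Y p).obj (op (∏ᶜ (Y ∘ (a ∘ j.succAbove))).left)))).symm.trans ?_
  refine congrArg (y.app _) ((ModuleCat.freeDesc_apply _ _).trans ?_)
  exact congrArg ModuleCat.freeMk (CechInjU.omit_canon Y a j).symm

end Cech

/-- The underlying presheaf of modules of an injective sheaf of modules is injective. -/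
theorem injective_val {J : GrothendieckTopology C} {O : Sheaf J RingCat.{max u w}}
    [HasWeakSheafify J AddCommGrpCat.{max u w}] [J.WEqualsLocallyBijective AddCommGrpCat.{max u w}]
    [HasSheafify J AddCommGrpCat.{max u w}]
    (I : SheafOfModules.{max u w} O) [Injective I] : Injective I.val := by
  have : (PresheafOfModules.sheafification (J := J) (R := O) (𝟙 O.obj)).PreservesMonomorphisms :=
    preservesMonomorphisms_of_preservesLimitsOfShape _
  exact Injective.injective_of_adjoint (PresheafOfModules.sheafificationAdjunction (𝟙 O.obj)) I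

end

end Groth.Agent.Adeq88
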