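import Groth.Agent.Adeq88.Constr
import Mathlib.CategoryTheory.Abelian.GrothendieckCategory.EnoughInjectives
import Mathlib.CategoryTheory.Abelian.GrothendieckAxioms.FunctorCategory
import Mathlib.Algebra.Category.Grp.AB
import Mathlib.CategoryTheory.Functor.ReflectsIso.Balanced
import Mathlib.CategoryTheory.Generator.Basic

/-!
Module-valued functors form a category with enough injectives.
-/

set_option autoImplicit false

universe u

open CategoryTheory Limits Opposite

noncomputable section

namespace Groth.Agent.Adeq88

open Adeq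

variable {A : Type u} [CommRing A]

/-- The values of the free functor on `Hom(B, -)`. -/
abbrev FreeVal (B C : Alg A) : Type (u + 1) := ULift.{u + 1} ((B ⟶ C) →₀ (C : Type u))

/-- The transition maps of the free functor on `Hom(B, -)`. -/
def freeMap (B : Alg A) {C D : Alg A} (g : C ⟶ D) : FreeVal B C →+ FreeVal B D where
  toFun x := ULift.up (Finsupp.mapDomain (fun f => f ≫ g)
    (Finsupp.mapRange g.hom (map_zero g.hom) x.down))
  map_zero' := ULift.ext _ _ (by simp)
  map_add' x y := ULift.ext _ _ (by
    show Finsupp.mapDomain _ (Finsupp.mapRange g.hom _ (x.down + y.down)) = _ + _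
    rw [Finsupp.mapRange_add (fun a b => map_add g.hom a b), Finsupp.mapDomain_add])

theorem freeMap_single (B : Alg A) {C D : Alg A} (g : C ⟶ D) (f : B ⟶ C) (c : C) :
    freeMap B g (ULift.up (Finsupp.single f c)) = ULift.up (Finsupp.single (f ≫ g) (g.hom c)) := by
  apply ULift.ext
  show Finsupp.mapDomain _ (Finsupp.mapRange g.hom _ (Finsupp.single f c)) = _
  rw [Finsupp.mapRange_single, Finsupp.mapDomain_single]

theorem freeVal_induction {B C : Alg A} {P : FreeVal B C → Prop} (x : FreeVal B C) (h0 : P 0)
    (hs : ∀ f c, P (ULift.up (Finsupp.single f c))) (ha : ∀ x y, P x → P y → P (x + y)) : P x := by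
  obtain ⟨x⟩ := x
  induction x using Finsupp.induction_linear with
  | zero => exact h0
  | add a b iha ihb => exact ha _ _ iha ihb
  | single f c => exact hs f c

theorem freeMap_id (B C : Alg A) (x : FreeVal B C) : freeMap B (𝟙 C) x = x := by
  induction x using freeVal_induction with
  | h0 => simp
  | hs f c =>
    rw [freeMap_single, Category.comp_id]
    rfl
  | ha a b iha ihb => rw [map_add, iha, ihb]

theorem freeMap_comp (B : Alg A) {C D E : Alg A} (g : C ⟶ D) (h : D ⟶ E) (x : FreeVal B C) :
    freeMap B (g ≫ h) x = freeMap B h (freeMap B g x) := by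
  induction x using freeVal_induction with
  | h0 => simp
  | hs f c =>
    rw [freeMap_single, freeMap_single, freeMap_single, Category.assoc]
    rfl
  | ha a b iha ihb => simp only [map_add, iha, ihb]

/-- The underlying presheaf of the free functor. -/
def freeAb (B : Alg A) : (Alg A)ᵒᵖᵒᵖ ⥤ Ab.{u + 1} where
  obj X := AddCommGrpCat.of (FreeVal B X.unop.unop)
  map g := AddCommGrpCat.ofHom (freeMap B g.unop.unop)
  map_id X := AddCommGrpCat.hom_ext (AddMonoidHom.ext fun x => freeMap_id B X.unop.unop x)
  map_comp g h := AddCommGrpCat.hom_ext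
    (AddMonoidHom.ext fun x => freeMap_comp B g.unop.unop h.unop.unop x)

instance (B : Alg A) (X : (Alg A)ᵒᵖᵒᵖ) : Module ((ringOf A).obj X) ((freeAb B).obj X) :=
  inferInstanceAs (Module X.unop.unop (FreeVal B X.unop.unop))

theorem freeMap_smul (B : Alg A) {C D : Alg A} (g : C ⟶ D) (r : C) (x : FreeVal B C) :
    freeMap B g (r • x) = g.hom r • freeMap B g x := by
  induction x using freeVal_induction with
  | h0 => simp
  | hs f c =>
    have h : r • (ULift.up (Finsupp.single f c) : FreeVal B C) = ULift.up (Finsupp.single f (r * c)) :=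
      ULift.ext _ _ (Finsupp.smul_single' r f c)
    rw [h, freeMap_single, freeMap_single, map_mul]
    exact (ULift.ext _ _ (Finsupp.smul_single' (g.hom r) _ _)).symm
  | ha a b iha ihb => simp only [smul_add, map_add, iha, ihb]

/-- The free functor on `Hom(B, -)`. -/
def freeFun (B : Alg A) : MVF A :=
  PresheafOfModules.ofPresheaf (freeAb B) fun _ _ g r m => freeMap_smul B g.unop.unop r m

/-- The values of the free functor. -/
def fval (B C : Alg A) : Val (freeFun B) C ≃ₗ[C] FreeVal B C where
  toFun x := x
  invFun x := x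
  map_add' _ _ := rfl
  map_smul' _ _ := rfl
  left_inv _ := rfl
  right_inv _ := rfl

theorem exists_hom_freeFun (B : Alg A) (M : MVF A) (x : Val M B) :
    ∃ (h : freeFun B ⟶ M) (e : Val (freeFun B) B), ap h B e = x := by
  let L : ∀ C : Alg A, Val (freeFun B) C →ₗ[C] Val M C := fun C =>
    ((Finsupp.lsum ℕ fun f : B ⟶ C => LinearMap.toSpanSingleton C (Val M C) (res M f x)).comp
      (ULift.moduleEquiv.toLinearMap)).comp (fval B C).toLinearMap
  have hL : ∀ C f c, L C ((fval B C).symm (ULift.up (Finsupp.single f c))) = c • res M f x :=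
    fun C f c => by
    show Finsupp.lsum ℕ _ (Finsupp.single f c) = _
    rw [Finsupp.lsum_single]
    rfl
  refine ⟨{ app := fun X => by
              let m := ModuleCat.ofHom (L X.unop.unop)
              exact m
            naturality := ?_ }, (fval B B).symm (ULift.up (Finsupp.single (𝟙 B) 1)), ?_⟩
  · intro X Y g
    ext z
    show L Y.unop.unop (res (freeFun B) g.unop.unop z) = res M g.unop.unop (L X.unop.unop z)
    obtain ⟨w, rfl⟩ := (fval B X.unop.unop).symm.surjective z
    induction w using freeVal_induction with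
    | h0 => simp
    | hs f c =>
      rw [hL, res_smul, ← res_comp, ← hL]
      exact congrArg (L Y.unop.unop) (freeMap_single B g.unop.unop f c)
    | ha a b iha ihb => simp only [map_add, iha, ihb]
  · show L B _ = x
    rw [hL, res_id, one_smul]

theorem isGrothendieckAbelian_MVF : IsGrothendieckAbelian.{u + 1} (MVF A) where
  locallySmall := locallySmall_self.{u + 1, u + 2} (MVF A)
  hasFilteredColimitsOfSize := ⟨fun K _ _ => PresheafOfModules.hasColimitsOfShape.{u + 1, u, u + 1, u + 1, u + 1, u} (ringOf A) K⟩
  ab5OfSize := ⟨fun K _ _ =>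
    have : HasColimitsOfShape K (MVF A) := PresheafOfModules.hasColimitsOfShape.{u + 1, u, u + 1, u + 1, u + 1, u} (ringOf A) K
    have : HasFiniteLimits (MVF A) := PresheafOfModules.hasFiniteLimits.{u + 1, u, u + 1, u} _
    have : PreservesColimitsOfShape K (PresheafOfModules.toPresheaf.{u + 1} (ringOf A)) :=
      PresheafOfModules.toPresheaf_preservesColimitsOfShape.{u + 1, u, u + 1, u + 1, u + 1, u} (ringOf A) K
    have : PreservesFiniteLimits (PresheafOfModules.toPresheaf.{u + 1} (ringOf A)) :=
      PresheafOfModules.toPresheaf_preservesFiniteLimits.{u + 1, u, u + 1, u} _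
    have : ReflectsFiniteLimits (PresheafOfModules.toPresheaf.{u + 1} (ringOf A)) := ⟨fun J _ _ =>
      reflectsLimitsOfShape_of_reflectsIsomorphisms⟩
    HasExactColimitsOfShape.domain_of_functor K (PresheafOfModules.toPresheaf.{u + 1} (ringOf A))⟩
  hasSeparator := by
    classical
    refine ⟨⟨dsum fun B : Alg A => freeFun B, (isSeparator_def _).2 fun X Y f g h => ?_⟩⟩
    refine hom_ext fun B x => ?_
    obtain ⟨φ, e, he⟩ := exists_hom_freeFun B X x
    obtain ⟨ψ, hψ⟩ := exists_ddesc (L := fun B : Alg A => freeFun B) (G := X)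
      fun C => if hC : B = C then hC ▸ φ else 0
    have hψB : dincl _ B ≫ ψ = φ := by rw [hψ B, dif_pos rfl]
    rw [← he, ← hψB, ap_comp, ← ap_comp ψ f, ← ap_comp ψ g, h ψ]

theorem enoughInjectives_MVF : EnoughInjectives (MVF A) :=
  have := isGrothendieckAbelian_MVF (A := A)
  inferInstance

end Groth.Agent.Adeq88
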