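import Groth.Agent.Adeq88.Site

/-!
Adequacy is local: descent along finite affine coverings.
-/

set_option autoImplicit false

universe u

open CategoryTheory Limits Opposite AlgebraicGeometry

noncomputable section

namespace Groth.Agent.Adeq88

open Adeq

section Family

variable {A : Type u} [CommRing A] {σ : Type} [Fintype σ] (A' : σ → Type u)
  [∀ k, CommRing (A' k)] [∀ k, Algebra A (A' k)]

variable (F : MVF A)

/-- The first terms of the descent complex. -/
def G1F (k : ULift.{u + 1} σ) : MVF A :=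
  (push A (A' k.down)).obj ((restr A (A' k.down)).obj F)

/-- The second terms of the descent complex. -/
def G2F (p : ULift.{u + 1} σ × ULift.{u + 1} σ) : MVF A :=
  (push A (A' p.1.down)).obj ((restr A (A' p.1.down)).obj (G1F A' F p.2))

/-- The components of the unit. -/
def etaF (k : ULift.{u + 1} σ) : F ⟶ G1F A' F k := unitHom A (A' k.down) F

/-- The first family of cofaces. -/
def aF (j k : ULift.{u + 1} σ) : G1F A' F j ⟶ G2F A' F (j, k) :=
  (push A (A' j.down)).map ((restr A (A' j.down)).map (etaF A' F k))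

/-- The second family of cofaces. -/
def bF (j k : ULift.{u + 1} σ) : G1F A' F k ⟶ G2F A' F (j, k) :=
  unitHom A (A' j.down) (G1F A' F k)

/-- The values of the first terms. -/
def VF (k : ULift.{u + 1} σ) (B : Alg A) :
    Val (G1F A' F k) B ≃+ Val F (rA A (A' k.down) (bA A (A' k.down) B)) :=
  (pval A (A' k.down) _ B).trans (rval A (A' k.down) F _)

/-- The values of the second terms. -/
def WF (j k : ULift.{u + 1} σ) (B : Alg A) :
    Val (G2F A' F (j, k)) B ≃+
      Val F (rA A (A' k.down) (bA A (A' k.down) (rA A (A' j.down) (bA A (A' j.down) B)))) :=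
  ((pval A (A' j.down) _ B).trans (rval A (A' j.down) (G1F A' F k) _)).trans (VF A' F k _)

theorem VF_eta (k : ULift.{u + 1} σ) (B : Alg A) (x : Val F B) :
    VF A' F k B (ap (etaF A' F k) B x) = res F (Alg.unit A (A' k.down) B) x := rfl

theorem WF_a (j k : ULift.{u + 1} σ) (B : Alg A) (y : Val (G1F A' F j) B) :
    WF A' F j k B (ap (aF A' F j k) B y) =
      res F (Alg.unit A (A' k.down) (rA A (A' j.down) (bA A (A' j.down) B))) (VF A' F j B y) := rfl

theorem WF_b (j k : ULift.{u + 1} σ) (B : Alg A) (y : Val (G1F A' F k) B) :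
    WF A' F j k B (ap (bF A' F j k) B y) =
      res F ((Alg.restr A (A' k.down)).map ((Alg.baseChange A (A' k.down)).map
        (Alg.unit A (A' j.down) B))) (VF A' F k B y) := rfl

theorem ap_finsetSum {X Y : MVF A} {κ : Type (u + 1)} (s : Finset κ) (f : κ → (X ⟶ Y)) (B : Alg A)
    (x : Val X B) : ap (∑ k ∈ s, f k) B x = ∑ k ∈ s, ap (f k) B x := by
  classical
  induction s using Finset.induction_on with
  | empty => simp
  | insert a s ha ih => rw [Finset.sum_insert ha, Finset.sum_insert ha, ap_add, ih]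

theorem exists_dsum_map [DecidableEq σ] {G : MVF A} {I : Type (u + 1)} [Fintype I] [DecidableEq I]
    {L : I → MVF A} (f : ∀ i, G ⟶ L i) :
    ∃ h : G ⟶ dsum L, ∀ B x i, dval L B (ap h B x) i = ap (f i) B x := by
  refine ⟨∑ i, f i ≫ dincl L i, fun B x i => ?_⟩
  rw [ap_finsetSum, map_sum, DFinsupp.finsetSum_apply, Finset.sum_eq_single i]
  · rw [ap_comp, dval_dincl, DirectSum.of_eq_same]
  · intro j _ hj
    rw [ap_comp, dval_dincl, DirectSum.of_eq_of_ne _ _ _ hj.symm]
  · simp

theorem exists_family_map {I K : Type (u + 1)} [Fintype K] [DecidableEq I] [DecidableEq K]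
    {L : I → MVF A} {M : K → MVF A} (s : K → I) (f : ∀ k, L (s k) ⟶ M k) :
    ∃ h : dsum L ⟶ dsum M, ∀ B y k, dval M B (ap h B y) k = ap (f k) B (dval L B y (s k)) := by
  obtain ⟨h, hh⟩ := exists_ddesc (L := L) (G := dsum M) fun i =>
    ∑ k, if hk : s k = i then (eqToHom (congrArg L hk.symm) ≫ f k) ≫ dincl M k else 0
  refine ⟨h, fun B y k => ?_⟩
  induction y using dsum_induction with
  | h0 => simp
  | hi i z =>
    rw [← ap_comp, hh, ap_finsetSum, map_sum, DFinsupp.finsetSum_apply, Finset.sum_eq_single k]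
    · rw [dval_dincl]
      by_cases hk : s k = i
      · subst hk
        rw [dif_pos rfl, ap_comp, dval_dincl, DirectSum.of_eq_same, DirectSum.of_eq_same, eqToHom_refl,
          Category.id_comp]
      · rw [dif_neg hk, ap_zero, map_zero, DirectSum.zero_apply, DirectSum.of_eq_of_ne _ _ _ hk,
          map_zero]
    · intro l _ hl
      by_cases hk : s l = i
      · rw [dif_pos hk, ap_comp, dval_dincl, DirectSum.of_eq_of_ne _ _ _ hl.symm]
      · rw [dif_neg hk, ap_zero, map_zero, DirectSum.zero_apply]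
    · simp
  | ha x y hx hy => simp only [map_add, DirectSum.add_apply, hx, hy]

theorem adequate_of_restr_family {F : MVF A}
    (h₁ : ∀ k, adequate (A' k) ((restr A (A' k)).obj F))
    (hinj : ∀ (B : Alg A) (x y : Val F B),
      (∀ k, res F (Alg.unit A (A' k) B) x = res F (Alg.unit A (A' k) B) y) → x = y)
    (hex : ∀ (B : Alg A) (y : ∀ k, Val F (rA A (A' k) (bA A (A' k) B))),
      (∀ j k, res F (Alg.unit A (A' k) (rA A (A' j) (bA A (A' j) B))) (y j) =
        res F ((Alg.restr A (A' k)).map ((Alg.baseChange A (A' k)).map (Alg.unit A (A' j) B))) (y k)) →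
      ∃ x, ∀ k, res F (Alg.unit A (A' k) B) x = y k) :
    adequate A F := by
  classical
  have hG1 : ∀ k, adequate A (G1F A' F k) := fun k => adequate_push A (A' k.down) (h₁ k.down)
  have hG2 : ∀ p, adequate A (G2F A' F p) := fun p =>
    adequate_push A (A' p.1.down) (adequate_restr A (A' p.1.down) (hG1 p.2))
  obtain ⟨η, hη⟩ := exists_dsum_map (σ := σ) (etaF A' F)
  obtain ⟨ca, hca⟩ := exists_family_map (L := G1F A' F) (M := G2F A' F) Prod.fst
    fun p => aF A' F p.1 p.2
  obtain ⟨cb, hcb⟩ := exists_family_map (L := G1F A' F) (M := G2F A' F) Prod.snd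
    fun p => bF A' F p.1 p.2
  have hw : η ≫ (ca - cb) = 0 := hom_ext fun B x => by
    apply (dval (G2F A' F) B).injective
    refine DFinsupp.ext fun ⟨j, k⟩ => ?_
    rw [ap_comp, ap_sub, map_sub, DirectSum.sub_apply, hca, hcb, hη, hη, ap_zero, map_zero,
      DirectSum.zero_apply, sub_eq_zero]
    apply (WF A' F j k B).injective
    rw [WF_a, WF_b, VF_eta, VF_eta, ← res_comp, ← res_comp, unit_natural]
  let m : F ⟶ kernel (ca - cb) := kernel.lift _ η hw
  have hm : ∀ B x, ap (kernel.ι (ca - cb)) B (ap m B x) = ap η B x := fun B x => by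
    rw [← ap_comp, kernel.lift_ι]
  have hinjm : ∀ B, Function.Injective (ap m B) := fun B x y h => hinj B x y fun k => by
    have h' := congrArg (fun z => dval (G1F A' F) B (ap (kernel.ι (ca - cb)) B z) ⟨k⟩) h
    simp only [hm, hη] at h'
    exact (VF_eta A' F ⟨k⟩ B x).symm.trans
      ((congrArg (VF A' F ⟨k⟩ B) h').trans (VF_eta A' F ⟨k⟩ B y))
  have hsurm : ∀ B, Function.Surjective (ap m B) := fun B z => by
    let y := dval (G1F A' F) B (ap (kernel.ι (ca - cb)) B z)
    obtain ⟨x, hx⟩ := hex B (fun k => VF A' F ⟨k⟩ B (y ⟨k⟩)) fun j k => by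
      have h := congrArg (fun w => dval (G2F A' F) B w (⟨j⟩, ⟨k⟩)) (kernel_ι_comp (ca - cb) B z)
      simp only [ap_sub, map_sub, DirectSum.sub_apply, hca, hcb, map_zero, DirectSum.zero_apply,
        sub_eq_zero] at h
      exact (WF_a A' F ⟨j⟩ ⟨k⟩ B _).symm.trans
        ((congrArg (WF A' F ⟨j⟩ ⟨k⟩ B) h).trans (WF_b A' F ⟨j⟩ ⟨k⟩ B _))
    refine ⟨x, kernel_ι_inj _ B ((dval (G1F A' F) B).injective (DFinsupp.ext fun k => ?_))⟩
    rw [hm, hη]
    exact (VF A' F k B).injective ((VF_eta A' F k B x).trans (hx k.down))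
  have : IsIso m := isIso_of_bijective m fun B => ⟨hinjm B, hsurm B⟩
  exact (adequate A).prop_of_iso (asIso m).symm
    (adequate_kernel (ca - cb) (adequate_dsum _ hG1) (adequate_dsum _ hG2))

end Family

variable {P : MorphismProperty Scheme.{u}} (hP : GoodProp P)
  [BigSite.OSh (Scheme.precoverage P)] {S : Scheme.{u}}

include hP in
theorem adequate_of_refinement (M : BigSite.Mod (Scheme.precoverage P) S) {R : CommRingCat.{u}}
    (a : Spec R ⟶ S) {σ : Type} [Fintype σ] (R' : σ → CommRingCat.{u})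
    (g : ∀ k, Spec (R' k) ⟶ Spec R) (hg : ∀ k, P (g k)) (hgs : ∀ x, ∃ k, x ∈ Set.range (g k))
    (h : ∀ k, adequate (R' k) ((toMVF (Scheme.precoverage P) (g k ≫ a)).obj M)) :
    adequate R ((toMVF (Scheme.precoverage P) a).obj M) := by
  let : ∀ k, Algebra R (R' k) := fun k => (Spec.preimage (g k)).hom.toAlgebra
  have hgm : ∀ k, gmap (R := R) R' k = g k := fun k => by
    show Spec.map (CommRingCat.ofHom (Spec.preimage (g k)).hom) = g k
    rw [CommRingCat.ofHom_hom, Spec.map_preimage]
  have hg' : ∀ k, P (gmap (R := R) R' k) := fun k => (hgm k).symm ▸ hg k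
  have hgs' : ∀ x, ∃ k, x ∈ Set.range (gmap (R := R) R' k) := fun x => by
    obtain ⟨k, hk⟩ := hgs x
    exact ⟨k, (hgm k).symm ▸ hk⟩
  exact adequate_of_restr_family (fun k => (R' k : Type u))
    (fun k => adequate_restr_over M.val a (g k ≫ a) (by rw [← hgm k]) (h k))
    (fun B x y => sheaf_injective R' hP hg' hgs' a M B x y)
    (fun B y => sheaf_exact R' hP hg' hgs' a M B y)

include hP in
theorem adequate_affine_of_family (M : BigSite.Mod (Scheme.precoverage P) S) {R : CommRingCat.{u}}
    (a : Spec R ⟶ S) {ι : Type u} {T : ι → Scheme.{u}} (f : ∀ i, T i ⟶ S) (hf : ∀ i, P (f i))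
    (hs : ∀ x, ∃ i, x ∈ Set.range (f i))
    (h : ∀ i (R' : CommRingCat.{u}) (b : Spec R' ⟶ T i),
      adequate R' ((toMVF (Scheme.precoverage P) (b ≫ f i)).obj M)) :
    adequate R ((toMVF (Scheme.precoverage P) a).obj M) := by
  obtain ⟨r⟩ := hP.exists_refinement f hf hs a
  have := r.fin
  exact adequate_of_refinement hP M a r.R' r.g r.prop r.surj fun k => by
    rw [← r.fac k]
    exact h _ _ (r.lift k)

include hP in
theorem adequate_affine (M : BigSite.Mod (Scheme.precoverage P) S)
    (hM : adequateMod (Scheme.precoverage P) S M) {R : CommRingCat.{u}} (a : Spec R ⟶ S) :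
    adequate R ((toMVF (Scheme.precoverage P) a).obj M) := by
  obtain ⟨ι, R₀, a₀, hcov, hadq⟩ := hM
  obtain ⟨hs, hf⟩ := (Scheme.ofArrows_mem_precoverage_iff _).1 hcov
  exact adequate_affine_of_family hP M a a₀ hf hs fun i R' b =>
    adequate_of_factor M.val (a₀ i) (b ≫ a₀ i) b rfl (hadq i)

include hP in
theorem adequateMod_of_affine (M : BigSite.Mod (Scheme.precoverage P) S)
    (h : ∀ (R : CommRingCat.{u}) (a : Spec R ⟶ S), adequate R ((toMVF (Scheme.precoverage P) a).obj M)) :
    adequateMod (Scheme.precoverage P) S M := by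
  refine ⟨{U : S.Opens // IsAffineOpen U}, fun U => Γ(S, U.1), fun U => U.2.fromSpec,
    (Scheme.ofArrows_mem_precoverage_iff _).2 ⟨fun x => ?_, fun U => hP.openImm _ inferInstance⟩,
    fun U => h _ _⟩
  obtain ⟨U, hU, hxU, -⟩ := exists_isAffineOpen_mem_and_subset (U := (⊤ : S.Opens)) (x := x) trivial
  exact ⟨⟨U, hU⟩, by rw [hU.range_fromSpec]; exact hxU⟩

end Groth.Agent.Adeq88
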