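import Groth.Agent.Adeq88.Constr
import Mathlib.Algebra.Homology.HomologySequence
import Mathlib.Algebra.Homology.HomologicalComplexAbelian
import Mathlib.CategoryTheory.Abelian.Exact

/-!
Properties of module-valued functors closed under kernels, cokernels and extensions, and their behaviour in long exact
sequences.
-/

set_option autoImplicit false
set_option maxHeartbeats 1000000
set_option linter.style.haveILetI false
set_option backward.isDefEq.respectTransparency false

universe u

open CategoryTheory Limits Opposite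

noncomputable section

namespace Groth.Agent.Adeq88

open Adeq

variable {A : Type u} [CommRing A]

theorem exact_of_elem (S : ShortComplex (MVF A))
    (h : ∀ B (y : Val S.X₂ B), ap S.g B y = 0 → ∃ x, ap S.f B x = y) : S.Exact := by
  rw [S.exact_iff_epi_kernel_lift, epi_iff]
  intro B y
  obtain ⟨x, hx⟩ := h B (ap (kernel.ι S.g) B y) (kernel_ι_comp _ _ _)
  refine ⟨x, kernel_ι_inj _ _ ?_⟩
  rw [← ap_comp, kernel.lift_ι, hx]

theorem elem_of_exact {S : ShortComplex (MVF A)} (h : S.Exact) (B : Alg A) (y : Val S.X₂ B) (hy : ap S.g B y = 0) :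
    ∃ x, ap S.f B x = y := by
  obtain ⟨z, rfl⟩ := kernel_exact S.g B y hy
  obtain ⟨x, rfl⟩ := (epi_iff _).1 h.epi_kernelLift B z
  exact ⟨x, by rw [← ap_comp, kernel.lift_ι]⟩

/-- A property closed under kernels, cokernels and extensions. -/
structure SerreLike (Pr : ObjectProperty (MVF A)) : Prop where
  iso : ∀ {F G : MVF A}, (F ≅ G) → Pr F → Pr G
  zero : ∀ F : MVF A, IsZero F → Pr F
  ker : ∀ {F G : MVF A} (φ : F ⟶ G), Pr F → Pr G → Pr (kernel φ)
  coker : ∀ {F G : MVF A} (φ : F ⟶ G), Pr F → Pr G → Pr (cokernel φ)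
  ext : ∀ {S : ShortComplex (MVF A)}, S.ShortExact → Pr S.X₁ → Pr S.X₃ → Pr S.X₂

variable {Pr : ObjectProperty (MVF A)} (hPr : SerreLike Pr)

include hPr in
theorem SerreLike.five {A₁ A₂ X A₃ A₄ : MVF A} (a : A₁ ⟶ A₂) (b : A₂ ⟶ X) (c : X ⟶ A₃) (d : A₃ ⟶ A₄)
    (wab : a ≫ b = 0) (wbc : b ≫ c = 0) (wcd : c ≫ d = 0)
    (hab : (ShortComplex.mk a b wab).Exact) (hbc : (ShortComplex.mk b c wbc).Exact)
    (hcd : (ShortComplex.mk c d wcd).Exact) (h₁ : Pr A₁) (h₂ : Pr A₂) (h₃ : Pr A₃) (h₄ : Pr A₄) : Pr X := by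
  have hl : Epi (kernel.lift c b wbc) := hbc.epi_kernelLift
  have wl : a ≫ kernel.lift c b wbc = 0 := by
    rw [← cancel_mono (kernel.ι c), Category.assoc, kernel.lift_ι, wab, zero_comp]
  have hK : (ShortComplex.mk a (kernel.lift c b wbc) wl).Exact := exact_of_elem _ fun B y hy => by
    have hy' : ap b B y = 0 := by
      rw [← kernel.lift_ι c b wbc, ap_comp]
      exact (congrArg (ap (kernel.ι c) B) hy).trans (map_zero _)
    exact elem_of_exact hab B y hy'
  have hKPr : Pr (kernel c) := by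
    let i := IsColimit.coconePointUniqueUpToIso (cokernelIsCokernel a)
      (ShortComplex.Exact.gIsCokernel (S := ShortComplex.mk a (kernel.lift c b wbc) wl) hK)
    exact hPr.iso i (hPr.coker a h₁ h₂)
  let S : ShortComplex (MVF A) := ShortComplex.mk (kernel.ι c) (kernel.lift d c wcd) (by
    rw [← cancel_mono (kernel.ι d), Category.assoc, kernel.lift_ι, kernel.condition, zero_comp])
  have hS : S.ShortExact := by
    haveI : Mono S.f := inferInstanceAs (Mono (kernel.ι c))
    haveI : Epi S.g := hcd.epi_kernelLift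
    refine ⟨exact_of_elem _ fun B y hy => kernel_exact c B y ?_⟩
    rw [← kernel.lift_ι d c wcd, ap_comp]
    exact (congrArg (ap (kernel.ι d) B) hy).trans (map_zero _)
  exact hPr.ext hS hKPr (hPr.ker d h₃ h₄)

/-- The homology of a complex satisfies the property in all degrees. -/
def HomIn (Pr : ObjectProperty (MVF A)) (K : CochainComplex (MVF A) ℕ) : Prop := ∀ i, Pr (K.homology i)

theorem mono_homologyMap_zero {K L : CochainComplex (MVF A) ℕ} (φ : K ⟶ L) [Mono (φ.f 0)] :
    Mono (HomologicalComplex.homologyMap φ 0) := by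
  haveI : Mono (HomologicalComplex.cyclesMap φ 0) := by
    refine ⟨fun g g' h => ?_⟩
    rw [← cancel_mono (K.iCycles 0), ← cancel_mono (φ.f 0), Category.assoc, Category.assoc,
      ← HomologicalComplex.cyclesMap_i, reassoc_of% h]
  have e : HomologicalComplex.homologyMap φ 0 =
      inv (K.homologyπ 0) ≫ HomologicalComplex.cyclesMap φ 0 ≫ L.homologyπ 0 := by
    rw [IsIso.eq_inv_comp, HomologicalComplex.homologyπ_naturality]
  rw [e]
  infer_instance

variable {S : ShortComplex (CochainComplex (MVF A) ℕ)} (hS : S.ShortExact)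

include hS in
theorem mono_homologyMap_f_zero : Mono (HomologicalComplex.homologyMap S.f 0) := by
  haveI := hS.mono_f
  haveI : Mono (S.f.f 0) := inferInstanceAs (Mono ((HomologicalComplex.eval _ _ 0).map S.f))
  exact mono_homologyMap_zero S.f

include hPr hS in
theorem SerreLike.homIn_left (h₂ : HomIn Pr S.X₂) (h₃ : HomIn Pr S.X₃) : HomIn Pr S.X₁ := by
  rintro (_ | i)
  · haveI := mono_homologyMap_f_zero hS
    let hk := (hS.homology_exact₂ 0).fIsKernel
    exact hPr.iso (IsLimit.conePointUniqueUpToIso (kernelIsKernel (HomologicalComplex.homologyMap S.g 0)) hk)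
      (hPr.ker (HomologicalComplex.homologyMap S.g 0) (h₂ 0) (h₃ 0))
  · exact hPr.five (HomologicalComplex.homologyMap S.g i) (hS.δ i (i + 1) rfl)
      (HomologicalComplex.homologyMap S.f (i + 1)) (HomologicalComplex.homologyMap S.g (i + 1))
      _ _ _ (hS.homology_exact₃ i (i + 1) rfl) (hS.homology_exact₁ i (i + 1) rfl) (hS.homology_exact₂ (i + 1))
      (h₂ i) (h₃ i) (h₂ (i + 1)) (h₃ (i + 1))

include hPr hS in
theorem SerreLike.homIn_mid (h₁ : HomIn Pr S.X₁) (h₃ : HomIn Pr S.X₃) : HomIn Pr S.X₂ := by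
  rintro (_ | i)
  · haveI := mono_homologyMap_f_zero hS
    exact hPr.five (0 : S.X₁.homology 0 ⟶ S.X₁.homology 0) (HomologicalComplex.homologyMap S.f 0)
      (HomologicalComplex.homologyMap S.g 0) (hS.δ 0 1 rfl) zero_comp
      _ _ ((ShortComplex.exact_iff_mono _ rfl).2 ‹_›) (hS.homology_exact₂ 0) (hS.homology_exact₃ 0 1 rfl)
      (h₁ 0) (h₁ 0) (h₃ 0) (h₁ 1)
  · exact hPr.five (hS.δ i (i + 1) rfl) (HomologicalComplex.homologyMap S.f (i + 1))
      (HomologicalComplex.homologyMap S.g (i + 1)) (hS.δ (i + 1) (i + 1 + 1) rfl)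
      _ _ _ (hS.homology_exact₁ i (i + 1) rfl) (hS.homology_exact₂ (i + 1))
      (hS.homology_exact₃ (i + 1) (i + 1 + 1) rfl) (h₃ i) (h₁ (i + 1)) (h₃ (i + 1)) (h₁ (i + 1 + 1))

/-- Adequacy is closed under kernels, cokernels and extensions. -/
theorem serreLike_adequate : SerreLike (adequate A) where
  iso e h := (adequate A).prop_of_iso e h
  zero F h := by
    classical
    let L : PEmpty.{u + 2} → MVF A := fun i => i.elim
    have hz : IsZero (dsum L) := (IsZero.iff_id_eq_zero _).2 (dsum_hom_ext fun i => i.elim)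
    exact (adequate A).prop_of_iso (hz.iso h) (adequate_dsum L fun i => i.elim)
  ker φ hF hG := adequate_kernel φ hF hG
  coker φ hF hG := adequate_cokernel φ hF hG
  ext hS h₁ h₃ := adequate_of_shortExact hS h₁ h₃

end Groth.Agent.Adeq88
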