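import Groth.Agent.Adeq88.OFam
import Groth.Agent.Adeq88.SerreLike
import Groth.Agent.Adeq88.AffineSect

/-!
Mayer–Vietoris induction for the sections of an injective resolution of an adequate module over the opens of a base change.
-/

set_option autoImplicit false
set_option maxHeartbeats 1000000
set_option linter.style.haveILetI false
set_option backward.isDefEq.respectTransparency false
set_option backward.isDefEq.respectTransparency.types false

universe u

open CategoryTheory Limits Opposite AlgebraicGeometry

noncomputable section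

namespace Groth.Agent.Adeq88

open Adeq

variable {P : MorphismProperty Scheme.{u}} (hP : GoodProp P) [BigSite.OSh (Scheme.precoverage P)]
  {S T : Scheme.{u}} (f : T ⟶ S) {R : CommRingCat.{u}} (a : Spec R ⟶ S)

/-- The functor of an open. -/
abbrev psiW (W : (pullback a f).Opens) : BigSite.Mod (Scheme.precoverage P) T ⥤ MVF R :=
  (opF f a W).psi (Scheme.precoverage P)

variable (P) in
/-- The restriction between two opens. -/
abbrev resW {W' W : (pullback a f).Opens} (h : W' ≤ W) : psiW (P := P) f a W ⟶ psiW (P := P) f a W' :=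
  (opHom f a h).res' (Scheme.precoverage P)

/-- The sum of the functors of two opens. -/
def sumW (U V : (pullback a f).Opens) : BigSite.Mod (Scheme.precoverage P) T ⥤ MVF R where
  obj N := (psiW f a U).obj N ⊞ (psiW f a V).obj N
  map φ := biprod.map ((psiW f a U).map φ) ((psiW f a V).map φ)
  map_id N := by apply biprod.hom_ext <;> simp
  map_comp φ ψ := by apply biprod.hom_ext <;> simp

instance sumW_additive (U V : (pullback a f).Opens) : (sumW (P := P) f a U V).Additive where
  map_add := by intros; apply biprod.hom_ext <;> simp [sumW]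

/-- The restrictions to two opens. -/
def mvIn (U V : (pullback a f).Opens) : psiW (P := P) f a (U ⊔ V) ⟶ sumW f a U V where
  app N := biprod.lift ((resW P f a le_sup_left).app N) ((resW P f a le_sup_right).app N)
  naturality N N' φ := by
    dsimp [sumW]
    apply biprod.hom_ext <;> simp [(resW P f a (le_sup_left : U ≤ U ⊔ V)).naturality φ, (resW P f a (le_sup_right : V ≤ U ⊔ V)).naturality φ]

/-- The difference of the restrictions to the intersection. -/
def mvOut (U V : (pullback a f).Opens) : sumW (P := P) f a U V ⟶ psiW f a (U ⊓ V) where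
  app N := biprod.desc ((resW P f a inf_le_left).app N) (-(resW P f a inf_le_right).app N)
  naturality N N' φ := by
    dsimp [sumW]
    apply biprod.hom_ext' <;> simp [(resW P f a (inf_le_left : U ⊓ V ≤ U)).naturality φ, (resW P f a (inf_le_right : U ⊓ V ≤ V)).naturality φ]

theorem opIncl_trans {W'' W' W : (pullback a f).Opens} (h' : W'' ≤ W') (h : W' ≤ W) (B : Alg R) :
    opIncl f a h' B ≫ opIncl f a h B = opIncl f a (h'.trans h) B := by
  apply opInc_cancel
  rw [Category.assoc, opIncl_inc, opIncl_inc, opIncl_inc]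

instance opIncl_mono {W' W : (pullback a f).Opens} (h : W' ≤ W) (B : Alg R) : Mono (opIncl f a h B) :=
  ⟨fun g g' e => opInc_cancel f a W' (by rw [← opIncl_inc f a h B, reassoc_of% e])⟩

theorem mvIn_mvOut (U V : (pullback a f).Opens) (N : BigSite.Mod (Scheme.precoverage P) T) :
    (mvIn f a U V).app N ≫ (mvOut f a U V).app N = 0 := by
  show biprod.lift _ _ ≫ biprod.desc _ _ = 0
  rw [biprod.lift_desc, Preadditive.comp_neg, ← sub_eq_add_neg, sub_eq_zero]
  refine hom_ext fun B x => ((opF f a (U ⊓ V)).oval N B).injective ?_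
  rw [ap_comp, ap_comp, OHom.res'_apply, OHom.res'_apply, OHom.res'_apply, OHom.res'_apply,
    ← sres_comp, ← sres_comp]
  exact congrArg (fun k => sres N.val k _) ((opIncl_trans f a (inf_le_left : U ⊓ V ≤ U) le_sup_left B).trans
    (opIncl_trans f a (inf_le_right : U ⊓ V ≤ V) le_sup_right B).symm)

/-- The short complex of Mayer–Vietoris. -/
abbrev mvSC (U V : (pullback a f).Opens) (N : BigSite.Mod (Scheme.precoverage P) T) : ShortComplex (MVF R) :=
  ShortComplex.mk ((mvIn f a U V).app N) ((mvOut f a U V).app N) (mvIn_mvOut f a U V N)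

/-- The members of the covering of a union. -/
abbrev mvW (U V : (pullback a f).Opens) (b : Bool) : (pullback a f).Opens := cond b U V

theorem mvW_le (U V : (pullback a f).Opens) : ∀ b, mvW f a U V b ≤ U ⊔ V
  | true => le_sup_left
  | false => le_sup_right

instance isOpenImmersion_opIncl {W' W : (pullback a f).Opens} (h : W' ≤ W) (B : Alg R) :
    IsOpenImmersion (opIncl f a h B).left :=
  inferInstanceAs (IsOpenImmersion ((pcObj f a B).left.homOfLE (opU_mono f a h B)))

include hP in
theorem mvSC_shortExact (U V : (pullback a f).Opens) (N : BigSite.Mod (Scheme.precoverage P) T) [Injective N] :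
    (mvSC f a U V N).ShortExact := by
  let g : ∀ b, ∀ B, opObj f a (mvW f a U V b) B ⟶ opObj f a (U ⊔ V) B := fun b B => opIncl f a (mvW_le f a U V b) B
  have hsheaf : ∀ B, Presieve.IsSheafFor (N.val.presheaf ⋙ CategoryTheory.forget Ab.{u + 1})
      (Presieve.ofArrows (fun b => opObj f a (mvW f a U V b) B) (fun b => g b B)) := fun B => by
    refine isSheafFor_openFamily hP N _ fun x => ?_
    have hx : pcMap f a B x.1 ∈ U ⊔ V := x.2
    rcases hx with hx | hx
    · exact ⟨true, ⟨x.1, hx⟩, Subtype.ext (congrArg (fun k => k.base ⟨x.1, hx⟩) (Scheme.homOfLE_ι (pcObj f a B).left (opU_mono f a (mvW_le f a U V true) B)) :)⟩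
    · exact ⟨false, ⟨x.1, hx⟩, Subtype.ext (congrArg (fun k => k.base ⟨x.1, hx⟩) (Scheme.homOfLE_ι (pcObj f a B).left (opU_mono f a (mvW_le f a U V false) B)) :)⟩
  have hfst : ∀ B x, (opF f a U).oval N B (ap biprod.fst B (ap (mvSC f a U V N).f B x)) =
      sres N.val (opIncl f a le_sup_left B) ((opF f a (U ⊔ V)).oval N B x) := fun B x => by
    show (opF f a U).oval N B (ap biprod.fst B (ap (biprod.lift _ _) B x)) = _
    rw [← ap_comp, biprod.lift_fst]
    rfl
  have hsnd : ∀ B x, (opF f a V).oval N B (ap biprod.snd B (ap (mvSC f a U V N).f B x)) =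
      sres N.val (opIncl f a le_sup_right B) ((opF f a (U ⊔ V)).oval N B x) := fun B x => by
    show (opF f a V).oval N B (ap biprod.snd B (ap (biprod.lift _ _) B x)) = _
    rw [← ap_comp, biprod.lift_snd]
    rfl
  have hout : ∀ B y, (opF f a (U ⊓ V)).oval N B (ap (mvSC f a U V N).g B y) =
      sres N.val (opIncl f a inf_le_left B) ((opF f a U).oval N B (ap biprod.fst B y)) -
      sres N.val (opIncl f a inf_le_right B) ((opF f a V).oval N B (ap biprod.snd B y)) := fun B y => by
    show (opF f a (U ⊓ V)).oval N B (ap (biprod.desc _ (-_)) B y) = _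
    rw [biprod.desc_eq, Preadditive.comp_neg, ← sub_eq_add_neg, ap_sub, ap_comp, ap_comp, map_sub,
      OHom.res'_apply, OHom.res'_apply]
    rfl
  have hpair : ∀ B (y y' : Val ((psiW f a U).obj N ⊞ (psiW f a V).obj N) B),
      ap biprod.fst B y = ap biprod.fst B y' → ap biprod.snd B y = ap biprod.snd B y' → y = y' := by
    intro B y y' h₁ h₂
    rw [← ap_id _ B y, ← ap_id _ B y', ← biprod.total, ap_add, ap_add, ap_comp, ap_comp, ap_comp, ap_comp, h₁, h₂]
  haveI : Mono (mvSC f a U V N).f := (mono_iff _).2 fun B x x' e => by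
    apply ((opF f a (U ⊔ V)).oval N B).injective
    refine (hsheaf B).isSeparatedFor.ext fun _ h hh => ?_
    obtain ⟨b⟩ := hh
    cases b
    · exact (hsnd B x).symm.trans ((congrArg (fun z => (opF f a V).oval N B (ap biprod.snd B z)) e).trans (hsnd B x'))
    · exact (hfst B x).symm.trans ((congrArg (fun z => (opF f a U).oval N B (ap biprod.fst B z)) e).trans (hfst B x'))
  haveI : Epi (mvSC f a U V N).g := (epi_iff _).2 fun B z => by
    haveI : Injective N.val := injective_val.{u + 1, u + 1, u} N
    obtain ⟨t, ht⟩ := restriction_surjective_of_injective.{u + 1, u + 1, u} N.val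
      (opIncl f a (inf_le_left : U ⊓ V ≤ U) B) ((opF f a (U ⊓ V)).oval N B z)
    refine ⟨ap biprod.inl B (((opF f a U).oval N B).symm t), ((opF f a (U ⊓ V)).oval N B).injective ?_⟩
    rw [hout, ← ap_comp, ← ap_comp, biprod.inl_fst, biprod.inl_snd, ap_id, ap_zero, map_zero, map_zero, sub_zero,
      AddEquiv.apply_symm_apply]
    exact ht
  refine ⟨exact_of_elem _ fun B y hy => ?_⟩
  let t : ∀ b, N.val.obj (op (opObj f a (mvW f a U V b) B))
    | true => (opF f a U).oval N B (ap biprod.fst B y)
    | false => (opF f a V).oval N B (ap biprod.snd B y)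
  have h0 : sres N.val (opIncl f a inf_le_left B) (t true) = sres N.val (opIncl f a inf_le_right B) (t false) := by
    exact sub_eq_zero.1 ((hout B y).symm.trans ((congrArg _ hy).trans (map_zero _)))
  have hop : ∀ {Z : Over T} (gi : Z ⟶ opObj f a U B) (gj : Z ⟶ opObj f a V B),
      gi ≫ opInc f a U B = gj ≫ opInc f a V B → sres N.val gi (t true) = sres N.val gj (t false) := by
    intro Z gi gj hij
    have hr : Set.range (gi ≫ opInc f a U B).left ⊆ Set.range (opU f a (U ⊓ V) B).ι := by
      rintro _ ⟨x, rfl⟩
      rw [Scheme.Opens.range_ι]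
      refine ⟨(gi.left x).2, ?_⟩
      rw [hij]
      exact (gj.left x).2
    let k : Z ⟶ opObj f a (U ⊓ V) B :=
      Over.homMk (IsOpenImmersion.lift (opU f a (U ⊓ V) B).ι (gi ≫ opInc f a U B).left hr) (by
        show _ ≫ (opU f a (U ⊓ V) B).ι ≫ (pcObj f a B).hom = Z.hom
        rw [← Category.assoc, IsOpenImmersion.lift_fac, Over.w])
    have hk : k ≫ opInc f a (U ⊓ V) B = gi ≫ opInc f a U B := Over.OverMorphism.ext (IsOpenImmersion.lift_fac _ _ hr)
    have e₁ : k ≫ opIncl f a inf_le_left B = gi := opInc_cancel f a U (by rw [Category.assoc, opIncl_inc, hk])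
    have e₂ : k ≫ opIncl f a inf_le_right B = gj := opInc_cancel f a V (by rw [Category.assoc, opIncl_inc, hk, hij])
    rw [← e₁, ← e₂, sres_comp, sres_comp]
    exact congrArg (sres N.val k) h0
  obtain ⟨x, hx, -⟩ := (Presieve.isSheafFor_arrows_iff _ _).1 (hsheaf B) t fun i j Z gi gj hij => by
    have h' : gi ≫ opInc f a (mvW f a U V i) B = gj ≫ opInc f a (mvW f a U V j) B := by
      have := congrArg (· ≫ opInc f a (U ⊔ V) B) hij
      simpa only [g, Category.assoc, opIncl_inc] using this
    show sres N.val gi (t i) = sres N.val gj (t j)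
    cases i <;> cases j
    · rw [opInc_cancel f a V h']
    · exact (hop gj gi h'.symm).symm
    · exact hop gi gj h'
    · rw [opInc_cancel f a U h']
  refine ⟨((opF f a (U ⊔ V)).oval N B).symm x, hpair B _ _
    (((opF f a U).oval N B).injective ?_) (((opF f a V).oval N B).injective ?_)⟩
  · rw [hfst, AddEquiv.apply_symm_apply]
    exact hx true
  · rw [hsnd, AddEquiv.apply_symm_apply]
    exact hx false

variable {M : BigSite.Mod (Scheme.precoverage P) T} (I : InjectiveResolution M)

/-- The complex of sections over an open. -/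
abbrev secK (W : (pullback a f).Opens) : CochainComplex (MVF R) ℕ :=
  ((psiW f a W).mapHomologicalComplex (ComplexShape.up ℕ)).obj I.cocomplex

/-- The sum of two functors as an extension. -/
def sumSC (U V : (pullback a f).Opens) : ShortComplex (CochainComplex (MVF R) ℕ) :=
  ShortComplex.mk
    ((NatTrans.mapHomologicalComplex (c := ComplexShape.up ℕ)
      ({ app := fun N => biprod.inl, naturality := fun N N' φ => (biprod.inl_map _ _).symm } :
        psiW (P := P) f a U ⟶ sumW f a U V) ).app I.cocomplex)
    ((NatTrans.mapHomologicalComplex (c := ComplexShape.up ℕ)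
      ({ app := fun N => biprod.snd, naturality := fun N N' φ => biprod.map_snd _ _ } :
        sumW (P := P) f a U V ⟶ psiW f a V)).app I.cocomplex)
    (by ext i : 1; exact biprod.inl_snd)

theorem sumSC_shortExact (U V : (pullback a f).Opens) : (sumSC f a I U V).ShortExact :=
  HomologicalComplex.shortExact_of_degreewise_shortExact _ fun i =>
    (ShortComplex.Splitting.ofHasBinaryBiproduct ((psiW f a U).obj (I.cocomplex.X i))
      ((psiW f a V).obj (I.cocomplex.X i))).shortExact

/-- The Mayer–Vietoris sequence of complexes. -/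
def mvK (U V : (pullback a f).Opens) : ShortComplex (CochainComplex (MVF R) ℕ) :=
  ShortComplex.mk ((NatTrans.mapHomologicalComplex (c := ComplexShape.up ℕ) (mvIn f a U V)).app I.cocomplex)
    ((NatTrans.mapHomologicalComplex (c := ComplexShape.up ℕ) (mvOut f a U V)).app I.cocomplex)
    (by ext i : 1; exact mvIn_mvOut f a U V _)

include hP in
theorem mvK_shortExact (U V : (pullback a f).Opens) : (mvK f a I U V).ShortExact :=
  HomologicalComplex.shortExact_of_degreewise_shortExact _ fun i =>
    haveI : Injective (I.cocomplex.X i) := I.injective i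
    mvSC_shortExact hP f a U V (I.cocomplex.X i)

variable {Pr : ObjectProperty (MVF R)} (hPr : SerreLike Pr)

include hP hPr in
theorem homIn_sup (U V : (pullback a f).Opens) (hU : HomIn Pr (secK f a I U)) (hV : HomIn Pr (secK f a I V))
    (hUV : HomIn Pr (secK f a I (U ⊓ V))) : HomIn Pr (secK f a I (U ⊔ V)) :=
  have h₂ : HomIn Pr (sumSC f a I U V).X₂ := hPr.homIn_mid (S := sumSC f a I U V) (sumSC_shortExact f a I U V) hU hV
  hPr.homIn_left (mvK_shortExact hP f a I U V) h₂ hUV

include hP hPr in
theorem homIn_compact [QuasiSeparatedSpace ↥(pullback a f)]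
    (hb : ∀ W : (pullback a f).Opens, IsAffineOpen W → HomIn Pr (secK f a I W))
    (W : (pullback a f).Opens) (hW : IsCompact (W : Set ↥(pullback a f))) : HomIn Pr (secK f a I W) := by
  have hbot : HomIn Pr (secK f a I ⊥) := hb _ (isAffineOpen_bot _)
  have h1 : ∀ U₀ : (pullback a f).Opens, IsAffineOpen U₀ → ∀ W : (pullback a f).Opens,
      IsCompact (W : Set ↥(pullback a f)) → W ≤ U₀ → HomIn Pr (secK f a I W) := by
    intro U₀ hU₀ W hW hle
    let D : Γ(pullback a f, U₀) → (pullback a f).Opens := fun r => (pullback a f).basicOpen r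
    let Wl : List Γ(pullback a f, U₀) → (pullback a f).Opens := fun l => l.foldr (fun r w => D r ⊔ w) ⊥
    have key : ∀ l g, HomIn Pr (secK f a I (Wl l ⊓ D g)) := by
      intro l
      induction l with
      | nil => intro g; rw [show Wl [] = ⊥ from rfl, bot_inf_eq]; exact hbot
      | cons r l ih =>
        intro g
        rw [show Wl (r :: l) = D r ⊔ Wl l from rfl, inf_sup_right]
        refine homIn_sup hP f a I hPr _ _ ?_ (ih g) ?_
        · rw [← Scheme.basicOpen_mul]
          exact hb _ (hU₀.basicOpen _)
        · rw [show (D r ⊓ D g) ⊓ (Wl l ⊓ D g) = Wl l ⊓ (D r ⊓ D g) by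
            rw [inf_inf_inf_comm, inf_comm (D r), inf_idem, inf_assoc],
            show D r ⊓ D g = D (r * g) from ((pullback a f).basicOpen_mul r g).symm]
          exact ih _
    have h : ∀ x : W, ∃ r : Γ(pullback a f, U₀), D r ≤ W ∧ x.1 ∈ D r := fun x =>
      hU₀.exists_basicOpen_le x (hle x.2)
    choose r hr hxr using h
    obtain ⟨s, hs⟩ := hW.elim_finite_subcover (fun x : W => (D (r x) : Set ↥(pullback a f)))
      (fun x => (D (r x)).2) fun x hx => Set.mem_iUnion.2 ⟨⟨x, hx⟩, hxr _⟩
    have hmem : ∀ (l : List Γ(pullback a f, U₀)) (x), x ∈ Wl l ↔ ∃ r ∈ l, x ∈ D r := by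
      intro l x
      induction l with
      | nil => simp [Wl]
      | cons r l ih =>
        rw [show Wl (r :: l) = D r ⊔ Wl l from rfl, List.exists_mem_cons_iff]
        exact or_congr Iff.rfl ih
    have e : W = Wl (s.toList.map r) ⊓ D 1 := by
      ext x
      constructor
      · intro hx
        obtain ⟨y, hy, hxy⟩ := Set.mem_iUnion₂.1 (hs hx)
        refine ⟨(hmem _ _).2 ⟨r y, List.mem_map.2 ⟨y, Finset.mem_toList.2 hy, rfl⟩, hxy⟩, ?_⟩
        show x ∈ (pullback a f).basicOpen (1 : Γ(pullback a f, U₀))
        rw [Scheme.basicOpen_of_isUnit _ isUnit_one]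
        exact hle hx
      · rintro ⟨hx, -⟩
        obtain ⟨_, hr', hxr'⟩ := (hmem _ _).1 hx
        obtain ⟨y, -, rfl⟩ := List.mem_map.1 hr'
        exact hr y hxr'
    rw [e]
    exact key _ _
  refine compact_open_induction_on (P := fun W => HomIn Pr (secK f a I W)) W hW hbot fun W' hW' U h => ?_
  exact homIn_sup hP f a I hPr _ _ h (hb _ U.2) (h1 _ U.2 _
    (QuasiSeparatedSpace.inter_isCompact _ _ W'.2 hW' U.1.2 U.2.isCompact) inf_le_right)

end Groth.Agent.Adeq88
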