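import Groth.Agent.Adeq88.Push

/-!
Module-valued functors attached to families of objects of a big site indexed by algebras.
-/

set_option autoImplicit false
set_option linter.style.haveILetI false
set_option maxHeartbeats 1000000
set_option backward.isDefEq.respectTransparency false

universe u

open CategoryTheory Limits Opposite AlgebraicGeometry

noncomputable section

namespace Groth.Agent.Adeq88

open Adeq

variable {K : Precoverage Scheme.{u}} [BigSite.OSh K] {T : Scheme.{u}} {R : CommRingCat.{u}}

/-- A family of objects of the big site over the spectra of the algebras. -/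
structure OFam (T : Scheme.{u}) (R : CommRingCat.{u}) where
  /-- The objects. -/
  obj : Alg R → Over T
  /-- The structure maps. -/
  π : ∀ B, (obj B).left ⟶ Spec (CommRingCat.of B)
  /-- The transition maps. -/
  map : ∀ {B C : Alg R}, (B ⟶ C) → (obj C ⟶ obj B)
  map_id : ∀ B, map (𝟙 B) = 𝟙 (obj B)
  map_comp : ∀ {B C D : Alg R} (g : B ⟶ C) (h : C ⟶ D), map (g ≫ h) = map h ≫ map g
  π_nat : ∀ {B C : Alg R} (g : B ⟶ C),
    (map g).left ≫ π B = π C ≫ Spec.map (CommRingCat.ofHom g.hom.toRingHom)

namespace OFam

variable (O : OFam T R)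

/-- The family as a functor. -/
def fn : (Alg R)ᵒᵖ ⥤ Over T where
  obj X := O.obj X.unop
  map g := O.map g.unop
  map_id X := O.map_id X.unop
  map_comp g h := O.map_comp h.unop g.unop

/-- The action of an algebra on the sections over its object. -/
def ρ (B : Alg R) : (B : Type u) →+* (BigSite.ORing K T).obj.obj (op (O.obj B)) :=
  (ULift.ringEquiv.symm : Γ((O.obj B).left, ⊤) ≃+* ULift.{u + 1} Γ((O.obj B).left, ⊤)).toRingHom.comp
    ((Scheme.ΓSpecIso (CommRingCat.of B)).inv ≫ (O.π B).appTop).hom

variable (P : PresheafOfModules.{u + 1} (BigSite.ORing K T).obj)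

/-- The underlying functor to abelian groups. -/
def sectA : (Alg R)ᵒᵖᵒᵖ ⥤ Ab.{u + 1} :=
  O.fn.op ⋙ (PresheafOfModules.toPresheaf (BigSite.ORing K T).obj).obj P

instance sectAModuleO (X : (Alg R)ᵒᵖᵒᵖ) :
    Module ((BigSite.ORing K T).obj.obj (op (O.obj X.unop.unop))) ((O.sectA P).obj X) :=
  (P.obj (op (O.obj X.unop.unop))).isModule

instance sectAModule (X : (Alg R)ᵒᵖᵒᵖ) : Module X.unop.unop ((O.sectA P).obj X) :=
  Module.compHom ((O.sectA P).obj X) (O.ρ (K := K) X.unop.unop)

omit [BigSite.OSh K] in
theorem ρ_map {B C : Alg R} (g : B ⟶ C) (r : B) [BigSite.OSh K] :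
    (BigSite.ORing K T).obj.map (O.map g).op (O.ρ (K := K) B r) = O.ρ (K := K) C (g.hom r) := by
  apply ULift.ext
  change ((Scheme.ΓSpecIso (CommRingCat.of B)).inv ≫ (O.π B).appTop ≫ (O.map g).left.appTop) r =
    ((CommRingCat.ofHom g.hom.toRingHom ≫ (Scheme.ΓSpecIso (CommRingCat.of C)).inv) ≫ (O.π C).appTop) r
  rw [← Scheme.Hom.comp_appTop, O.π_nat g, Scheme.Hom.comp_appTop, ← Category.assoc,
    ← Scheme.ΓSpecIso_inv_naturality]

/-- The module-valued functor of a presheaf of modules. -/
def psiObj : MVF R :=
  PresheafOfModules.ofPresheaf (O.sectA P) (by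
    intro X Y f r m
    refine (P.map_smul (O.map f.unop.unop).op (O.ρ (K := K) X.unop.unop r) m).trans ?_
    exact congrArg (· • P.map (O.map f.unop.unop).op m) (O.ρ_map f.unop.unop r))

variable {P} in
/-- Functoriality in the presheaf of modules. -/
def psiMap {Q : PresheafOfModules.{u + 1} (BigSite.ORing K T).obj} (ψ : P ⟶ Q) : O.psiObj P ⟶ O.psiObj Q :=
  PresheafOfModules.homMk
    (Functor.whiskerLeft O.fn.op ((PresheafOfModules.toPresheaf (BigSite.ORing K T).obj).map ψ))
    (fun X r m => (ψ.app (op (O.obj X.unop.unop))).hom.map_smul (O.ρ (K := K) X.unop.unop r) m)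

variable (K) in
/-- The functor attached to a family. -/
def psiPre : PresheafOfModules.{u + 1} (BigSite.ORing K T).obj ⥤ MVF R where
  obj P := O.psiObj P
  map ψ := O.psiMap ψ
  map_id P := by ext X x; rfl
  map_comp ψ ψ' := by ext X x; rfl

instance psiPre_additive : (O.psiPre K).Additive where
  map_add := by intros; ext X x; rfl

variable (K) in
/-- The functor attached to a family on sheaves of modules. -/
def psi : BigSite.Mod K T ⥤ MVF R := SheafOfModules.forget _ ⋙ O.psiPre K

instance psi_additive : (O.psi K).Additive where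
  map_add := by intros; ext X x; rfl

variable (N : BigSite.Mod K T)

/-- The values of the functor. -/
def oval (B : Alg R) : Val ((O.psi K).obj N) B ≃+ N.val.obj (op (O.obj B)) := AddEquiv.refl _

theorem oval_res {B C : Alg R} (g : B ⟶ C) (x : Val ((O.psi K).obj N) B) :
    O.oval N C (res _ g x) = sres N.val (O.map g) (O.oval N B x) := rfl

theorem oval_smul (B : Alg R) (b : B) (x : Val ((O.psi K).obj N) B) :
    O.oval N B (b • x) = O.ρ (K := K) B b • O.oval N B x := rfl

theorem oval_ap {N' : BigSite.Mod K T} (φ : N ⟶ N') (B : Alg R) (x : Val ((O.psi K).obj N) B) :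
    O.oval N' B (ap ((O.psi K).map φ) B x) = φ.val.app (op (O.obj B)) (O.oval N B x) := rfl

end OFam

/-- A morphism of families. -/
structure OHom (O' O : OFam T R) where
  /-- The components. -/
  app : ∀ B, O'.obj B ⟶ O.obj B
  nat : ∀ {B C : Alg R} (g : B ⟶ C), O'.map g ≫ app B = app C ≫ O.map g
  w : ∀ B, (app B).left ≫ O.π B = O'.π B

namespace OHom

variable {O' O : OFam T R} (h : OHom O' O)

theorem ρ_app (B : Alg R) (b : B) :
    (BigSite.ORing K T).obj.map (h.app B).op (O.ρ (K := K) B b) = O'.ρ (K := K) B b := by
  apply ULift.ext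
  change ((Scheme.ΓSpecIso (CommRingCat.of B)).inv ≫ (O.π B).appTop ≫ (h.app B).left.appTop) b = _
  rw [← Scheme.Hom.comp_appTop, h.w]
  rfl

/-- The restriction on values. -/
def resApp (N : BigSite.Mod K T) (B : Alg R) : Val ((O.psi K).obj N) B →ₗ[B] Val ((O'.psi K).obj N) B where
  toFun x := (O'.oval N B).symm (sres N.val (h.app B) (O.oval N B x))
  map_add' x y := by rw [map_add, map_add, map_add]
  map_smul' b x := by
    apply (O'.oval N B).injective
    show sres N.val (h.app B) (O.ρ (K := K) B b • O.oval N B x) =
      O'.ρ (K := K) B b • sres N.val (h.app B) (O.oval N B x)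
    refine (N.val.map_smul (h.app B).op _ _).trans ?_
    exact congrArg (· • sres N.val (h.app B) (O.oval N B x)) (h.ρ_app B b)

variable (K) in
/-- The restriction between the functors of two families. -/
def res' : O.psi K ⟶ O'.psi K where
  app N :=
    { app := fun X => by
        let m := ModuleCat.ofHom (h.resApp N X.unop.unop)
        exact m
      naturality := fun {X Y} g => by
        ext x
        show sres N.val (h.app Y.unop.unop) (sres N.val (O.map g.unop.unop) (O.oval N X.unop.unop x)) =
          sres N.val (O'.map g.unop.unop) (sres N.val (h.app X.unop.unop) (O.oval N X.unop.unop x))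
        rw [← sres_comp, ← sres_comp, h.nat] }
  naturality N N' φ := hom_ext fun B x => by
    show sres N'.val (h.app B) (φ.val.app (op (O.obj B)) (O.oval N B x)) =
      φ.val.app (op (O'.obj B)) (sres N.val (h.app B) (O.oval N B x))
    exact (PresheafOfModules.naturality_apply φ.val (h.app B).op _).symm

theorem res'_apply (N : BigSite.Mod K T) (B : Alg R) (x : Val ((O.psi K).obj N) B) :
    O'.oval N B (ap ((h.res' K).app N) B x) = sres N.val (h.app B) (O.oval N B x) := rfl

theorem isIso_res' (hh : ∀ B, IsIso (h.app B)) : IsIso (h.res' K) := by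
  have : ∀ N, IsIso ((h.res' K).app N) := fun N => isIso_of_bijective _ fun B => by
    have := hh B
    exact sres_bijective_of_iso N.val (asIso (h.app B))
  exact NatIso.isIso_of_isIso_app _

end OHom

section Opens

variable {S : Scheme.{u}} (f : T ⟶ S) (a : Spec R ⟶ S)

theorem pcMap_natural {B C : Alg R} (g : B ⟶ C) :
    ((Over.pullback f).map ((specOver a).map g.op)).left ≫ pcMap f a B = pcMap f a C := by
  unfold pcMap
  apply pullback.hom_ext
  · simp only [Category.assoc, Over.pullback_map_left, pullback.lift_fst, pullback.map, pullback.lift_fst_assoc]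
    show pullback.fst _ _ ≫ Spec.map (CommRingCat.ofHom g.hom.toRingHom) ≫ _ = _
    rw [← Spec.map_comp]
    congr 2
    ext r
    exact g.hom.commutes r
  · simp only [Category.assoc, Over.pullback_map_left, pullback.lift_snd, pullback.map, pullback.lift_snd_assoc]

/-- The base change to an open of the pullback. -/
abbrev opU (W : (pullback a f).Opens) (B : Alg R) : (pcObj f a B).left.Opens := pcMap f a B ⁻¹ᵁ W

/-- The object of an open. -/
abbrev opObj (W : (pullback a f).Opens) (B : Alg R) : Over T :=
  Over.mk ((opU f a W B).ι ≫ (pcObj f a B).hom)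

/-- The inclusion of the object of an open. -/
abbrev opInc (W : (pullback a f).Opens) (B : Alg R) : opObj f a W B ⟶ pcObj f a B :=
  Over.homMk (opU f a W B).ι rfl

theorem opU_le (W : (pullback a f).Opens) {B C : Alg R} (g : B ⟶ C) :
    opU f a W C ≤ ((Over.pullback f).map ((specOver a).map g.op)).left ⁻¹ᵁ opU f a W B := by
  intro x hx
  show pcMap f a B (((Over.pullback f).map ((specOver a).map g.op)).left x) ∈ W
  rw [← Scheme.Hom.comp_apply, pcMap_natural]
  exact hx

/-- The transition maps of the objects of an open. -/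
def opMap (W : (pullback a f).Opens) {B C : Alg R} (g : B ⟶ C) : opObj f a W C ⟶ opObj f a W B :=
  Over.homMk (((Over.pullback f).map ((specOver a).map g.op)).left.resLE _ _ (opU_le f a W g)) (by
    show _ ≫ (opU f a W B).ι ≫ (pcObj f a B).hom = (opU f a W C).ι ≫ (pcObj f a C).hom
    rw [← Category.assoc, Scheme.Hom.resLE_comp_ι, Category.assoc, Over.w])

theorem opMap_inc (W : (pullback a f).Opens) {B C : Alg R} (g : B ⟶ C) :
    opMap f a W g ≫ opInc f a W B = opInc f a W C ≫ (Over.pullback f).map ((specOver a).map g.op) :=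
  Over.OverMorphism.ext (Scheme.Hom.resLE_comp_ι _ _)

theorem opInc_cancel (W : (pullback a f).Opens) {B : Alg R} {Z : Over T} {k k' : Z ⟶ opObj f a W B}
    (h : k ≫ opInc f a W B = k' ≫ opInc f a W B) : k = k' :=
  Over.OverMorphism.ext ((cancel_mono (opU f a W B).ι).1 (congrArg (fun m : Z ⟶ pcObj f a B => m.left) h))

/-- The family of an open. -/
def opF (W : (pullback a f).Opens) : OFam T R where
  obj := opObj f a W
  π B := (opU f a W B).ι ≫ pullback.fst _ _
  map g := opMap f a W g
  map_id B := by
    apply opInc_cancel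
    rw [opMap_inc, show ((specOver a).map (𝟙 B).op) = 𝟙 _ from (specOver a).map_id _, CategoryTheory.Functor.map_id]
    simp
  map_comp {B C D} g h := by
    apply opInc_cancel
    rw [opMap_inc, Category.assoc, opMap_inc, ← Category.assoc (opMap f a W h), opMap_inc, Category.assoc,
      ← Functor.map_comp, ← Functor.map_comp]
    rfl
  π_nat {B C} g := by
    show _ ≫ (opU f a W B).ι ≫ pullback.fst _ _ = ((opU f a W C).ι ≫ pullback.fst _ _) ≫ _
    rw [← Category.assoc, show (opMap f a W g).left ≫ (opU f a W B).ι = _ from Scheme.Hom.resLE_comp_ι _ _,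
      Category.assoc, Category.assoc]
    congr 1
    simp only [Over.pullback_map_left, pullback.lift_fst]
    rfl

/-- The family of the whole base change. -/
def pcF : OFam T R where
  obj := pcObj f a
  π _ := pullback.fst _ _
  map g := (Over.pullback f).map ((specOver a).map g.op)
  map_id B := by
    rw [show ((specOver a).map (𝟙 B).op) = 𝟙 _ from (specOver a).map_id _, CategoryTheory.Functor.map_id]
  map_comp g h := by
    rw [← Functor.map_comp, ← Functor.map_comp]
    rfl
  π_nat g := by
    simp only [Over.pullback_map_left, pullback.lift_fst]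
    rfl

/-- The inclusion of an open in the whole. -/
def opToPc (W : (pullback a f).Opens) : OHom (opF f a W) (pcF f a) where
  app := opInc f a W
  nat g := opMap_inc f a W g
  w _ := rfl

theorem opU_mono {W' W : (pullback a f).Opens} (h : W' ≤ W) (B : Alg R) : opU f a W' B ≤ opU f a W B :=
  fun _ hx => h hx

/-- The inclusion between the objects of two opens. -/
def opIncl {W' W : (pullback a f).Opens} (h : W' ≤ W) (B : Alg R) : opObj f a W' B ⟶ opObj f a W B :=
  Over.homMk ((pcObj f a B).left.homOfLE (opU_mono f a h B)) (by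
    show (pcObj f a B).left.homOfLE (opU_mono f a h B) ≫ (opU f a W B).ι ≫ _ = (opU f a W' B).ι ≫ _
    rw [← Category.assoc, Scheme.homOfLE_ι])

theorem opIncl_inc {W' W : (pullback a f).Opens} (h : W' ≤ W) (B : Alg R) :
    opIncl f a h B ≫ opInc f a W B = opInc f a W' B :=
  Over.OverMorphism.ext (Scheme.homOfLE_ι _ (opU_mono f a h B))

/-- The inclusion between two opens. -/
def opHom {W' W : (pullback a f).Opens} (h : W' ≤ W) : OHom (opF f a W') (opF f a W) where
  app := opIncl f a h
  nat {B C} g := by
    apply opInc_cancel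
    show (opMap f a W' g ≫ opIncl f a h B) ≫ opInc f a W B = (opIncl f a h C ≫ opMap f a W g) ≫ opInc f a W B
    rw [Category.assoc, opIncl_inc, opMap_inc, Category.assoc, opMap_inc, ← Category.assoc, opIncl_inc]
  w B := by
    show (pcObj f a B).left.homOfLE (opU_mono f a h B) ≫ (opU f a W B).ι ≫ pullback.fst _ _ = (opU f a W' B).ι ≫ pullback.fst _ _
    rw [← Category.assoc, Scheme.homOfLE_ι]

/-- The comparison of the pushforward with the functor of the whole base change. -/
def pushPsiIso (N : BigSite.Mod K T) : pushF f N a ≅ ((pcF f a).psi K).obj N := by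
  let φ : pushF f N a ⟶ ((pcF f a).psi K).obj N :=
    { app := fun X => by
        let l : Val (pushF f N a) X.unop.unop →ₗ[X.unop.unop] Val (((pcF f a).psi K).obj N) X.unop.unop :=
          { toFun := fun x => ((pcF f a).oval N X.unop.unop).symm (pushVal N X.unop.unop x)
            map_add' := fun x y => rfl
            map_smul' := fun c x => rfl }
        let m := ModuleCat.ofHom l
        exact m
      naturality := fun {X Y} g => by ext x; rfl }
  have : IsIso φ := isIso_of_bijective φ fun B => ⟨fun _ _ h => h, fun y => ⟨y, rfl⟩⟩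
  exact asIso φ

end Opens

end Groth.Agent.Adeq88
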