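import Groth.Agent.Adeq88.Sect

/-!
Adequate modules are preserved by pushforward along quasi-compact quasi-separated morphisms.
-/

set_option autoImplicit false
set_option linter.style.haveILetI false
set_option maxHeartbeats 1000000
set_option backward.isDefEq.respectTransparency false

universe u

open CategoryTheory Limits Opposite AlgebraicGeometry TensorProduct

noncomputable section

namespace Groth.Agent.Adeq88

open Adeq

variable {K : Precoverage Scheme.{u}} [BigSite.OSh K] {S T : Scheme.{u}} (f : T ⟶ S)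
  (M : BigSite.Mod K T) {R : CommRingCat.{u}} (a : Spec R ⟶ S)

/-- The functor of a pushforward. -/
abbrev pushF : MVF R := (toMVF K a).obj ((BigSite.pushMod K f).obj M)

/-- The base change of an affine object. -/
abbrev pcObj (B : Alg R) : Over T := (Over.pullback f).obj ((specOver a).obj (op B))

/-- The projection of a base change of an affine object to the base change of the base. -/
def pcMap (B : Alg R) : (pcObj f a B).left ⟶ pullback a f :=
  pullback.map _ _ _ _ (Spec.map (CommRingCat.ofHom (algebraMap R B))) (𝟙 T) (𝟙 S)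
    (Category.comp_id _) ((Category.comp_id _).trans (Category.id_comp _).symm)

/-- An affine piece of the base change of the base. -/
structure Piece where
  /-- The ring. -/
  A : CommRingCat.{u}
  /-- The immersion. -/
  j : Spec A ⟶ pullback a f
  isOpen : IsOpenImmersion j

instance (p : Piece f a) : IsOpenImmersion p.j := p.isOpen

instance pieceAlgebra (p : Piece f a) : Algebra (R : Type u) (p.A : Type u) :=
  (Spec.preimage (p.j ≫ pullback.fst a f)).hom.toAlgebra

variable {f a}

theorem piece_algebraMap (p : Piece f a) :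
    Spec.map (CommRingCat.ofHom (algebraMap (R : Type u) (p.A : Type u))) = p.j ≫ pullback.fst a f := by
  show Spec.map (CommRingCat.ofHom (Spec.preimage (p.j ≫ pullback.fst a f)).hom) = _
  rw [CommRingCat.ofHom_hom, Spec.map_preimage]

/-- The map of a piece to the source. -/
abbrev Piece.b (p : Piece f a) : Spec p.A ⟶ T := p.j ≫ pullback.snd a f

/-- The functor of a piece. -/
abbrev compF (p : Piece f a) : MVF R := (push (R : Type u) (p.A : Type u)).obj ((toMVF K p.b).obj M)

/-- The objects of a piece. -/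
abbrev cObj (p : Piece f a) (B : Alg R) : Over T := (specOver p.b).obj (op (bA (R : Type u) (p.A : Type u) B))

/-- The first inclusion. -/
abbrev incL (p : Piece f a) (B : Alg R) : p.A ⟶ CommRingCat.of (bA (R : Type u) (p.A : Type u) B) :=
  CommRingCat.ofHom (Algebra.TensorProduct.includeLeftRingHom : (p.A : Type u) →+* (p.A : Type u) ⊗[R] (B : Type u))

/-- The second inclusion. -/
abbrev incR (p : Piece f a) (B : Alg R) : CommRingCat.of B ⟶ CommRingCat.of (bA (R : Type u) (p.A : Type u) B) :=
  CommRingCat.ofHom (Algebra.TensorProduct.includeRight (R := R) (A := (p.A : Type u)) (B := (B : Type u))).toRingHom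

theorem isPullback_inc (p : Piece f a) (B : Alg R) :
    IsPullback (Spec.map (incL p B)) (Spec.map (incR p B))
      (Spec.map (CommRingCat.ofHom (algebraMap (R : Type u) (p.A : Type u))))
      (Spec.map (CommRingCat.ofHom (algebraMap R B))) :=
  isPullback_SpecMap_of_isPushout _ _ _ _
    (CommRingCat.isPushout_tensorProduct R (p.A : Type u) (B : Type u))

/-- The comparison of a piece with the base change. -/
def cmp (p : Piece f a) (B : Alg R) : cObj p B ⟶ pcObj f a B :=
  Over.homMk (pullback.lift (Spec.map (incR p B)) (Spec.map (incL p B) ≫ p.b) (by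
    show Spec.map (incR p B) ≫ Spec.map (CommRingCat.ofHom (algebraMap R B)) ≫ a = _
    rw [← Category.assoc, ← (isPullback_inc p B).w, piece_algebraMap, Category.assoc, Category.assoc,
      pullback.condition]
    simp only [Category.assoc])) (pullback.lift_snd _ _ _)

theorem cmp_fst (p : Piece f a) (B : Alg R) : (cmp p B).left ≫ pullback.fst _ _ = Spec.map (incR p B) :=
  pullback.lift_fst _ _ _

theorem cmp_snd (p : Piece f a) (B : Alg R) :
    (cmp p B).left ≫ pullback.snd _ _ = Spec.map (incL p B) ≫ p.b :=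
  pullback.lift_snd _ _ _

theorem isPullback_cmp (p : Piece f a) (B : Alg R) :
    IsPullback (Spec.map (incL p B)) (cmp p B).left p.j (pcMap f a B) := by
  have hq₁ : pcMap f a B ≫ pullback.fst a f = pullback.fst _ _ ≫ Spec.map (CommRingCat.ofHom (algebraMap R B)) :=
    pullback.lift_fst _ _ _
  have hq₂ : pcMap f a B ≫ pullback.snd a f = pullback.snd _ _ :=
    (pullback.lift_snd _ _ _).trans (Category.comp_id _)
  have w : Spec.map (incL p B) ≫ p.j = (cmp p B).left ≫ pcMap f a B := by
    apply pullback.hom_ext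
    · rw [Category.assoc, Category.assoc, hq₁, reassoc_of% (cmp_fst p B), ← piece_algebraMap, (isPullback_inc p B).w]
    · rw [Category.assoc, Category.assoc, hq₂, cmp_snd]
  refine ⟨⟨w⟩, ⟨PullbackCone.IsLimit.mk _
    (fun s => (isPullback_inc p B).lift s.fst (s.snd ≫ pullback.fst _ _) ?_) (fun s => ?_) (fun s => ?_)
    (fun s m h₁ h₂ => ?_)⟩⟩
  · rw [Category.assoc, ← hq₁, ← reassoc_of% s.condition, piece_algebraMap]
  · exact IsPullback.lift_fst _ _ _ _
  · apply pullback.hom_ext
    · rw [Category.assoc, cmp_fst, IsPullback.lift_snd]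
    · rw [Category.assoc, cmp_snd, IsPullback.lift_fst_assoc, ← hq₂, ← reassoc_of% s.condition]
  · apply (isPullback_inc p B).hom_ext
    · rw [IsPullback.lift_fst, h₁]
    · rw [IsPullback.lift_snd, ← h₂, Category.assoc, cmp_fst]

instance isOpenImmersion_cmp (p : Piece f a) (B : Alg R) : IsOpenImmersion (cmp p B).left :=
  MorphismProperty.of_isPullback (P := @IsOpenImmersion) (isPullback_cmp p B) p.isOpen

theorem mem_range_cmp_iff (p : Piece f a) (B : Alg R) (y : (pcObj f a B).left) :
    y ∈ Set.range (cmp p B).left ↔ pcMap f a B y ∈ Set.range p.j := by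
  constructor
  · rintro ⟨x, rfl⟩
    exact ⟨Spec.map (incL p B) x, congrArg (fun k : Spec _ ⟶ pullback a f => k x) (isPullback_cmp p B).w⟩
  · rintro ⟨x, hx⟩
    obtain ⟨z, -, hz⟩ := Scheme.Pullback.exists_preimage_pullback x y hx
    refine ⟨(isPullback_cmp p B).isoPullback.inv z, ?_⟩
    exact (congrArg (fun k : pullback p.j (pcMap f a B) ⟶ (pcObj f a B).left => k z)
      (IsPullback.isoPullback_inv_snd (isPullback_cmp p B))).trans hz

theorem cmp_natural (p : Piece f a) {B C : Alg R} (g : B ⟶ C) :
    (specOver p.b).map ((Alg.baseChange (R : Type u) (p.A : Type u)).map g).op ≫ cmp p B =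
      cmp p C ≫ (Over.pullback f).map ((specOver a).map g.op) := by
  apply Over.OverMorphism.ext
  show Spec.map (CommRingCat.ofHom ((Alg.baseChange (R : Type u) (p.A : Type u)).map g).hom.toRingHom) ≫ (cmp p B).left =
    (cmp p C).left ≫ ((Over.pullback f).map ((specOver a).map g.op)).left
  apply pullback.hom_ext
  · simp only [Category.assoc, Over.pullback_map_left, pullback.lift_fst]
    rw [cmp_fst, reassoc_of% (cmp_fst p C)]
    show _ = Spec.map (incR p C) ≫ Spec.map (CommRingCat.ofHom g.hom.toRingHom)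
    rw [← Spec.map_comp, ← Spec.map_comp]
    congr 1
  · simp only [Category.assoc, Over.pullback_map_left, pullback.lift_snd]
    rw [cmp_snd, cmp_snd, ← Category.assoc, ← Spec.map_comp]
    congr 2
    ext x
    show Algebra.TensorProduct.map (AlgHom.id _ _) g.hom (x ⊗ₜ[R] (1 : B)) = x ⊗ₜ[R] (1 : C)
    rw [Algebra.TensorProduct.map_tmul, map_one]
    rfl

/-- The values of a pushforward. -/
def pushVal (B : Alg R) : Val (pushF f M a) B ≃+ M.val.obj (op (pcObj f a B)) := AddEquiv.refl _

/-- The values of a piece. -/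
def compVal (p : Piece f a) (B : Alg R) : Val (compF M p) B ≃+ M.val.obj (op (cObj p B)) := AddEquiv.refl _

theorem pushVal_res {B C : Alg R} (g : B ⟶ C) (x : Val (pushF f M a) B) :
    pushVal M C (res _ g x) = sres M.val ((Over.pullback f).map ((specOver a).map g.op)) (pushVal M B x) := rfl

theorem compVal_res (p : Piece f a) {B C : Alg R} (g : B ⟶ C) (x : Val (compF M p) B) :
    compVal M p C (res _ g x) =
      sres M.val ((specOver p.b).map ((Alg.baseChange (R : Type u) (p.A : Type u)).map g).op) (compVal M p B x) := rfl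

/-- The restriction to a piece on values. -/
def etaApp (p : Piece f a) (B : Alg R) : Val (pushF f M a) B →ₗ[B] Val (compF M p) B where
  toFun x := (compVal M p B).symm (sres M.val (cmp p B) (pushVal M B x))
  map_add' x y := by rw [map_add, map_add, map_add]
  map_smul' c x := by
    apply (compVal M p B).injective
    show sres M.val (cmp p B) (pushVal M B (c • x)) =
      toSect K p.b (bA (R : Type u) (p.A : Type u) B) ((1 : p.A) ⊗ₜ[R] c) • sres M.val (cmp p B) (pushVal M B x)
    refine (M.val.map_smul (cmp p B).op _ _).trans ?_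
    congr 1
    apply ULift.ext
    have h : Spec.map (incR p B) = (cmp p B).left ≫ pullback.fst _ _ := (cmp_fst p B).symm
    change (Scheme.Hom.appTop (pullback.fst ((specOver a).obj (op B)).hom f) ≫ Scheme.Hom.appTop (cmp p B).left) ((Scheme.ΓSpecIso (CommRingCat.of B)).inv c) =
      (incR p B ≫ (Scheme.ΓSpecIso _).inv) c
    rw [← Scheme.Hom.comp_appTop]
    show _ = _
    erw [Scheme.ΓSpecIso_inv_naturality (incR p B), h]
    rfl

/-- The restriction to a piece. -/
def etaP (p : Piece f a) : pushF f M a ⟶ compF M p where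
  app X := by
    let m := ModuleCat.ofHom (etaApp M p X.unop.unop)
    exact m
  naturality {X Y} g := by
    ext x
    show sres M.val (cmp p Y.unop.unop) (sres M.val ((Over.pullback f).map ((specOver a).map g.unop))
        (pushVal M X.unop.unop x)) =
      sres M.val ((specOver p.b).map ((Alg.baseChange (R : Type u) (p.A : Type u)).map g.unop.unop).op)
        (sres M.val (cmp p X.unop.unop) (pushVal M X.unop.unop x))
    rw [← sres_comp, ← sres_comp, cmp_natural]
    rfl

theorem etaP_apply (p : Piece f a) (B : Alg R) (x : Val (pushF f M a) B) :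
    compVal M p B (ap (etaP M p) B x) = sres M.val (cmp p B) (pushVal M B x) := rfl

section Restr

variable {p q : Piece f a} (ψ : (p.A : Type u) →ₐ[R] (q.A : Type u))
  (hψ : Spec.map (CommRingCat.ofHom ψ.toRingHom) ≫ p.j = q.j)

/-- The ring map between the values of two pieces. -/
abbrev tmap (B : Alg R) : CommRingCat.of (bA (R : Type u) (p.A : Type u) B) ⟶
    CommRingCat.of (bA (R : Type u) (q.A : Type u) B) :=
  CommRingCat.ofHom (Algebra.TensorProduct.map ψ (AlgHom.id R (B : Type u))).toRingHom

include hψ in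
theorem tmap_comp (B : Alg R) :
    Spec.map (tmap ψ B) ≫ Spec.map (incL p B) ≫ p.b = Spec.map (incL q B) ≫ q.b := by
  rw [← Category.assoc, ← Spec.map_comp, show incL p B ≫ tmap ψ B = CommRingCat.ofHom ψ.toRingHom ≫ incL q B from ?_,
    Spec.map_comp, Category.assoc]
  · rw [← Category.assoc (Spec.map (CommRingCat.ofHom ψ.toRingHom)), hψ]
  · ext x
    show Algebra.TensorProduct.map ψ (AlgHom.id R (B : Type u)) (x ⊗ₜ[R] (1 : B)) = ψ x ⊗ₜ[R] (1 : B)
    rw [Algebra.TensorProduct.map_tmul]
    rfl

/-- The map of objects between two pieces. -/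
def robj (B : Alg R) : cObj q B ⟶ cObj p B := Over.homMk (Spec.map (tmap ψ B)) (tmap_comp ψ hψ B)

theorem robj_cmp (B : Alg R) : robj ψ hψ B ≫ cmp p B = cmp q B := by
  apply Over.OverMorphism.ext
  show Spec.map (tmap ψ B) ≫ (cmp p B).left = (cmp q B).left
  apply pullback.hom_ext
  · rw [Category.assoc, cmp_fst, cmp_fst, ← Spec.map_comp]
    congr 1
    ext x
    show Algebra.TensorProduct.map ψ (AlgHom.id R (B : Type u)) ((1 : p.A) ⊗ₜ[R] x) = (1 : q.A) ⊗ₜ[R] x
    rw [Algebra.TensorProduct.map_tmul, map_one]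
    rfl
  · rw [Category.assoc, cmp_snd, cmp_snd, tmap_comp ψ hψ]

/-- The restriction between two pieces on values. -/
def restApp (B : Alg R) : Val (compF M p) B →ₗ[B] Val (compF M q) B where
  toFun x := (compVal M q B).symm (sres M.val (robj ψ hψ B) (compVal M p B x))
  map_add' x y := by rw [map_add, map_add, map_add]
  map_smul' c x := by
    apply (compVal M q B).injective
    show sres M.val (robj ψ hψ B) (toSect K p.b (bA (R : Type u) (p.A : Type u) B) ((1 : p.A) ⊗ₜ[R] c) • compVal M p B x) =
      toSect K q.b (bA (R : Type u) (q.A : Type u) B) ((1 : q.A) ⊗ₜ[R] c) • sres M.val (robj ψ hψ B) (compVal M p B x)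
    refine (M.val.map_smul (robj ψ hψ B).op _ _).trans ?_
    congr 1
    apply ULift.ext
    change ((Scheme.ΓSpecIso _).inv ≫ (Spec.map (tmap ψ B)).appTop) _ = _
    rw [← Scheme.ΓSpecIso_inv_naturality]
    show (Scheme.ΓSpecIso (CommRingCat.of (bA (R : Type u) (q.A : Type u) B))).inv (Algebra.TensorProduct.map ψ (AlgHom.id R (B : Type u)) ((1 : p.A) ⊗ₜ[R] c)) = _
    rw [Algebra.TensorProduct.map_tmul, map_one]
    rfl

/-- The restriction between two pieces. -/
def restP : compF M p ⟶ compF M q where
  app X := by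
    let m := ModuleCat.ofHom (restApp M ψ hψ X.unop.unop)
    exact m
  naturality {X Y} g := by
    ext x
    show sres M.val (robj ψ hψ Y.unop.unop) (sres M.val ((specOver p.b).map ((Alg.baseChange (R : Type u) (p.A : Type u)).map g.unop.unop).op)
        (compVal M p X.unop.unop x)) =
      sres M.val ((specOver q.b).map ((Alg.baseChange (R : Type u) (q.A : Type u)).map g.unop.unop).op)
        (sres M.val (robj ψ hψ X.unop.unop) (compVal M p X.unop.unop x))
    rw [← sres_comp, ← sres_comp]
    refine congrArg (fun k => sres M.val k (compVal M p X.unop.unop x)) ?_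
    apply Over.OverMorphism.ext
    show Spec.map (tmap ψ Y.unop.unop) ≫ Spec.map (CommRingCat.ofHom ((Alg.baseChange (R : Type u) (p.A : Type u)).map g.unop.unop).hom.toRingHom) =
      Spec.map (CommRingCat.ofHom ((Alg.baseChange (R : Type u) (q.A : Type u)).map g.unop.unop).hom.toRingHom) ≫ Spec.map (tmap ψ X.unop.unop)
    rw [← Spec.map_comp, ← Spec.map_comp]
    congr 1
    apply CommRingCat.hom_ext
    refine RingHom.ext fun (z : (p.A : Type u) ⊗[R] (X.unop.unop : Type u)) => ?_
    induction z using TensorProduct.induction_on with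
    | zero => simp
    | tmul x y => rfl
    | add x y hx hy => simp only [map_add, hx, hy]

theorem restP_apply (B : Alg R) (x : Val (compF M p) B) :
    compVal M q B (ap (restP M ψ hψ) B x) = sres M.val (robj ψ hψ B) (compVal M p B x) := rfl

end Restr

theorem exists_piece_map {p q : Piece f a} (h : Set.range q.j ⊆ Set.range p.j) :
    ∃ ψ : (p.A : Type u) →ₐ[R] (q.A : Type u), Spec.map (CommRingCat.ofHom ψ.toRingHom) ≫ p.j = q.j := by
  obtain ⟨φ, hφ⟩ : ∃ φ : p.A ⟶ q.A, Spec.map φ = IsOpenImmersion.lift p.j q.j h :=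
    ⟨Spec.preimage _, Spec.map_preimage _⟩
  have e : CommRingCat.ofHom (algebraMap (R : Type u) (p.A : Type u)) ≫ φ =
      CommRingCat.ofHom (algebraMap (R : Type u) (q.A : Type u)) := by
    apply Spec.map_injective
    rw [Spec.map_comp, hφ, piece_algebraMap, piece_algebraMap, ← Category.assoc, IsOpenImmersion.lift_fac]
  refine ⟨{ φ.hom with commutes' := fun r => congrArg (fun k : R ⟶ q.A => k r) e }, ?_⟩
  show Spec.map φ ≫ p.j = q.j
  rw [hφ, IsOpenImmersion.lift_fac]

end Groth.Agent.Adeq88

namespace Groth.Agent.Adeq88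

open Adeq

variable {P : MorphismProperty Scheme.{u}} (hP : GoodProp P)
  [BigSite.OSh (Scheme.precoverage P)] {S T : Scheme.{u}} (f : T ⟶ S)

theorem exists_finite_affine_cover {X : Scheme.{u}} (O : X.Opens) (hO : IsCompact (O : Set X)) :
    ∃ (n : ℕ) (W : Fin n → X.Opens), (∀ i, IsAffineOpen (W i)) ∧ (∀ i, W i ≤ O) ∧ ∀ x ∈ O, ∃ i, x ∈ W i := by
  classical
  have h : ∀ x : O, ∃ W : X.Opens, IsAffineOpen W ∧ x.1 ∈ W ∧ W ≤ O := fun x => by
    obtain ⟨W, hW, hxW, hle⟩ := exists_isAffineOpen_mem_and_subset (U := O) (x := x.1) x.2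
    exact ⟨W, hW, hxW, hle⟩
  choose W hW hxW hle using h
  obtain ⟨s, hs⟩ := hO.elim_finite_subcover (fun x : O => (W x : Set X)) (fun x => (W x).2)
    fun x hx => Set.mem_iUnion.2 ⟨⟨x, hx⟩, hxW _⟩
  refine ⟨s.card, fun i => W (s.equivFin.symm i).1, fun i => hW _, fun i => hle _, fun x hx => ?_⟩
  obtain ⟨y, hy, hxy⟩ := Set.mem_iUnion₂.1 (hs hx)
  exact ⟨s.equivFin ⟨y, hy⟩, by simpa using hxy⟩

include hP in
theorem isSheafFor_openFamily (M : BigSite.Mod (Scheme.precoverage P) T) {σ : Type} {U : Over T}
    {V : σ → Over T} (g : ∀ i, V i ⟶ U) [∀ i, IsOpenImmersion (g i).left]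
    (hs : ∀ x, ∃ i, x ∈ Set.range (g i).left) :
    Presieve.IsSheafFor (M.val.presheaf ⋙ CategoryTheory.forget Ab.{u + 1}) (Presieve.ofArrows V g) := by
  refine isSheafFor_of_mem M g ?_
  rw [GrothendieckTopology.mem_over_iff, Sieve.overEquiv_ofArrows]
  exact Precoverage.generate_mem_toGrothendieck
    ((Scheme.ofArrows_mem_precoverage_iff _).2 ⟨hs, fun i => hP.openImm _ inferInstance⟩)

variable [QuasiCompact f] [QuasiSeparated f]

omit [BigSite.OSh (Scheme.precoverage P)] [QuasiCompact f] [QuasiSeparated f] in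
variable {f} in
theorem sres_transport {K : Precoverage Scheme.{u}} [BigSite.OSh K] (M : BigSite.Mod K T) {R : CommRingCat.{u}}
    {a : Spec R ⟶ S} {κ : Type (u + 1)} (p : κ → Piece f a) {q : Piece f a} {B : Alg R}
    (w : ∀ k, M.val.obj (op (cObj (p k) B))) {k k' : κ} (e : k' = k)
    (ψ : ((p k').A : Type u) →ₐ[R] (q.A : Type u))
    (hψ : Spec.map (CommRingCat.ofHom ψ.toRingHom) ≫ (p k').j = q.j)
    {Z W' : Over T} (g : Z ⟶ cObj (p k) B) (o : W' ⟶ Z) (h' : W' ⟶ cObj q B)
    (he : h' ≫ cmp q B = o ≫ g ≫ cmp (p k) B) :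
    sres M.val o (sres M.val g (w k)) = sres M.val h' (sres M.val (robj ψ hψ B) (w k')) := by
  subst e
  rw [← sres_comp, ← sres_comp]
  refine congrArg (fun v => sres M.val v (w k')) ?_
  apply Over.OverMorphism.ext
  rw [← cancel_mono (cmp (p k') B).left, ← Over.comp_left, ← Over.comp_left, Category.assoc,
    Category.assoc, robj_cmp, he]

include hP in
theorem adequate_pushF (M : BigSite.Mod (Scheme.precoverage P) T)
    (hM : adequateMod (Scheme.precoverage P) T M) {R : CommRingCat.{u}} (a : Spec R ⟶ S) :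
    adequate R (pushF f M a) := by
  classical
  haveI : CompactSpace ↥(pullback a f) := QuasiCompact.compactSpace_of_compactSpace (pullback.fst a f)
  haveI : QuasiSeparatedSpace ↥(pullback a f) := quasiSeparatedSpace_of_quasiSeparated (pullback.fst a f)
  obtain ⟨n, U, hU, -, hUs⟩ := exists_finite_affine_cover (⊤ : (pullback a f).Opens) isCompact_univ
  have h2 : ∀ i j, ∃ (m : ℕ) (W : Fin m → (pullback a f).Opens), (∀ l, IsAffineOpen (W l)) ∧
      (∀ l, W l ≤ U i ⊓ U j) ∧ ∀ x ∈ U i ⊓ U j, ∃ l, x ∈ W l := fun i j =>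
    exists_finite_affine_cover (U i ⊓ U j) (QuasiSeparatedSpace.inter_isCompact _ _ (U i).2 (hU i).isCompact
      (U j).2 (hU j).isCompact)
  choose m W hW hWle hWs using h2
  let σ := ULift.{u + 1} (Fin n)
  let τ := ULift.{u + 1} (Σ i : Fin n, Σ j : Fin n, Fin (m i j))
  let p : σ → Piece f a := fun i => ⟨Γ(_, U i.down), (hU i.down).fromSpec, inferInstance⟩
  let q : τ → Piece f a := fun l => ⟨Γ(_, W l.down.1 l.down.2.1 l.down.2.2), (hW _ _ _).fromSpec, inferInstance⟩
  let s : τ → σ := fun l => ⟨l.down.1⟩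
  let t : τ → σ := fun l => ⟨l.down.2.1⟩
  have hs₁ : ∀ l, Set.range (q l).j ⊆ Set.range (p (s l)).j := fun l => by
    show Set.range (hW _ _ _).fromSpec ⊆ Set.range (hU _).fromSpec
    rw [(hW _ _ _).range_fromSpec, (hU _).range_fromSpec]
    exact fun x hx => (hWle _ _ _ hx).1
  have ht₁ : ∀ l, Set.range (q l).j ⊆ Set.range (p (t l)).j := fun l => by
    show Set.range (hW _ _ _).fromSpec ⊆ Set.range (hU _).fromSpec
    rw [(hW _ _ _).range_fromSpec, (hU _).range_fromSpec]
    exact fun x hx => (hWle _ _ _ hx).2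
  choose ψs hψs using fun l => exists_piece_map (hs₁ l)
  choose ψt hψt using fun l => exists_piece_map (ht₁ l)
  have had : ∀ r : Piece f a, adequate R (compF M r) := fun r =>
    adequate_push (R : Type u) (r.A : Type u) (adequate_affine hP M hM r.b)
  obtain ⟨η, hη⟩ := exists_dsum_map (σ := Fin n) (fun i => etaP M (p i))
  obtain ⟨ca, hca⟩ := exists_family_map (L := fun i => compF M (p i)) (M := fun l => compF M (q l)) s
    fun l => restP M (ψs l) (hψs l)
  obtain ⟨cb, hcb⟩ := exists_family_map (L := fun i => compF M (p i)) (M := fun l => compF M (q l)) t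
    fun l => restP M (ψt l) (hψt l)
  have hw : η ≫ (ca - cb) = 0 := hom_ext fun B x => by
    apply (dval (fun l => compF M (q l)) B).injective
    refine DFinsupp.ext fun l => ?_
    rw [ap_comp, ap_sub, map_sub, DirectSum.sub_apply, hca, hcb, hη, hη, ap_zero, map_zero,
      DirectSum.zero_apply, sub_eq_zero]
    apply (compVal M (q l) B).injective
    rw [restP_apply, restP_apply, etaP_apply, etaP_apply, ← sres_comp, ← sres_comp, robj_cmp, robj_cmp]
  let ι' : pushF f M a ⟶ kernel (ca - cb) := kernel.lift _ η hw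
  have hm : ∀ B x, ap (kernel.ι (ca - cb)) B (ap ι' B x) = ap η B x := fun B x => by
    rw [← ap_comp, kernel.lift_ι]
  have hcov : ∀ B x, ∃ i : Fin n, x ∈ Set.range (cmp (p ⟨i⟩) B).left := fun B x => by
    obtain ⟨i, hi⟩ := hUs (pcMap f a B x) trivial
    refine ⟨i, (mem_range_cmp_iff _ B x).2 ?_⟩
    show _ ∈ Set.range (hU i).fromSpec
    rw [(hU i).range_fromSpec]
    exact hi
  have hsheaf : ∀ B, Presieve.IsSheafFor (M.val.presheaf ⋙ CategoryTheory.forget Ab.{u + 1})
      (Presieve.ofArrows (fun i : Fin n => cObj (p ⟨i⟩) B) (fun i => cmp (p ⟨i⟩) B)) := fun B =>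
    isSheafFor_openFamily hP M _ (hcov B)
  have hinjm : ∀ B, Function.Injective (ap ι' B) := fun B x y h => by
    apply (pushVal M B).injective
    refine (hsheaf B).isSeparatedFor.ext fun _ g hg => ?_
    obtain ⟨i⟩ := hg
    have h' := congrArg (fun z => compVal M (p ⟨i⟩) B
      (dval (fun i => compF M (p i)) B (ap (kernel.ι (ca - cb)) B z) ⟨i⟩)) h
    simp only [hm, hη, etaP_apply] at h'
    exact h'
  have hsurm : ∀ B, Function.Surjective (ap ι' B) := fun B z => by
    let y := dval (fun i => compF M (p i)) B (ap (kernel.ι (ca - cb)) B z)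
    obtain ⟨x, hx, -⟩ := (Presieve.isSheafFor_arrows_iff _ _).1 (hsheaf B)
      (fun i => compVal M (p ⟨i⟩) B (y ⟨i⟩)) fun i j Z gi gj hij => by
        show sres M.val gi (compVal M (p ⟨i⟩) B (y ⟨i⟩)) = sres M.val gj (compVal M (p ⟨j⟩) B (y ⟨j⟩))
        rw [← sub_eq_zero]
        have hl : ∀ x : Z.left, ∃ l : τ, s l = ⟨i⟩ ∧ t l = ⟨j⟩ ∧
            (gi ≫ cmp (p ⟨i⟩) B).left x ∈ Set.range (cmp (q l) B).left := fun x => by
          have h1 := (mem_range_cmp_iff (p ⟨i⟩) B _).1 ⟨gi.left x, rfl⟩
          have h2 := (mem_range_cmp_iff (p ⟨j⟩) B _).1 ⟨gj.left x, rfl⟩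
          rw [show (cmp (p ⟨j⟩) B).left (gj.left x) = (cmp (p ⟨i⟩) B).left (gi.left x) from
            congrArg (fun k : Z ⟶ pcObj f a B => k.left x) hij.symm] at h2
          replace h1 : _ ∈ Set.range (hU i).fromSpec := h1
          replace h2 : _ ∈ Set.range (hU j).fromSpec := h2
          rw [(hU i).range_fromSpec] at h1
          rw [(hU j).range_fromSpec] at h2
          obtain ⟨l, hl⟩ := hWs i j _ ⟨h1, h2⟩
          refine ⟨⟨⟨i, j, l⟩⟩, rfl, rfl, (mem_range_cmp_iff _ B _).2 ?_⟩
          show _ ∈ Set.range (hW i j l).fromSpec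
          rw [(hW i j l).range_fromSpec]
          exact hl
        choose l hls hlt hlx using hl
        let O : Z.left → Z.left.Opens := fun x => (gi ≫ cmp (p ⟨i⟩) B).left ⁻¹ᵁ (cmp (q (l x)) B).left.opensRange
        refine eq_zero_of_family M (U := Z) (V := fun x => Over.mk ((O x).ι ≫ Z.hom))
          (fun x => Over.homMk (O x).ι rfl) (fun x => hP.openImm _ (inferInstanceAs (IsOpenImmersion (O x).ι)))
          (fun x => ⟨x, ⟨x, hlx x⟩, rfl⟩) _ fun x => ?_
        have hr : Set.range ((O x).ι ≫ (gi ≫ cmp (p ⟨i⟩) B).left) ⊆ Set.range (cmp (q (l x)) B).left := by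
          rintro _ ⟨w, rfl⟩
          exact w.2
        let h : Over.mk ((O x).ι ≫ Z.hom) ⟶ cObj (q (l x)) B :=
          Over.homMk (IsOpenImmersion.lift _ _ hr) (by
            rw [← Over.w (cmp (q (l x)) B), ← Category.assoc, IsOpenImmersion.lift_fac, Category.assoc,
              Over.w]
            rfl)
        have hh : h ≫ cmp (q (l x)) B =
            (Over.homMk (O x).ι rfl : Over.mk ((O x).ι ≫ Z.hom) ⟶ Z) ≫ gi ≫ cmp (p ⟨i⟩) B :=
          Over.OverMorphism.ext (IsOpenImmersion.lift_fac _ _ hr)
        have hk := congrArg (fun w => compVal M (q (l x)) B (dval (fun l => compF M (q l)) B w (l x)))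
          (kernel_ι_comp (ca - cb) B z)
        simp only [ap_sub, map_sub, DirectSum.sub_apply, hca, hcb, map_zero, DirectSum.zero_apply,
          restP_apply] at hk
        rw [map_sub, sres_transport M p (fun k => compVal M (p k) B (y k)) (hls x) (ψs (l x)) (hψs (l x)) gi _ h hh,
          sres_transport M p (fun k => compVal M (p k) B (y k)) (hlt x) (ψt (l x)) (hψt (l x)) gj _ h (by rw [hh, hij]), ← map_sub]
        exact (congrArg (sres M.val h) hk).trans (map_zero _)
    refine ⟨(pushVal M B).symm x,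
      kernel_ι_inj _ B ((dval (fun i => compF M (p i)) B).injective (DFinsupp.ext fun k => ?_))⟩
    rw [hm, hη]
    apply (compVal M (p k) B).injective
    rw [etaP_apply]
    exact hx k.down
  have : IsIso ι' := isIso_of_bijective ι' fun B => ⟨hinjm B, hsurm B⟩
  exact (adequate (R : Type u)).prop_of_iso (asIso ι').symm
    (adequate_kernel (ca - cb) (adequate_dsum _ fun i => had (p i)) (adequate_dsum _ fun l => had (q l)))

include hP in
theorem adequateMod_push (M : BigSite.Mod (Scheme.precoverage P) T)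
    (hM : adequateMod (Scheme.precoverage P) T M) :
    adequateMod (Scheme.precoverage P) S ((BigSite.pushMod (Scheme.precoverage P) f).obj M) :=
  adequateMod_of_affine hP _ fun _ a => adequate_pushF hP f M hM a

end Groth.Agent.Adeq88
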