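import Groth.Agent.Adeq88.RpushBase
import Mathlib.Algebra.Category.ModuleCat.Presheaf.Colimits

/-!
Higher direct images of adequate modules.
-/

set_option autoImplicit false
set_option maxHeartbeats 1000000
set_option linter.style.haveILetI false
set_option backward.isDefEq.respectTransparency false
set_option backward.isDefEq.respectTransparency.types false

universe u

open CategoryTheory Limits Opposite AlgebraicGeometry

noncomputable section

namespace Groth.Agent.Adeq88

open Adeq

instance toMVFPre_preservesHomology {K : Precoverage Scheme.{u}} [BigSite.OSh K] {S : Scheme.{u}}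
    {R : CommRingCat.{u}} (a : Spec R ⟶ S) : (toMVFPre K a).PreservesHomology := by
  refine (toMVFPre K a).preservesHomology_of_map_exact fun C hC => exact_of_elem _ fun B y hy => ?_
  let ev := PresheafOfModules.evaluation.{u + 1} (BigSite.ORing K S).obj (op ((specOver a).obj (op B)))
  have : ev.Additive :=
    PresheafOfModules.instAdditiveModuleCatCarrierObjOppositeRingCatEvaluation (R := (BigSite.ORing K S).obj) _
  have : PreservesFiniteLimits ev := PresheafOfModules.evaluation_preservesFiniteLimits _ _
  have : PreservesFiniteColimits ev := PresheafOfModules.Finite.evaluation_preservesFiniteColimits _ _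
  exact (ShortComplex.moduleCat_exact_iff _).1 (hC.map ev) y hy

variable {P : MorphismProperty Scheme.{u}} (hP : GoodProp P) [BigSite.OSh (Scheme.precoverage P)]
  [IsZariskiLocalAtSource P] {S T : Scheme.{u}} (f : T ⟶ S)

omit [IsZariskiLocalAtSource P] in
theorem isIso_opToPc_top {R : CommRingCat.{u}} (a : Spec R ⟶ S) (B : Alg R) :
    IsIso ((opToPc f a ⊤).app B) := by
  haveI : IsIso ((Over.forget T).map ((opToPc f a ⊤).app B)) := by
    show IsIso (opU f a ⊤ B).ι
    exact inferInstanceAs (IsIso (pcObj f a B).left.topIso.hom)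
  exact isIso_of_reflects_iso _ (Over.forget T)

omit [IsZariskiLocalAtSource P] in
/-- The pushforward as the functor of the whole base change. -/
def pushPsiTop {R : CommRingCat.{u}} (a : Spec R ⟶ S) :
    BigSite.pushMod (Scheme.precoverage P) f ⋙ toMVF (Scheme.precoverage P) a ≅ psiW f a ⊤ :=
  haveI := (opToPc f a ⊤).isIso_res' (K := Scheme.precoverage P) (isIso_opToPc_top f a)
  NatIso.ofComponents (fun N => pushPsiIso f a N) (fun {N N'} φ => hom_ext fun B x => rfl) ≪≫
    asIso ((opToPc f a ⊤).res' (Scheme.precoverage P))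

variable [QuasiCompact f] [QuasiSeparated f] {M : BigSite.Mod (Scheme.precoverage P) T}
  (hM : adequateMod (Scheme.precoverage P) T M) (I : InjectiveResolution M)

/-- The presheaf homology of the pushforward of a resolution. -/
abbrev preR (i : ℕ) : PresheafOfModules.{u + 1} (BigSite.ORing (Scheme.precoverage P) S).obj :=
  (((BigSite.pushMod (Scheme.precoverage P) f ⋙ SheafOfModules.forget _ ⋙
    PresheafOfModules.restrictScalars (𝟙 (BigSite.ORing (Scheme.precoverage P) S).obj)).mapHomologicalComplex
      (ComplexShape.up ℕ)).obj I.cocomplex).homology i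

include hP hM in
theorem pr_preR {R : CommRingCat.{u}} (a : Spec R ⟶ S) {Pr : ObjectProperty (MVF R)} (hPr : SerreLike Pr)
    (hb : ∀ W : (pullback a f).Opens, IsAffineOpen W → Pr ((psiW f a W).obj M)) (i : ℕ) :
    Pr ((toMVFPre (Scheme.precoverage P) a).obj (preR f I i)) := by
  haveI : CompactSpace ↥(pullback a f) := QuasiCompact.compactSpace_of_compactSpace (pullback.fst a f)
  haveI : QuasiSeparatedSpace ↥(pullback a f) := quasiSeparatedSpace_of_quasiSeparated (pullback.fst a f)
  have h := homIn_compact hP f a I hPr (fun W hW => homIn_affine hP f a I hM hPr hW (hb W hW)) ⊤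
    (by simpa using isCompact_univ) i
  let F := BigSite.pushMod (Scheme.precoverage P) f ⋙ SheafOfModules.forget _ ⋙
    PresheafOfModules.restrictScalars (𝟙 (BigSite.ORing (Scheme.precoverage P) S).obj)
  let e : F ⋙ toMVFPre (Scheme.precoverage P) a ≅ psiW f a ⊤ :=
    NatIso.ofComponents (fun N => Iso.refl _) (fun φ => hom_ext fun B x => rfl) ≪≫ pushPsiTop f a
  let e' := ((HomologicalComplex.homologyFunctor (MVF R) (ComplexShape.up ℕ) i).mapIso
    ((NatIso.mapHomologicalComplex e (ComplexShape.up ℕ)).app I.cocomplex)).symm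
  refine hPr.iso (e' ≪≫ ?_) h
  exact ShortComplex.mapHomologyIso (((F.mapHomologicalComplex (ComplexShape.up ℕ)).obj I.cocomplex).sc i)
    (toMVFPre (Scheme.precoverage P) a)

variable [HasInjectiveResolutions (BigSite.Mod (Scheme.precoverage P) T)]

omit [IsZariskiLocalAtSource P] [QuasiCompact f] [QuasiSeparated f] in
theorem nonempty_rpush_iso (i : ℕ) :
    Nonempty ((BigSite.RpushMod (Scheme.precoverage P) f i).obj M ≅
      (PresheafOfModules.sheafification (𝟙 (BigSite.ORing (Scheme.precoverage P) S).obj)).obj (preR f I i)) := by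
  let sh := PresheafOfModules.sheafification.{u + 1} (𝟙 (BigSite.ORing (Scheme.precoverage P) S).obj)
  let adj := PresheafOfModules.sheafificationAdjunction.{u + 1} (𝟙 (BigSite.ORing (Scheme.precoverage P) S).obj)
  haveI : PreservesFiniteColimits sh :=
    ⟨fun J _ _ => (adj.leftAdjoint_preservesColimits.{0, 0}).preservesColimitsOfShape⟩
  haveI : sh.Additive := adj.left_adjoint_additive
  haveI : IsIso adj.counit := inferInstance
  let G := SheafOfModules.forget (BigSite.ORing (Scheme.precoverage P) S) ⋙
    PresheafOfModules.restrictScalars (𝟙 (BigSite.ORing (Scheme.precoverage P) S).obj)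
  let F := BigSite.pushMod (Scheme.precoverage P) f ⋙ G
  let e : F ⋙ sh ≅ BigSite.pushMod (Scheme.precoverage P) f :=
    Functor.associator _ _ _ ≪≫ Functor.isoWhiskerLeft _ (asIso adj.counit) ≪≫ Functor.rightUnitor _
  let e' := ((HomologicalComplex.homologyFunctor _ (ComplexShape.up ℕ) i).mapIso
    ((NatIso.mapHomologicalComplex e (ComplexShape.up ℕ)).app I.cocomplex)).symm
  exact ⟨I.isoRightDerivedObj (BigSite.pushMod (Scheme.precoverage P) f) i ≪≫ e' ≪≫
    ShortComplex.mapHomologyIso (((F.mapHomologicalComplex (ComplexShape.up ℕ)).obj I.cocomplex).sc i) sh⟩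

include hP hM in
theorem adequateMod_Rpush (i : ℕ) :
    adequateMod (Scheme.precoverage P) S ((BigSite.RpushMod (Scheme.precoverage P) f i).obj M) := by
  obtain ⟨I⟩ : Nonempty (InjectiveResolution M) := HasInjectiveResolution.out
  obtain ⟨e⟩ := nonempty_rpush_iso f I i
  refine (adequateMod (Scheme.precoverage P) S).prop_of_iso e.symm
    (adequateMod_sheafification hP _ fun R a => ?_)
  exact pr_preR hP f hM I a serreLike_adequate (fun W hW => adequate_psiW hP f a hW M hM) i

end Groth.Agent.Adeq88
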