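import Groth.Agent.Adeq88.MV

/-!
The base case of the induction: affine opens.
-/

set_option autoImplicit false
set_option maxHeartbeats 1000000
set_option linter.style.haveILetI false
set_option backward.isDefEq.respectTransparency false
set_option backward.isDefEq.respectTransparency.types false

universe u

open CategoryTheory Limits Opposite AlgebraicGeometry TensorProduct

noncomputable section

namespace Groth.Agent.Adeq88

open Adeq

variable {P : MorphismProperty Scheme.{u}} (hP : GoodProp P) [BigSite.OSh (Scheme.precoverage P)]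
  {S T : Scheme.{u}} (f : T ⟶ S) {R : CommRingCat.{u}} (a : Spec R ⟶ S)

/-- The piece of an affine open. -/
def affPiece {W : (pullback a f).Opens} (hW : IsAffineOpen W) : Piece f a :=
  ⟨Γ(pullback a f, W), hW.fromSpec, inferInstance⟩

theorem opU_eq_range {W : (pullback a f).Opens} (hW : IsAffineOpen W) (B : Alg R) :
    opU f a W B = (cmp (affPiece f a hW) B).left.opensRange := by
  ext x
  show pcMap f a B x ∈ W ↔ x ∈ Set.range (cmp (affPiece f a hW) B).left
  rw [mem_range_cmp_iff]
  show _ ↔ _ ∈ Set.range hW.fromSpec
  rw [hW.range_fromSpec]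
  rfl

theorem isAffine_opObj {W : (pullback a f).Opens} (hW : IsAffineOpen W) (B : Alg R) :
    IsAffine (opObj f a W B).left := by
  show IsAffineOpen (opU f a W B)
  rw [opU_eq_range f a hW]
  haveI : IsAffine (cObj (affPiece f a hW) B).left := inferInstanceAs (IsAffine (Spec _))
  exact isAffineOpen_opensRange _

/-- The comparison of the piece with the object of an affine open. -/
def pieceIncl {W : (pullback a f).Opens} (hW : IsAffineOpen W) (B : Alg R) :
    cObj (affPiece f a hW) B ⟶ opObj f a W B :=
  Over.homMk (IsOpenImmersion.lift (opU f a W B).ι (cmp (affPiece f a hW) B).left (by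
    rintro _ ⟨x, rfl⟩
    have hx : (cmp (affPiece f a hW) B).left x ∈ opU f a W B := by
      rw [opU_eq_range f a hW]; exact ⟨x, rfl⟩
    exact ⟨⟨_, hx⟩, rfl⟩)) (by
    show _ ≫ (opU f a W B).ι ≫ _ = _
    rw [← Category.assoc, IsOpenImmersion.lift_fac, Over.w])

theorem pieceIncl_inc {W : (pullback a f).Opens} (hW : IsAffineOpen W) (B : Alg R) :
    pieceIncl f a hW B ≫ opInc f a W B = cmp (affPiece f a hW) B :=
  Over.OverMorphism.ext (IsOpenImmersion.lift_fac _ _ _)

theorem isIso_pieceIncl {W : (pullback a f).Opens} (hW : IsAffineOpen W) (B : Alg R) :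
    IsIso (pieceIncl f a hW B) := by
  haveI : IsIso ((Over.forget T).map (pieceIncl f a hW B)) := by
    have hr : Set.range (opU f a W B).ι ⊆ Set.range (cmp (affPiece f a hW) B).left := by
      rintro _ ⟨⟨y, hy⟩, rfl⟩
      rw [opU_eq_range f a hW] at hy
      exact hy
    refine ⟨IsOpenImmersion.lift _ (opU f a W B).ι hr, ?_, ?_⟩
    · rw [← cancel_mono (cmp (affPiece f a hW) B).left, Category.assoc, IsOpenImmersion.lift_fac, Category.id_comp]
      exact IsOpenImmersion.lift_fac _ _ _
    · rw [← cancel_mono (opU f a W B).ι, Category.assoc, Category.id_comp]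
      exact (congrArg (_ ≫ ·) (IsOpenImmersion.lift_fac _ _ _)).trans (IsOpenImmersion.lift_fac _ _ _)
  exact isIso_of_reflects_iso _ (Over.forget T)

/-- The functor of an affine open is the functor of its piece. -/
def toPieceHom {W : (pullback a f).Opens} (hW : IsAffineOpen W) (M : BigSite.Mod (Scheme.precoverage P) T) :
    (psiW f a W).obj M ⟶ compF M (affPiece f a hW) where
  app X := by
    let l : Val ((psiW f a W).obj M) X.unop.unop →ₗ[X.unop.unop] Val (compF M (affPiece f a hW)) X.unop.unop :=
      { toFun := fun x => (compVal M (affPiece f a hW) X.unop.unop).symm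
          (sres M.val (pieceIncl f a hW X.unop.unop) ((opF f a W).oval M X.unop.unop x))
        map_add' := fun x y => by rw [map_add, map_add, map_add]
        map_smul' := fun c x => by
          apply (compVal M (affPiece f a hW) X.unop.unop).injective
          show sres M.val (pieceIncl f a hW X.unop.unop)
              ((opF f a W).ρ (K := Scheme.precoverage P) X.unop.unop c • (opF f a W).oval M X.unop.unop x) =
            toSect (Scheme.precoverage P) (affPiece f a hW).b
              (bA (R : Type u) ((affPiece f a hW).A : Type u) X.unop.unop) ((1 : (affPiece f a hW).A) ⊗ₜ[R] c) •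
              sres M.val (pieceIncl f a hW X.unop.unop) ((opF f a W).oval M X.unop.unop x)
          refine (M.val.map_smul (pieceIncl f a hW X.unop.unop).op _ _).trans ?_
          congr 1
          apply ULift.ext
          change ((Scheme.ΓSpecIso (CommRingCat.of X.unop.unop)).inv ≫ ((opF f a W).π X.unop.unop).appTop ≫
              (pieceIncl f a hW X.unop.unop).left.appTop) c =
            (incR (affPiece f a hW) X.unop.unop ≫ (Scheme.ΓSpecIso _).inv) c
          rw [← Scheme.Hom.comp_appTop, Scheme.ΓSpecIso_inv_naturality (incR (affPiece f a hW) X.unop.unop),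
            ← cmp_fst, ← pieceIncl_inc f a hW]
          rfl }
    let m := ModuleCat.ofHom l
    exact m
  naturality {X Y} g := by
    ext x
    show sres M.val (pieceIncl f a hW Y.unop.unop) (sres M.val (opMap f a W g.unop.unop) ((opF f a W).oval M X.unop.unop x)) =
      sres M.val ((specOver (affPiece f a hW).b).map ((Alg.baseChange (R : Type u) ((affPiece f a hW).A : Type u)).map g.unop.unop).op)
        (sres M.val (pieceIncl f a hW X.unop.unop) ((opF f a W).oval M X.unop.unop x))
    rw [← sres_comp, ← sres_comp]
    refine congrArg (fun k => sres M.val k ((opF f a W).oval M X.unop.unop x)) ?_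
    apply opInc_cancel
    rw [Category.assoc, opMap_inc, ← Category.assoc, pieceIncl_inc, Category.assoc, pieceIncl_inc, cmp_natural]

theorem isIso_toPieceHom {W : (pullback a f).Opens} (hW : IsAffineOpen W)
    (M : BigSite.Mod (Scheme.precoverage P) T) : IsIso (toPieceHom f a hW M) :=
  isIso_of_bijective _ fun B =>
    haveI := isIso_pieceIncl f a hW B
    sres_bijective_of_iso M.val (asIso (pieceIncl f a hW B))

include hP in
theorem adequate_psiW {W : (pullback a f).Opens} (hW : IsAffineOpen W) (M : BigSite.Mod (Scheme.precoverage P) T)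
    (hM : adequateMod (Scheme.precoverage P) T M) : adequate R ((psiW f a W).obj M) := by
  haveI := isIso_toPieceHom f a hW M
  exact (adequate (R : Type u)).prop_of_iso (asIso (toPieceHom f a hW M)).symm
    (adequate_push (R : Type u) _ (adequate_affine hP M hM _))

variable {M : BigSite.Mod (Scheme.precoverage P) T} (I : InjectiveResolution M)

theorem psiW_leftExact (W : (pullback a f).Opens) {C : ShortComplex (BigSite.Mod (Scheme.precoverage P) T)}
    (hC : C.Exact) [Mono C.f] : (C.map (psiW f a W)).Exact ∧ Mono ((psiW f a W).map C.f) :=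
  ⟨exact_of_elem _ fun B y hy => (sect_leftExact hC (opObj f a W B)).2 y hy,
    (mono_iff _).2 fun B => (sect_leftExact hC (opObj f a W B)).1⟩

include hP in
theorem homIn_affine [IsZariskiLocalAtSource P] (hM : adequateMod (Scheme.precoverage P) T M)
    {Pr : ObjectProperty (MVF R)} (hPr : SerreLike Pr) {W : (pullback a f).Opens} (hW : IsAffineOpen W)
    (hb : Pr ((psiW f a W).obj M)) : HomIn Pr (secK f a I W) := by
  rintro (_ | i)
  · have h₀ := psiW_leftExact f a W (C := ShortComplex.mk _ _ I.ι_f_zero_comp_complex_d) I.exact₀
    haveI := h₀.2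
    haveI : Mono ((ShortComplex.mk _ _ I.ι_f_zero_comp_complex_d).map (psiW f a W)).f := h₀.2
    let hk := h₀.1.fIsKernel
    let hc := (secK f a I W).cyclesIsKernel 0 1 (by simp)
    let e₁ : (psiW f a W).obj M ≅ (secK f a I W).cycles 0 := IsLimit.conePointUniqueUpToIso hk hc
    exact hPr.iso (e₁ ≪≫ (secK f a I W).isoHomologyπ₀) hb
  · refine hPr.zero _ ((HomologicalComplex.exactAt_iff_isZero_homology _ _).1 ?_)
    rw [(secK f a I W).exactAt_iff' i (i + 1) (i + 1 + 1) (by simp) (by simp)]
    refine exact_of_elem _ fun B y hy => ?_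
    haveI := isAffine_opObj f a hW B
    exact exists_preimage_succ hP I hM i (opObj f a W B) ((opF f a W).oval _ B y) hy

end Groth.Agent.Adeq88
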