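import Groth.Agent.Adeq88.Rpush

/-!
Higher direct images of parasitic adequate modules are parasitic.
-/

set_option autoImplicit false
set_option maxHeartbeats 1000000
set_option linter.style.haveILetI false
set_option backward.isDefEq.respectTransparency false
set_option backward.isDefEq.respectTransparency.types false

universe u

open CategoryTheory Limits Opposite AlgebraicGeometry

noncomputable section

namespace Groth.Agent.Adeq88

open Adeq

/-- Adequate functors without values at the base ring. -/
def adequateZero (A : Type u) [CommRing A] : ObjectProperty (MVF A) :=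
  fun F => adequate A F ∧ ∀ x : Val F (algOf A A), x = 0

theorem serreLike_adequateZero (A : Type u) [CommRing A] : SerreLike (adequateZero A) where
  iso e h := ⟨(adequate A).prop_of_iso e h.1, fun x => by
    rw [← ap_id _ _ x, ← e.inv_hom_id, ap_comp, h.2 (ap e.inv (algOf A A) x), map_zero]⟩
  zero F h := ⟨serreLike_adequate.zero F h, fun x => by
    rw [← ap_id _ _ x, (IsZero.iff_id_eq_zero F).1 h, ap_zero]⟩
  ker φ hF hG := ⟨adequate_kernel φ hF.1 hG.1, fun x =>
    kernel_ι_inj φ _ ((hF.2 _).trans (map_zero _).symm)⟩
  coker φ hF hG := ⟨adequate_cokernel φ hF.1 hG.1, fun x => by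
    obtain ⟨y, rfl⟩ := cokernel_π_surjective φ _ x
    rw [hG.2 y, map_zero]⟩
  ext {C} hS h₁ h₃ := ⟨adequate_of_shortExact hS h₁.1 h₃.1, fun y => by
    obtain ⟨x, rfl⟩ := elem_of_exact hS.exact _ y (h₃.2 _)
    rw [h₁.2 x, map_zero]⟩

variable {P : MorphismProperty Scheme.{u}} (hP : GoodProp P) [BigSite.OSh (Scheme.precoverage P)]
  [IsZariskiLocalAtSource P] {S T : Scheme.{u}} (f : T ⟶ S)
  {M : BigSite.Mod (Scheme.precoverage P) T}

omit [IsZariskiLocalAtSource P] in
include hP in
theorem adequateZero_psiW (hM : adequateMod (Scheme.precoverage P) T M)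
    (hpar : parasitic (Scheme.precoverage P) T M) {R : CommRingCat.{u}} (a : Spec R ⟶ S) [Flat a]
    {W : (pullback a f).Opens} (hW : IsAffineOpen W) : adequateZero R ((psiW f a W).obj M) := by
  refine ⟨adequate_psiW hP f a hW M hM, fun x => ((opF f a W).oval M _).injective ?_⟩
  let B := algOf (R : Type u) (R : Type u)
  haveI : Flat ((specOver a).obj (op B)).hom := by
    rw [← Over.w (selfIso a).hom]
    show Flat (𝟙 _ ≫ a)
    rw [Category.id_comp]
    infer_instance
  haveI : Flat (pcObj f a B).hom :=
    inferInstanceAs (Flat (pullback.snd ((specOver a).obj (op B)).hom f))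
  have : Flat (opObj f a W B).hom :=
    inferInstanceAs (Flat ((opU f a W B).ι ≫ (pcObj f a B).hom))
  exact (hpar _ this).elim _ _

variable [QuasiCompact f] [QuasiSeparated f] [HasInjectiveResolutions (BigSite.Mod (Scheme.precoverage P) T)]

include hP in
theorem parasitic_Rpush (hM : adequateMod (Scheme.precoverage P) T M)
    (hpar : parasitic (Scheme.precoverage P) T M) (i : ℕ) :
    parasitic (Scheme.precoverage P) S ((BigSite.RpushMod (Scheme.precoverage P) f i).obj M) := by
  obtain ⟨I⟩ : Nonempty (InjectiveResolution M) := HasInjectiveResolution.out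
  obtain ⟨e⟩ := nonempty_rpush_iso f I i
  have hQ : ∀ (R : CommRingCat.{u}) (a : Spec R ⟶ S),
      adequate R ((toMVFPre (Scheme.precoverage P) a).obj (preR f I i)) := fun R a =>
    pr_preR hP f hM I a serreLike_adequate (fun W hW => adequate_psiW hP f a hW M hM) i
  let M' : BigSite.Mod (Scheme.precoverage P) S :=
    (PresheafOfModules.sheafification (𝟙 (BigSite.ORing (Scheme.precoverage P) S).obj)).obj (preR f I i)
  let η : (preR f I i).presheaf ⟶ M'.val.presheaf :=
    CategoryTheory.toSheafify (QuotSh.J (Scheme.precoverage P) S) (preR f I i).presheaf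
  have : Presheaf.IsLocallyInjective (QuotSh.J (Scheme.precoverage P) S) η :=
    ((QuotSh.J (Scheme.precoverage P) S).W_toSheafify _).isLocallyInjective
  have : Presheaf.IsLocallySurjective (QuotSh.J (Scheme.precoverage P) S) η :=
    ((QuotSh.J (Scheme.precoverage P) S).W_toSheafify _).isLocallySurjective
  have hM' : parasitic (Scheme.precoverage P) S M' := by
    refine parasitic_of_affineCover hP M' (adequateMod_sheafification hP _ hQ) (fun V : S.affineOpens => V.1)
      (fun V => V.2) (iSup_affineOpens_eq_top S) fun V z => ?_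
    obtain ⟨x, rfl⟩ := app_surjective hP _ hQ V.2.fromSpec M' η z
    have h0 := (pr_preR hP f hM I V.2.fromSpec (serreLike_adequateZero _)
      (fun W hW => adequateZero_psiW hP f hM hpar V.2.fromSpec hW) i).2 (toVal (preR f I i) V.2.fromSpec x)
    rw [toVal_injective _ _ (h0.trans (map_zero _).symm)]
    exact map_zero _
  intro U hU
  have hb : Function.Injective (e.hom.val.app (op U)) := fun x y h => by
    have := congrArg (e.inv.val.app (op U)) h
    have hid := fun z => congrArg (fun k : (BigSite.RpushMod (Scheme.precoverage P) f i).obj M ⟶ _ => k.val.app (op U) z)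
      e.hom_inv_id
    exact ((hid x).symm.trans this).trans (hid y)
  haveI := hM' U hU
  exact hb.subsingleton

end Groth.Agent.Adeq88
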