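import Groth.Agent.Adeq88.Pull
import Groth.Agent.QC70.ToSheaf
import Mathlib.CategoryTheory.Sites.EpiMono

/-!
Left exactness of sections, local surjectivity, parasitic adequate modules.
-/

set_option autoImplicit false

universe u

open CategoryTheory Limits Opposite AlgebraicGeometry

noncomputable section

namespace Groth.Agent.Adeq88

open Adeq

section Exact

variable {K : Precoverage Scheme.{u}} [BigSite.OSh K] {S : Scheme.{u}}

theorem sect_leftExact {C : ShortComplex (BigSite.Mod K S)} (hC : C.Exact) [Mono C.f] (U : Over S) :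
    Function.Injective (C.f.val.app (op U)) ∧
      ∀ y, C.g.val.app (op U) y = 0 → y ∈ Set.range (C.f.val.app (op U)) := by
  let ev := SheafOfModules.evaluation.{u + 1} (BigSite.ORing K S) (op U)
  have : (PresheafOfModules.evaluation.{u + 1} (BigSite.ORing K S).obj (op U)).Additive :=
    PresheafOfModules.instAdditiveModuleCatCarrierObjOppositeRingCatEvaluation
      (R := (BigSite.ORing K S).obj) (op U)
  have : ev.Additive := inferInstanceAs (SheafOfModules.forget _ ⋙
    PresheafOfModules.evaluation.{u + 1} (BigSite.ORing K S).obj (op U)).Additive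
  have : PreservesFiniteLimits ev := SheafOfModules.Finite.evaluationPreservesFiniteLimits _ _
  have hm : Mono (ev.map C.f) := inferInstance
  exact ⟨(ModuleCat.mono_iff_injective _).1 hm,
    (ShortComplex.moduleCat_exact_iff _).1 (hC.map_of_mono_of_preservesKernel ev inferInstance inferInstance)⟩

theorem adequate_of_leftExact {C : ShortComplex (BigSite.Mod K S)} (hC : C.Exact) [Mono C.f]
    {R : CommRingCat.{u}} (a : Spec R ⟶ S) (h₂ : adequate R ((toMVF K a).obj C.X₂))
    (h₃ : adequate R ((toMVF K a).obj C.X₃)) : adequate R ((toMVF K a).obj C.X₁) := by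
  let i : (toMVF K a).obj C.X₁ ⟶ (toMVF K a).obj C.X₂ := (toMVF K a).map C.f
  let q : (toMVF K a).obj C.X₂ ⟶ (toMVF K a).obj C.X₃ := (toMVF K a).map C.g
  have w : i ≫ q = 0 := by
    rw [← Functor.map_comp, C.zero, Functor.map_zero]
  let m : (toMVF K a).obj C.X₁ ⟶ kernel q := kernel.lift q i w
  have hm : ∀ B x, ap (kernel.ι q) B (ap m B x) = ap i B x := fun B x => by
    rw [← ap_comp, kernel.lift_ι]
  have : IsIso m := isIso_of_bijective m fun B =>
    ⟨fun x y h => (sect_leftExact hC _).1 (((hm B x).symm.trans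
        (congrArg (ap (kernel.ι q) B) h)).trans (hm B y)),
      fun y => by
        obtain ⟨x, hx⟩ := (sect_leftExact hC _).2 (ap (kernel.ι q) B y) (kernel_ι_comp q B y)
        exact ⟨x, kernel_ι_inj q B ((hm B x).trans hx)⟩⟩
  exact (adequate (R : Type u)).prop_of_iso (asIso m).symm (adequate_kernel q h₂ h₃)

end Exact

variable {P : MorphismProperty Scheme.{u}} (hP : GoodProp P)
  [BigSite.OSh (Scheme.precoverage P)] {S : Scheme.{u}}

include hP in
theorem adequateMod_kernel {M N : BigSite.Mod (Scheme.precoverage P) S} (φ : M ⟶ N)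
    (hM : adequateMod (Scheme.precoverage P) S M) (hN : adequateMod (Scheme.precoverage P) S N) :
    adequateMod (Scheme.precoverage P) S (kernel φ) := by
  refine adequateMod_of_affine hP _ fun R a => ?_
  let C := ShortComplex.mk (kernel.ι φ) φ (kernel.condition φ)
  have : Mono C.f := inferInstanceAs (Mono (kernel.ι φ))
  exact adequate_of_leftExact (ShortComplex.exact_of_f_is_kernel C (kernelIsKernel φ)) a
    (adequate_affine hP M hM a) (adequate_affine hP N hN a)

include hP in
/-- A covering sieve of an object of the big site contains a covering family. -/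
theorem exists_cover_of_mem {U : Over S} {R : Sieve U}
    (hR : R ∈ QuotSh.J (Scheme.precoverage P) S U) :
    ∃ (ι : Type u) (V : ι → Over S) (g : ∀ i, V i ⟶ U),
      (∀ i, P (g i).left) ∧ (∀ x, ∃ i, x ∈ Set.range (g i).left) ∧ ∀ i, R (g i) := by
  have := hP.baseChange
  have : P.IsStableUnderComposition := ⟨fun {X Y Z} f g => hP.comp f g⟩
  have : P.ContainsIdentities := ⟨fun X => hP.openImm _ inferInstance⟩
  have : P.IsMultiplicative := {}
  rw [GrothendieckTopology.mem_over_iff] at hR
  obtain ⟨𝒰, hle⟩ := (Scheme.mem_grothendieckTopology_iff (P := P)).1 hR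
  obtain ⟨hs, hp⟩ := (Scheme.ofArrows_mem_precoverage_iff _).1 𝒰.mem₀
  exact ⟨𝒰.I₀, fun i => Over.mk (𝒰.f i ≫ U.hom), fun i => Over.homMk (𝒰.f i) rfl, hp, hs,
    fun i => (Sieve.overEquiv_iff R (𝒰.f i)).1 (hle _ _ (Presieve.ofArrows.mk i))⟩

theorem eq_zero_of_family (M : BigSite.Mod (Scheme.precoverage P) S) {U : Over S} {ι : Type u}
    {V : ι → Over S} (g : ∀ i, V i ⟶ U) (hp : ∀ i, P (g i).left)
    (hs : ∀ x, ∃ i, x ∈ Set.range (g i).left) (x : M.val.obj (op U))
    (h : ∀ i, sres M.val (g i) x = 0) : x = 0 := by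
  have hmem : Sieve.ofArrows V g ∈ QuotSh.J (Scheme.precoverage P) S U := by
    rw [GrothendieckTopology.mem_over_iff, Sieve.overEquiv_ofArrows]
    exact Precoverage.generate_mem_toGrothendieck
      ((Scheme.ofArrows_mem_precoverage_iff _).2 ⟨hs, hp⟩)
  have hsh := (Presheaf.isSheaf_iff_isSheaf_forget _ _ (CategoryTheory.forget Ab.{u + 1})).1 M.isSheaf
  rw [isSheaf_iff_isSheaf_of_type] at hsh
  refine (hsh _ hmem).isSeparatedFor.ext fun W f hf => ?_
  obtain ⟨Z, k, _, ⟨i⟩, rfl⟩ := hf
  show sres M.val (k ≫ g i) x = sres M.val (k ≫ g i) 0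
  rw [sres_comp, h, map_zero, map_zero]

theorem subsingleton_of_flat_algebra {R : CommRingCat.{u}} {F : MVF R} (hF : adequate R F)
    (h : ∀ x : Val F (algOf R R), x = 0) (B : Alg R) [Module.Flat R B] (y : Val F B) : y = 0 := by
  obtain ⟨p⟩ := adequate_iff.1 hF
  let f : algOf (R : Type u) (R : Type u) ⟶ B := CommAlgCat.ofHom (Algebra.ofId (R : Type u) B)
  let : Algebra (algOf (R : Type u) (R : Type u)) B := inferInstanceAs (Algebra (R : Type u) B)
  have : Module.Flat (algOf (R : Type u) (R : Type u)) B :=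
    inferInstanceAs (Module.Flat (R : Type u) B)
  obtain ⟨z, rfl⟩ := (bcT_bijective f (fun _ => rfl) p).2 y
  induction z using TensorProduct.induction_on with
  | zero => exact map_zero _
  | tmul b x => rw [h x, TensorProduct.tmul_zero, map_zero]
  | add x y hx hy => rw [map_add, hx, hy, add_zero]

/-- The affine object attached to a morphism from an affine scheme. -/
def selfIso {R : CommRingCat.{u}} (a : Spec R ⟶ S) :
    (specOver a).obj (op (algOf (R : Type u) (R : Type u))) ≅ Over.mk a :=
  Over.isoMk (Iso.refl _) (by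
    show 𝟙 _ ≫ a = Spec.map (CommRingCat.ofHom (algebraMap R R)) ≫ a
    rw [Algebra.algebraMap_self, show CommRingCat.ofHom (RingHom.id (R : Type u)) = 𝟙 R from rfl]
    erw [Spec.map_id]
    simp)

include hP in
theorem parasitic_of_affineCover (M : BigSite.Mod (Scheme.precoverage P) S)
    (hM : adequateMod (Scheme.precoverage P) S M) {ι : Type u} (W : ι → S.Opens)
    (hW : ∀ i, IsAffineOpen (W i)) (htop : (⨆ i, W i) = ⊤)
    (hzero : ∀ i, ∀ x : M.val.obj (op (Over.mk (hW i).fromSpec)), x = 0) :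
    parasitic (Scheme.precoverage P) S M := by
  intro U hU
  refine subsingleton_of_forall_eq 0 fun x => ?_
  have hcov : ∀ z : U.left, ∃ (i : ι) (V : U.left.Opens), IsAffineOpen V ∧ z ∈ V ∧
      V ≤ U.hom ⁻¹ᵁ W i := by
    intro z
    obtain ⟨i, hi⟩ : ∃ i, U.hom z ∈ W i :=
      TopologicalSpace.Opens.mem_iSup.1 (htop.symm ▸ trivial)
    obtain ⟨V, hV, hzV, hle⟩ :=
      exists_isAffineOpen_mem_and_subset (U := U.hom ⁻¹ᵁ W i) (x := z) hi
    exact ⟨i, V, hV, hzV, hle⟩
  choose i V hV hzV hle using hcov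
  refine eq_zero_of_family M (V := fun z => Over.mk ((hV z).fromSpec ≫ U.hom))
    (fun z => Over.homMk (hV z).fromSpec rfl) (fun z => hP.openImm (hV z).fromSpec inferInstance)
    (fun z => ⟨z, by
      show z ∈ Set.range (hV z).fromSpec
      rw [(hV z).range_fromSpec]; exact hzV z⟩) x fun z => ?_
  let R := Γ(S, W (i z))
  let R' := Γ(U.left, V z)
  let ρ : R ⟶ R' := U.hom.appLE (W (i z)) (V z) (hle z)
  have hfac : Spec.map ρ ≫ (hW (i z)).fromSpec = (hV z).fromSpec ≫ U.hom :=
    IsAffineOpen.SpecMap_appLE_fromSpec U.hom _ (hV z) (hle z)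
  have : Flat U.hom := hU
  let : Algebra R R' := ρ.hom.toAlgebra
  have : Module.Flat R R' :=
    HasRingHomProperty.appLE (P := @Flat) U.hom ‹_› ⟨_, hW (i z)⟩ ⟨_, hV z⟩ (hle z)
  let a := (hW (i z)).fromSpec
  let e : Over.mk ((hV z).fromSpec ≫ U.hom) ≅ (specOver a).obj (op (algOf (R : Type u) (R' : Type u))) :=
    Over.isoMk (Iso.refl _) (by
      show 𝟙 _ ≫ Spec.map (CommRingCat.ofHom (algebraMap R R')) ≫ a = (hV z).fromSpec ≫ U.hom
      rw [Category.id_comp, ← hfac]
      rfl)
  obtain ⟨y, hy⟩ := (sres_bijective_of_iso M.val e).2 (sres M.val (Over.homMk (hV z).fromSpec rfl) x)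
  have hy0 : (mval M.val a _).symm y = 0 :=
    subsingleton_of_flat_algebra (adequate_affine hP M hM a)
      (fun w => (mval M.val a _).map_eq_zero_iff.1
        ((sres_bijective_of_iso M.val (selfIso a).symm).1 ((hzero _ _).trans (map_zero _).symm)))
      (algOf (R : Type u) (R' : Type u)) _
  rw [← hy, (mval M.val a _).symm.map_eq_zero_iff.1 hy0, map_zero]

include hP in
theorem parasitic_of_exact {C : ShortComplex (BigSite.Mod (Scheme.precoverage P) S)} (hC : C.Exact)
    (h₂ : adequateMod (Scheme.precoverage P) S C.X₂)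
    (p₁ : parasitic (Scheme.precoverage P) S C.X₁) (p₃ : parasitic (Scheme.precoverage P) S C.X₃) :
    parasitic (Scheme.precoverage P) S C.X₂ := by
  intro U hU
  refine subsingleton_of_forall_eq 0 fun x => ?_
  have hx : C.g.val.app (op U) x = 0 := (p₃ U hU).elim _ _
  let K₂ := kernel C.g
  let f' : C.X₁ ⟶ K₂ := kernel.lift C.g C.f C.zero
  have hepi : Epi f' := hC.epi_kernelLift
  let C' := ShortComplex.mk (kernel.ι C.g) C.g (kernel.condition C.g)
  have : Mono C'.f := inferInstanceAs (Mono (kernel.ι C.g))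
  obtain ⟨y, hy⟩ := (sect_leftExact (ShortComplex.exact_of_f_is_kernel C' (kernelIsKernel C.g)) U).2 x hx
  let F := (SheafOfModules.toSheaf _).map f'
  have : Epi F := inferInstanceAs (Epi ((SheafOfModules.toSheaf _).map f'))
  have hls : Sheaf.IsLocallySurjective F := (Sheaf.isLocallySurjective_iff_epi' AddCommGrpCat.{u + 1} F).2 inferInstance
  obtain ⟨ι, V, g, hp, hs, hR⟩ := exists_cover_of_mem hP (Presheaf.imageSieve_mem _ F.hom (U := op U) y)
  refine eq_zero_of_family C.X₂ g hp hs x fun i => ?_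
  obtain ⟨t, ht⟩ := hR i
  have hV : Flat (V i).hom := by
    have := hP.flat _ (hp i)
    have : Flat U.hom := hU
    rw [← Over.w (g i)]
    infer_instance
  have ht' : f'.val.app (op (V i)) t = sres K₂.val (g i) y := ht
  have hz : sres K₂.val (g i) y = 0 := by
    rw [← ht', (p₁ (V i) hV).elim t 0]
    exact map_zero (f'.val.app (op (V i))).hom
  rw [← hy]
  exact ((PresheafOfModules.naturality_apply C'.f.val (g i).op y).symm.trans
    (congrArg (C'.f.val.app (op (V i))) hz)).trans (map_zero (C'.f.val.app (op (V i))).hom)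

end Groth.Agent.Adeq88
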