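import Groth.Agent.Adeq88.Over
import Groth.Agent.Adeq88.Descent
import Mathlib.AlgebraicGeometry.Morphisms.UniversallyOpen
import Mathlib.RingTheory.Flat.FaithfullyFlat.Algebra

/-!
Affine refinements of coverings and the sheaf condition over affine schemes.
-/

set_option autoImplicit false

universe u

open CategoryTheory Limits Opposite AlgebraicGeometry TensorProduct

noncomputable section

namespace Groth.Agent.Adeq88

open Adeq

/-- The properties of morphisms needed to refine coverings by affine ones. -/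
structure GoodProp (P : MorphismProperty Scheme.{u}) : Prop where
  comp : ∀ {X Y Z : Scheme.{u}} (f : X ⟶ Y) (g : Y ⟶ Z), P f → P g → P (f ≫ g)
  baseChange : P.IsStableUnderBaseChange
  openImm : ∀ {X Y : Scheme.{u}} (f : X ⟶ Y), IsOpenImmersion f → P f
  isOpen : ∀ {X Y : Scheme.{u}} (f : X ⟶ Y), P f → IsOpen (Set.range f)
  flat : ∀ {X Y : Scheme.{u}} (f : X ⟶ Y), P f → Flat f

theorem goodProp_fppf : GoodProp.{u} (@Flat ⊓ @LocallyOfFinitePresentation) where
  comp f g hf hg := by
    have := hf.1; have := hf.2; have := hg.1; have := hg.2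
    exact ⟨inferInstance, inferInstance⟩
  baseChange := inferInstance
  openImm f _ := ⟨inferInstance, inferInstance⟩
  isOpen f hf := by
    have := hf.1; have := hf.2
    exact f.isOpenMap.isOpen_range
  flat f hf := hf.1

theorem goodProp_openImm : GoodProp.{u} @IsOpenImmersion where
  comp f g hf hg := by
    have : IsOpenImmersion f := hf; have : IsOpenImmersion g := hg
    exact (inferInstance : IsOpenImmersion (f ≫ g))
  baseChange := inferInstance
  openImm f h := h
  isOpen f hf := by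
    have : IsOpenImmersion f := hf
    exact f.isOpenEmbedding.isOpen_range
  flat f hf := by
    have : IsOpenImmersion f := hf
    infer_instance

variable {P : MorphismProperty Scheme.{u}}

/-- An affine refinement of a covering over an affine scheme. -/
structure Refinement (P : MorphismProperty Scheme.{u}) {S : Scheme.{u}} {ι : Type u}
    {T : ι → Scheme.{u}} (f : ∀ i, T i ⟶ S) {R : CommRingCat.{u}} (a : Spec R ⟶ S) where
  /-- The index type. -/
  σ : Type
  /-- Finiteness of the index type. -/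
  fin : Fintype σ
  /-- The affine pieces. -/
  R' : σ → CommRingCat.{u}
  /-- The maps to the affine scheme. -/
  g : ∀ k, Spec (R' k) ⟶ Spec R
  prop : ∀ k, P (g k)
  surj : ∀ x, ∃ k, x ∈ Set.range (g k)
  /-- The member of the covering. -/
  idx : σ → ι
  /-- The factorisation. -/
  lift : ∀ k, Spec (R' k) ⟶ T (idx k)
  fac : ∀ k, lift k ≫ f (idx k) = g k ≫ a

theorem GoodProp.exists_refinement (hP : GoodProp P) {S : Scheme.{u}} {ι : Type u}
    {T : ι → Scheme.{u}} (f : ∀ i, T i ⟶ S) (hf : ∀ i, P (f i))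
    (hs : ∀ x, ∃ i, x ∈ Set.range (f i)) {R : CommRingCat.{u}} (a : Spec R ⟶ S) :
    Nonempty (Refinement P f a) := by
  classical
  have := hP.baseChange
  let X : ι → Scheme.{u} := fun i => pullback a (f i)
  let g₀ : ∀ i, X i ⟶ Spec R := fun i => pullback.fst _ _
  have hg₀ : ∀ i, P (g₀ i) := fun i => MorphismProperty.pullback_fst _ _ (hf i)
  have hcov : ∀ x : Spec R, ∃ (i : ι) (W : (X i).Opens), IsAffineOpen W ∧ ∃ y ∈ W, g₀ i y = x := by
    intro x
    obtain ⟨i, y, hy⟩ := hs (a x)
    obtain ⟨z, hz, -⟩ := Scheme.Pullback.exists_preimage_pullback x y hy.symm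
    obtain ⟨W, hW, hzW, -⟩ := exists_isAffineOpen_mem_and_subset (U := (⊤ : (X i).Opens)) (x := z) trivial
    exact ⟨i, W, hW, z, hzW, hz⟩
  choose i W hW y hyW hy using hcov
  let gx : ∀ x : Spec R, Spec Γ(X (i x), W x) ⟶ Spec R := fun x => (hW x).fromSpec ≫ g₀ (i x)
  have hgx : ∀ x, P (gx x) := fun x => hP.comp _ _ (hP.openImm _ inferInstance) (hg₀ (i x))
  have hmem : ∀ x, x ∈ Set.range (gx x) := fun x => by
    have : y x ∈ Set.range (hW x).fromSpec := by
      rw [(hW x).range_fromSpec]; exact hyW x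
    obtain ⟨z, hz⟩ := this
    exact ⟨z, by rw [Scheme.Hom.comp_apply, hz, hy]⟩
  obtain ⟨s, hs'⟩ := isCompact_univ.elim_finite_subcover (fun x => Set.range (gx x))
    (fun x => hP.isOpen _ (hgx x)) fun x _ => Set.mem_iUnion.2 ⟨x, hmem x⟩
  let e := s.equivFin.symm
  refine ⟨{ σ := Fin s.card, fin := inferInstance, R' := fun k => Γ(X (i (e k).1), W (e k).1),
            g := fun k => gx (e k).1, prop := fun k => hgx _, surj := fun x => ?_,
            idx := fun k => i (e k).1,
            lift := fun k => (hW (e k).1).fromSpec ≫ pullback.snd _ _, fac := fun k => ?_ }⟩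
  · obtain ⟨x', hx', hxx'⟩ := Set.mem_iUnion₂.1 (hs' (Set.mem_univ x))
    obtain ⟨k, hk⟩ := e.surjective ⟨x', hx'⟩
    refine ⟨k, ?_⟩
    show x ∈ Set.range (gx (e k).1)
    rw [hk]
    exact hxx'
  · show _ = ((hW _).fromSpec ≫ g₀ _) ≫ a
    rw [Category.assoc, Category.assoc, ← pullback.condition]

section Cover

variable {R : CommRingCat.{u}} {σ : Type} (R' : σ → CommRingCat.{u}) [∀ k, Algebra R (R' k)]

/-- The structure maps of an affine family. -/
abbrev gmap (k : σ) : Spec (R' k) ⟶ Spec R := Spec.map (CommRingCat.ofHom (algebraMap R (R' k)))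

variable (hP : GoodProp P) (hg : ∀ k, P (gmap (R := R) R' k))
  (hgs : ∀ x, ∃ k, x ∈ Set.range (gmap (R := R) R' k))

/-- The base change of an affine family. -/
abbrev bcAlg (k : σ) (B : Alg R) : Alg R :=
  rA (R : Type u) (R' k : Type u) (bA (R : Type u) (R' k : Type u) B)

/-- The structure map of the base change. -/
abbrev bcUnit (k : σ) (B : Alg R) : B ⟶ bcAlg R' k B := Alg.unit (R : Type u) (R' k : Type u) B

/-- The underlying ring map of a map of algebras. -/
abbrev rmap {R₀ : Type u} [CommRing R₀] {X Y : Alg R₀} (f : X ⟶ Y) :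
    CommRingCat.of X ⟶ CommRingCat.of Y :=
  CommRingCat.ofHom f.hom.toRingHom

/-- The first inclusion into a base change. -/
def rleft (k : σ) (B : Alg R) : CommRingCat.of (R' k) ⟶ CommRingCat.of (bcAlg R' k B) :=
  CommRingCat.ofHom (Algebra.TensorProduct.includeLeftRingHom :
    (R' k : Type u) →+* (R' k : Type u) ⊗[R] (B : Type u))

theorem rleft_apply (k : σ) (B : Alg R) (c : R' k) :
    rleft R' k B c = (c ⊗ₜ[R] (1 : B) : (R' k : Type u) ⊗[R] (B : Type u)) := rfl

theorem isPullback_spec_bc (k : σ) (B : Alg R) :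
    IsPullback (Spec.map (rleft R' k B)) (Spec.map (rmap (bcUnit R' k B)))
      (gmap R' k) (Spec.map (CommRingCat.ofHom (algebraMap R B))) :=
  isPullback_SpecMap_of_isPushout _ _ _ _
    (CommRingCat.isPushout_tensorProduct R (R' k : Type u) (B : Type u))

include hP hg in
theorem prop_spec_bc (k : σ) (B : Alg R) :
    P (Spec.map (rmap (bcUnit R' k B))) :=
  haveI := hP.baseChange
  MorphismProperty.of_isPullback (isPullback_spec_bc R' k B) (hg k)

include hgs in
theorem surj_spec_bc (B : Alg R) (x : Spec (CommRingCat.of B)) :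
    ∃ k, x ∈ Set.range (Spec.map (rmap (bcUnit R' k B))) := by
  obtain ⟨k, y, hy⟩ := hgs (Spec.map (CommRingCat.ofHom (algebraMap R B)) x)
  obtain ⟨z, hz, hz'⟩ := Scheme.Pullback.exists_preimage_pullback y x hy
  refine ⟨k, (isPullback_spec_bc R' k B).isoPullback.inv z, ?_⟩
  rw [← Scheme.Hom.comp_apply, IsPullback.isoPullback_inv_snd]
  exact hz'

variable {S : Scheme.{u}} (a : Spec R ⟶ S)

/-- The covering of an affine object by the base changes. -/
abbrev bcArrow (k : σ) (B : Alg R) :
    (specOver a).obj (op (bcAlg R' k B)) ⟶ (specOver a).obj (op B) :=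
  (specOver a).map (bcUnit R' k B).op

include hP hg hgs in
theorem ofArrows_bc_mem (B : Alg R) :
    Sieve.ofArrows (fun k => (specOver a).obj (op (bcAlg R' k B))) (fun k => bcArrow R' a k B) ∈
      QuotSh.J (Scheme.precoverage P) S ((specOver a).obj (op B)) := by
  rw [GrothendieckTopology.mem_over_iff, Sieve.overEquiv_ofArrows]
  refine Precoverage.generate_mem_toGrothendieck ?_
  exact (Scheme.ofArrows_mem_precoverage_iff _).2
    ⟨surj_spec_bc R' hgs B, fun k => prop_spec_bc R' hP hg k B⟩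

theorem rmap_algebraMap {R₀ : Type u} [CommRing R₀] {X Y : Alg R₀} (f : X ⟶ Y) :
    Spec.map (rmap f) ≫ Spec.map (CommRingCat.ofHom (algebraMap R₀ X)) =
      Spec.map (CommRingCat.ofHom (algebraMap R₀ Y)) := by
  rw [← Spec.map_comp]
  exact congrArg Spec.map (CommRingCat.hom_ext (RingHom.ext fun r => f.hom.commutes r))

theorem rmap_unit_square (B : Alg R) (j k : σ) :
    rmap (bcUnit R' k B) ≫ rmap ((Alg.restr (R : Type u) (R' k : Type u)).map
        ((Alg.baseChange (R : Type u) (R' k : Type u)).map (bcUnit R' j B))) =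
      rmap (bcUnit R' j B) ≫ rmap (bcUnit R' k (bcAlg R' j B)) :=
  CommRingCat.hom_ext (RingHom.ext fun b => rfl)

theorem rleft_map (k : σ) {X Y : Alg R} (f : X ⟶ Y) :
    rleft R' k X ≫ rmap ((Alg.restr (R : Type u) (R' k : Type u)).map
        ((Alg.baseChange (R : Type u) (R' k : Type u)).map f)) = rleft R' k Y := by
  refine CommRingCat.hom_ext (RingHom.ext fun c => ?_)
  show (Algebra.TensorProduct.map (AlgHom.id (R' k) (R' k)) f.hom) (c ⊗ₜ[(R : Type u)] (1 : X)) =
    c ⊗ₜ[(R : Type u)] (1 : Y)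
  rw [Algebra.TensorProduct.map_tmul, map_one]
  rfl

theorem rleft_square (B : Alg R) (j k : σ) :
    rleft R' k B ≫ rmap ((Alg.restr (R : Type u) (R' k : Type u)).map
        ((Alg.baseChange (R : Type u) (R' k : Type u)).map (bcUnit R' j B))) =
      rleft R' k (bcAlg R' j B) :=
  rleft_map R' k (bcUnit R' j B)

theorem exists_lift_pair (B : Alg R) (j k : σ) {Z : Over S}
    (gj : Z ⟶ (specOver a).obj (op (bcAlg R' j B))) (gk : Z ⟶ (specOver a).obj (op (bcAlg R' k B)))
    (h : gj ≫ bcArrow R' a j B = gk ≫ bcArrow R' a k B) :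
    ∃ m : Z ⟶ (specOver a).obj (op (bcAlg R' k (bcAlg R' j B))),
      m ≫ bcArrow R' a k (bcAlg R' j B) = gj ∧
      m ≫ (specOver a).map ((Alg.restr (R : Type u) (R' k : Type u)).map
        ((Alg.baseChange (R : Type u) (R' k : Type u)).map (bcUnit R' j B))).op = gk := by
  let lj : Z.left ⟶ Spec (CommRingCat.of (bcAlg R' j B)) := gj.left
  let lk : Z.left ⟶ Spec (CommRingCat.of (bcAlg R' k B)) := gk.left
  have hl : lj ≫ Spec.map (rmap (bcUnit R' j B)) = lk ≫ Spec.map (rmap (bcUnit R' k B)) :=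
    congrArg CommaMorphism.left h
  let tk : Z.left ⟶ Spec (CommRingCat.of (R' k)) := lk ≫ Spec.map (rleft R' k B)
  have htk : tk ≫ gmap R' k = lj ≫ Spec.map (CommRingCat.ofHom (algebraMap R (bcAlg R' j B))) := by
    rw [← rmap_algebraMap (bcUnit R' j B), ← Category.assoc lj, hl, Category.assoc, Category.assoc,
      ← (isPullback_spec_bc R' k B).w]
  have q := isPullback_spec_bc R' k (bcAlg R' j B)
  let m₀ : Z.left ⟶ Spec (CommRingCat.of (bcAlg R' k (bcAlg R' j B))) := q.lift tk lj htk
  have hm1 : m₀ ≫ Spec.map (rmap (bcUnit R' k (bcAlg R' j B))) = lj := q.lift_snd _ _ _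
  have hm0 : m₀ ≫ Spec.map (rleft R' k (bcAlg R' j B)) = tk := q.lift_fst _ _ _
  have hm2 : m₀ ≫ Spec.map (rmap ((Alg.restr (R : Type u) (R' k : Type u)).map
      ((Alg.baseChange (R : Type u) (R' k : Type u)).map (bcUnit R' j B)))) = lk := by
    apply (isPullback_spec_bc R' k B).hom_ext
    · rw [Category.assoc, ← Spec.map_comp, rleft_square, hm0]
    · rw [Category.assoc, ← Spec.map_comp, rmap_unit_square, Spec.map_comp, ← Category.assoc, hm1, hl]
  refine ⟨Over.homMk m₀ ?_, Over.OverMorphism.ext hm1, Over.OverMorphism.ext hm2⟩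
  show m₀ ≫ Spec.map (CommRingCat.ofHom (algebraMap R (bcAlg R' k (bcAlg R' j B)))) ≫ a = Z.hom
  rw [← rmap_algebraMap (bcUnit R' k (bcAlg R' j B)), Category.assoc, ← Category.assoc m₀, hm1]
  exact Over.w gj

end Cover

section Sheaf

variable {S : Scheme.{u}} [BigSite.OSh (Scheme.precoverage P)]

theorem isSheafFor_of_mem (M : BigSite.Mod (Scheme.precoverage P) S) {σ : Type} {X : Over S}
    {Y : σ → Over S} (g : ∀ k, Y k ⟶ X)
    (h : Sieve.ofArrows Y g ∈ QuotSh.J (Scheme.precoverage P) S X) :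
    Presieve.IsSheafFor (M.val.presheaf ⋙ CategoryTheory.forget Ab.{u + 1}) (Presieve.ofArrows Y g) := by
  have := (Presheaf.isSheaf_iff_isSheaf_forget _ _ (CategoryTheory.forget Ab.{u + 1})).1 M.isSheaf
  rw [isSheaf_iff_isSheaf_of_type] at this
  rw [Presieve.isSheafFor_iff_generate]
  exact this _ h

variable {R : CommRingCat.{u}} {σ : Type} (R' : σ → CommRingCat.{u}) [∀ k, Algebra R (R' k)]
  (hP : GoodProp P) (hg : ∀ k, P (gmap (R := R) R' k))
  (hgs : ∀ x, ∃ k, x ∈ Set.range (gmap (R := R) R' k)) (a : Spec R ⟶ S)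

include hP hg hgs in
theorem sheaf_injective (M : BigSite.Mod (Scheme.precoverage P) S) (B : Alg R)
    (x y : Val ((toMVF (Scheme.precoverage P) a).obj M) B)
    (h : ∀ k, res _ (bcUnit R' k B) x = res _ (bcUnit R' k B) y) : x = y :=
  ((isSheafFor_of_mem M _ (ofArrows_bc_mem R' hP hg hgs a B)).isSeparatedFor.ext
    fun _ f hf => by obtain ⟨k⟩ := hf; exact h k)

include hP hg hgs in
theorem sheaf_exact (M : BigSite.Mod (Scheme.precoverage P) S) (B : Alg R)
    (y : ∀ k, Val ((toMVF (Scheme.precoverage P) a).obj M) (bcAlg R' k B))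
    (hy : ∀ j k, res _ (bcUnit R' k (bcAlg R' j B)) (y j) =
      res _ ((Alg.restr (R : Type u) (R' k : Type u)).map
        ((Alg.baseChange (R : Type u) (R' k : Type u)).map (bcUnit R' j B))) (y k)) :
    ∃ x, ∀ k, res _ (bcUnit R' k B) x = y k := by
  obtain ⟨x, hx, -⟩ := (Presieve.isSheafFor_arrows_iff _ _).1
    (isSheafFor_of_mem M _ (ofArrows_bc_mem R' hP hg hgs a B))
    (fun k => mval M.val a (bcAlg R' k B) (y k)) fun j k Z gj gk hjk => by
      obtain ⟨m, hm1, hm2⟩ := exists_lift_pair R' a B j k gj gk hjk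
      show sres M.val gj (mval M.val a _ (y j)) = sres M.val gk (mval M.val a _ (y k))
      rw [← hm1, ← hm2, sres_comp, sres_comp]
      exact congrArg (fun w => sres M.val m (mval M.val a (bcAlg R' k (bcAlg R' j B)) w)) (hy j k)
  exact ⟨(mval M.val a B).symm x, fun k => hx k⟩

end Sheaf

end Groth.Agent.Adeq88
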