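import Groth.Agent.Adeq88.Universal
import Mathlib.LinearAlgebra.DirectSum.TensorProduct
import Mathlib.LinearAlgebra.TensorProduct.RightExactness

/-!
Direct sums of module-valued functors, cokernels, and covers by linearly adequate functors.
-/

set_option autoImplicit false

universe u

open CategoryTheory Limits Opposite TensorProduct DirectSum

noncomputable section

namespace Groth.Agent.Adeq88

open Adeq

variable {A : Type u} [CommRing A]

section ElemExact

theorem cokernel_exact {F G : MVF A} (f : F ⟶ G) (B : Alg A) (y : Val G B)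
    (hy : ap (cokernel.π f) B y = 0) : y ∈ Set.range (ap f B) := by
  have hS : (ShortComplex.mk f (cokernel.π f) (cokernel.condition f)).Exact :=
    ShortComplex.exact_of_g_is_cokernel _ (cokernelIsCokernel f)
  let ev := PresheafOfModules.evaluation.{u + 1} (ringOf A) (pt B)
  have : ev.Additive := PresheafOfModules.instAdditiveModuleCatCarrierObjOppositeRingCatEvaluation
    (R := ringOf A) (pt B)
  have : PreservesFiniteColimits ev :=
    PresheafOfModules.Finite.evaluation_preservesFiniteColimits _ _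
  exact (ShortComplex.moduleCat_exact_iff _).1
    (hS.map_of_epi_of_preservesCokernel ev inferInstance inferInstance) y hy

theorem cokernel_π_surjective {F G : MVF A} (f : F ⟶ G) (B : Alg A) :
    Function.Surjective (ap (cokernel.π f) B) :=
  (epi_iff _).1 inferInstance B

theorem exact_elem {S : ShortComplex (MVF A)} (hS : S.ShortExact) (B : Alg A) (y : Val S.X₂ B)
    (hy : ap S.g B y = 0) : y ∈ Set.range (ap S.f B) := by
  obtain ⟨x, hx⟩ := kernel_exact S.g B y hy
  have h := hS.fIsKernel
  obtain ⟨l, hl⟩ := KernelFork.IsLimit.lift' h (kernel.ι S.g) (kernel.condition _)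
  have hl' : l ≫ S.f = kernel.ι S.g := hl
  exact ⟨ap l B x, by rw [← ap_comp, hl', hx]⟩

/-- Descent of a morphism through a valuewise surjective morphism. -/
theorem exists_desc {F G T : MVF A} (π : F ⟶ G) (hπ : ∀ B, Function.Surjective (ap π B))
    (g : F ⟶ T) (hg : ∀ B x, ap π B x = 0 → ap g B x = 0) : ∃ h : G ⟶ T, π ≫ h = g := by
  have hw : kernel.ι π ≫ g = 0 := hom_ext fun B x => by
    rw [ap_comp, hg B _ (kernel_ι_comp π B x), ap_zero]
  have : Epi π := (epi_iff π).2 hπ
  exact ⟨Abelian.epiDesc π g hw, Abelian.comp_epiDesc π g hw⟩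

end ElemExact

section Underline

theorem uMap_comp {M N P : ModuleCat.{u + 1} A} (f : M ⟶ N) (g : N ⟶ P) (B : Alg A)
    (x : Val (uM M) B) : ap (uMap (f ≫ g)) B x = ap (uMap g) B (ap (uMap f) B x) := by
  rw [uMap, (underline A).map_comp, ap_comp]

theorem uMap_zero {M N : ModuleCat.{u + 1} A} (B : Alg A) (x : Val (uM M) B) :
    ap (uMap (0 : M ⟶ N)) B x = 0 := by
  rw [uMap, (underline A).map_zero, ap_zero]

theorem uMap_id {M : ModuleCat.{u + 1} A} (B : Alg A) (x : Val (uM M) B) :
    ap (uMap (𝟙 M)) B x = x := by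
  rw [uMap, (underline A).map_id, ap_id]

theorem uMap_add {M N : ModuleCat.{u + 1} A} (f g : M ⟶ N) (B : Alg A) (x : Val (uM M) B) :
    ap (uMap (f + g)) B x = ap (uMap f) B x + ap (uMap g) B x := by
  rw [uMap, (underline A).map_add, ap_add]

theorem uMap_surjective {M N : ModuleCat.{u + 1} A} (f : M ⟶ N) (hf : Function.Surjective f.hom)
    (B : Alg A) : Function.Surjective (ap (uMap f) B) :=
  LinearMap.lTensor_surjective (B : Type u) hf

theorem uMap_exact {M N P : ModuleCat.{u + 1} A} (f : M ⟶ N) (g : N ⟶ P)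
    (hfg : Function.Exact f.hom g.hom) (hg : Function.Surjective g.hom) (B : Alg A)
    (y : Val (uM N) B) (hy : ap (uMap g) B y = 0) : y ∈ Set.range (ap (uMap f) B) :=
  (lTensor_exact (B : Type u) hfg hg _).1 hy

end Underline

section DSum

variable {I : Type (u + 1)} (L : I → MVF A)

/-- The underlying presheaf of a direct sum of functors. -/
def dsumAb : (Alg A)ᵒᵖᵒᵖ ⥤ Ab.{u + 1} where
  obj X := AddCommGrpCat.of (⨁ i, Val (L i) X.unop.unop)
  map {X Y} f := AddCommGrpCat.ofHom (DirectSum.map fun i => res (L i) f.unop.unop)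
  map_id X := by
    classical
    refine AddCommGrpCat.hom_ext (DirectSum.addHom_ext fun i x => ?_)
    exact (DirectSum.map_of (fun i => res (L i) (𝟙 X.unop.unop)) i x).trans
      (congrArg _ (res_id (L i) X.unop.unop x))
  map_comp {X Y Z} f g := by
    classical
    refine AddCommGrpCat.hom_ext (DirectSum.addHom_ext fun i x => ?_)
    exact (DirectSum.map_of (fun i => res (L i) (f.unop.unop ≫ g.unop.unop)) i x).trans
      ((congrArg _ (res_comp (L i) f.unop.unop g.unop.unop x)).trans
        ((congrArg _ (DirectSum.map_of (fun i => res (L i) f.unop.unop) i x)).trans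
          (DirectSum.map_of (fun i => res (L i) g.unop.unop) i _)).symm)

instance (X : (Alg A)ᵒᵖᵒᵖ) : Module ((ringOf A).obj X) ((dsumAb L).obj X) :=
  inferInstanceAs (Module X.unop.unop (⨁ i, Val (L i) X.unop.unop))

theorem dsum_map_smul {B C : Alg A} (f : B ⟶ C) (b : B) (x : ⨁ i, Val (L i) B) :
    DirectSum.map (fun i => res (L i) f) (b • x) =
      f.hom b • DirectSum.map (fun i => res (L i) f) x := by
  classical
  ext i
  rw [DirectSum.map_apply, DirectSum.smul_apply, DirectSum.smul_apply, DirectSum.map_apply,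
    res_smul]

/-- The direct sum of a family of functors. -/
def dsum : MVF A :=
  PresheafOfModules.ofPresheaf (dsumAb L) fun _ _ f r m => dsum_map_smul L f.unop.unop r m

/-- The values of a direct sum. -/
def dval (B : Alg A) : Val (dsum L) B ≃ₗ[B] ⨁ i, Val (L i) B where
  toFun x := x
  invFun x := x
  map_add' _ _ := rfl
  map_smul' _ _ := rfl
  left_inv _ := rfl
  right_inv _ := rfl

theorem dval_res {B C : Alg A} (f : B ⟶ C) (x : Val (dsum L) B) :
    dval L C (res (dsum L) f x) = DirectSum.map (fun i => res (L i) f) (dval L B x) := rfl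

/-- The inclusion of a summand. -/
def dincl [DecidableEq I] (i : I) : L i ⟶ dsum L where
  app X := ModuleCat.ofHom
    ((dval L X.unop.unop).symm.toLinearMap.comp
      (DirectSum.lof X.unop.unop I (fun i => Val (L i) X.unop.unop) i))
  naturality {X Y} f := by
    ext x
    exact (DirectSum.map_of (fun i => res (L i) f.unop.unop) i x).symm

theorem dval_dincl [DecidableEq I] (i : I) {B : Alg A} (x : Val (L i) B) :
    dval L B (ap (dincl L i) B x) = DirectSum.of _ i x := rfl

variable {L}

theorem dsum_induction [DecidableEq I] {B : Alg A} {P : Val (dsum L) B → Prop}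
    (x : Val (dsum L) B) (h0 : P 0) (hi : ∀ i y, P (ap (dincl L i) B y))
    (ha : ∀ x y, P x → P y → P (x + y)) : P x :=
  DirectSum.induction_on (motive := P) (dval L B x) h0 hi ha

theorem dsum_hom_ext [DecidableEq I] {G : MVF A} {φ ψ : dsum L ⟶ G}
    (h : ∀ i, dincl L i ≫ φ = dincl L i ≫ ψ) : φ = ψ := by
  refine hom_ext fun B x => ?_
  induction x using dsum_induction with
  | h0 => simp
  | hi i y => rw [← ap_comp, h i, ap_comp]
  | ha x y hx hy => rw [map_add, map_add, hx, hy]

theorem exists_ddesc [DecidableEq I] {G : MVF A} (f : ∀ i, L i ⟶ G) :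
    ∃ g : dsum L ⟶ G, ∀ i, dincl L i ≫ g = f i := by
  let g : ∀ B : Alg A, Val (dsum L) B →ₗ[B] Val G B := fun B =>
    (DirectSum.toModule B I _ fun i => ap (f i) B).comp (dval L B).toLinearMap
  have hg : ∀ (B : Alg A) i (y : Val (L i) B), g B (ap (dincl L i) B y) = ap (f i) B y :=
    fun B i y => DirectSum.toModule_lof (B : Type u) (φ := fun i => ap (f i) B) i y
  refine ⟨⟨fun X => ModuleCat.ofHom (g X.unop.unop), ?_⟩, fun i => ?_⟩
  · intro X Y k
    ext x
    show g Y.unop.unop (res (dsum L) k.unop.unop x) = res G k.unop.unop (g X.unop.unop x)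
    induction (show Val (dsum L) X.unop.unop from x) using dsum_induction with
    | h0 => simp
    | hi i y => rw [← ap_res, hg, hg, ap_res]
    | ha x y hx hy => simp only [map_add, hx, hy]
  · exact hom_ext fun B y => hg B i y

/-- The direct sum cofan. -/
def dcofan [DecidableEq I] (L : I → MVF A) : Cofan L := Cofan.mk (dsum L) (dincl L)

/-- The direct sum is a coproduct. -/
def isColimitDcofan [DecidableEq I] (L : I → MVF A) : IsColimit (dcofan L) :=
  Cofan.IsColimit.mk _ (fun s => (exists_ddesc s.inj).choose)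
    (fun s j => (exists_ddesc s.inj).choose_spec j)
    (fun s _ hm => dsum_hom_ext fun j => (hm j).trans ((exists_ddesc s.inj).choose_spec j).symm)

/-- The direct sum of a family of modules. -/
abbrev msum (M : I → ModuleCat.{u + 1} A) : ModuleCat.{u + 1} A :=
  ModuleCat.of A (⨁ i, (M i : Type (u + 1)))

/-- The inclusion in a direct sum of modules. -/
def mincl [DecidableEq I] (M : I → ModuleCat.{u + 1} A) (i : I) : M i ⟶ msum M :=
  ModuleCat.ofHom (DirectSum.lof A I (fun i => (M i : Type (u + 1))) i)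

/-- The sum of a family of maps. -/
def mmap {M N : I → ModuleCat.{u + 1} A} (φ : ∀ i, M i ⟶ N i) : msum M ⟶ msum N :=
  ModuleCat.ofHom (DirectSum.lmap fun i => (φ i).hom)

/-- The components of a value at a direct sum of modules. -/
def dTM [DecidableEq I] (M : I → ModuleCat.{u + 1} A) (B : Alg A) :
    Val (uM (msum M)) B →+ ⨁ i, ((B : Type u) ⊗[A] (M i : Type (u + 1))) :=
  (TensorProduct.directSumRight A A (B : Type u) fun i => (M i : Type (u + 1))).toAddEquiv.toAddMonoidHom.comp
    (uval (msum M) B).toAddEquiv.toAddMonoidHom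

theorem dTM_injective [DecidableEq I] (M : I → ModuleCat.{u + 1} A) (B : Alg A) :
    Function.Injective (dTM M B) := fun _ _ h =>
  (uval (msum M) B).injective
    ((TensorProduct.directSumRight A A (B : Type u) fun i => (M i : Type (u + 1))).injective h)

theorem directSumRight_tmul_of {R : Type u} [CommRing R] {N : Type u} [AddCommGroup N] [Module R N]
    [DecidableEq I] {M : I → Type (u + 1)} [∀ i, AddCommGroup (M i)] [∀ i, Module R (M i)]
    (n : N) (i : I) (m : M i) :
    TensorProduct.directSumRight R R N M (n ⊗ₜ[R] DirectSum.lof R I M i m) =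
      DirectSum.of (fun i => N ⊗[R] M i) i (n ⊗ₜ[R] m) :=
  (TensorProduct.directSumRight_tmul_lof R R n i m).trans (DirectSum.lof_eq_of R I _ i _)

theorem dTM_pure_lof [DecidableEq I] (M : I → ModuleCat.{u + 1} A) {B : Alg A} (b : B) (i : I)
    (m : M i) : dTM M B (pure (msum M) b (DirectSum.lof A I (fun i => (M i : Type (u + 1))) i m)) =
      DirectSum.of (fun i => (B : Type u) ⊗[A] (M i : Type (u + 1))) i (b ⊗ₜ[A] m) := by
  show (TensorProduct.directSumRight A A (B : Type u) fun i => (M i : Type (u + 1)))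
      (b ⊗ₜ[A] DirectSum.lof A I (fun i => (M i : Type (u + 1))) i m) = _
  exact directSumRight_tmul_of (M := fun i => (M i : Type (u + 1))) b i m

theorem dTM_mincl [DecidableEq I] (M : I → ModuleCat.{u + 1} A) {B : Alg A} (i : I)
    (z : Val (uM (M i)) B) :
    dTM M B (ap (uMap (mincl M i)) B z) =
      DirectSum.of (fun i => (B : Type u) ⊗[A] (M i : Type (u + 1))) i (uval (M i) B z) := by
  induction z using pure_induction with
  | h0 => simp
  | hp b m => exact dTM_pure_lof M b i m
  | ha x y hx hy => simp only [map_add, hx, hy]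

theorem msum_induction [DecidableEq I] {M : I → ModuleCat.{u + 1} A} {B : Alg A}
    {P : Val (uM (msum M)) B → Prop} (z : Val (uM (msum M)) B) (h0 : P 0)
    (hi : ∀ i (y : Val (uM (M i)) B), P (ap (uMap (mincl M i)) B y))
    (ha : ∀ x y, P x → P y → P (x + y)) : P z := by
  induction z using pure_induction with
  | h0 => exact h0
  | hp b m =>
    refine DirectSum.induction_on (motive := fun m => P (pure (msum M) b m)) m ?_ ?_ ?_
    · exact (pure_zero_right (msum M) b).symm ▸ h0
    · exact fun i y => hi i (pure (M i) b y)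
    · intro x y hx hy
      have : pure (msum M) b (x + y) = pure (msum M) b x + pure (msum M) b y :=
        (congrArg (uval (msum M) B).symm (TensorProduct.tmul_add b x y)).trans (map_add _ _ _)
      show P (pure (msum M) b (x + y))
      exact this ▸ ha _ _ hx hy
  | ha x y hx hy => exact ha _ _ hx hy

theorem mincl_mmap [DecidableEq I] {M N : I → ModuleCat.{u + 1} A} (φ : ∀ i, M i ⟶ N i) (i : I) :
    mincl M i ≫ mmap φ = φ i ≫ mincl N i :=
  ModuleCat.hom_ext (LinearMap.ext fun x =>
    DirectSum.lmap_lof (R := A) (fun i => (φ i).hom) i x)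

theorem dTM_mmap [DecidableEq I] {M N : I → ModuleCat.{u + 1} A} (φ : ∀ i, M i ⟶ N i) {B : Alg A}
    (z : Val (uM (msum M)) B) (i : I) :
    dTM N B (ap (uMap (mmap φ)) B z) i = (φ i).hom.baseChange B (dTM M B z i) := by
  induction z using msum_induction with
  | h0 => simp
  | hi j y =>
    rw [← uMap_comp, mincl_mmap, uMap_comp, dTM_mincl, dTM_mincl, uval_ap]
    rcases eq_or_ne j i with rfl | hne
    · simp only [DirectSum.of_eq_same]
    · simp [DirectSum.of_eq_of_ne _ _ _ hne.symm]
  | ha x y hx hy => simp only [map_add, DirectSum.add_apply, hx, hy]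

/-- The presentation of a direct sum. -/
theorem exists_pres_dsum [DecidableEq I] (L : I → MVF A) (p : ∀ i, Pres (L i)) :
    ∃ ι : dsum L ⟶ uM (msum fun i => (p i).M),
      (∀ i, dincl L i ≫ ι = (p i).ι ≫ uMap (mincl (fun i => (p i).M) i)) ∧
      (∀ B, Function.Injective (ap ι B)) ∧
      (∀ B x, ap (uMap (mmap fun i => (p i).φ)) B (ap ι B x) = 0) ∧
      ∀ B y, ap (uMap (mmap fun i => (p i).φ)) B y = 0 → y ∈ Set.range (ap ι B) := by
  obtain ⟨ι, hι⟩ := exists_ddesc fun i => (p i).ι ≫ uMap (mincl (fun i => (p i).M) i)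
  have hι' : ∀ i B (x : Val (L i) B), ap ι B (ap (dincl L i) B x) =
      ap (uMap (mincl (fun i => (p i).M) i)) B (ap (p i).ι B x) := fun i B x => by
    rw [← ap_comp, hι, ap_comp]
  have hιc : ∀ B (x : Val (dsum L) B) i,
      dTM (fun i => (p i).M) B (ap ι B x) i = uval (p i).M B (ap (p i).ι B (dval L B x i)) := by
    intro B x i
    induction x using dsum_induction with
    | h0 => simp
    | hi j y =>
      rw [hι', dTM_mincl, dval_dincl]
      rcases eq_or_ne j i with rfl | hne
      · simp only [DirectSum.of_eq_same]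
      · simp [DirectSum.of_eq_of_ne _ _ _ hne.symm]
    | ha x y hx hy => simp only [map_add, DirectSum.add_apply, hx, hy]
  refine ⟨ι, hι, ?_, ?_, ?_⟩
  · intro B x y h
    apply (dval L B).injective
    refine DFinsupp.ext fun i => (p i).inj B ((uval (p i).M B).injective ?_)
    rw [← hιc, ← hιc, h]
  · intro B x
    apply dTM_injective
    refine DFinsupp.ext fun i => ?_
    rw [dTM_mmap, hιc, ← uval_ap, (p i).comp]
    simp
  · intro B y hy
    have hk : ∀ i, ap (uMap (p i).φ) B ((uval (p i).M B).symm (dTM (fun i => (p i).M) B y i)) = 0 :=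
      fun i => by
      apply (uval (p i).N B).injective
      rw [uval_ap, LinearEquiv.apply_symm_apply, map_zero]
      refine (dTM_mmap (fun i => (p i).φ) y i).symm.trans ?_
      rw [hy]
      simp
    classical
    choose g hg using fun i => (p i).exact B _ (hk i)
    let v : ⨁ i, Val (L i) B :=
      DFinsupp.mk (DFinsupp.support (dTM (fun i => (p i).M) B y)) fun i => g i.1
    refine ⟨(dval L B).symm v, dTM_injective _ _ (DFinsupp.ext fun i => ?_)⟩
    rw [hιc, LinearEquiv.apply_symm_apply]
    by_cases hi : i ∈ DFinsupp.support (dTM (fun i => (p i).M) B y)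
    · have hv : v i = g i := by simp [v, hi]
      rw [hv, hg i, LinearEquiv.apply_symm_apply]
    · have hv : v i = 0 := by simp [v, hi]
      rw [hv, map_zero, map_zero]
      exact (DFinsupp.notMem_support_iff.1 hi).symm

/-- The presentation of a direct sum of presented functors. -/
def Pres.sum [DecidableEq I] {L : I → MVF A} (p : ∀ i, Pres (L i)) : Pres (dsum L) where
  M := msum fun i => (p i).M
  N := msum fun i => (p i).N
  φ := mmap fun i => (p i).φ
  ι := (exists_pres_dsum L p).choose
  inj := (exists_pres_dsum L p).choose_spec.2.1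
  comp := (exists_pres_dsum L p).choose_spec.2.2.1
  exact := (exists_pres_dsum L p).choose_spec.2.2.2

theorem adequate_dsum (L : I → MVF A) (h : ∀ i, adequate A (L i)) : adequate A (dsum L) :=
  letI := Classical.decEq I
  adequate_of_pres (Pres.sum fun i => (adequate_iff.1 (h i)).some)

end DSum

section Cover

theorem exists_lin_elem {F : MVF A} (hF : adequate A F) {B : Alg A} (x : Val F B) :
    ∃ (L : MVF A) (_ : LinPres L) (h : L ⟶ F) (y : Val L B), ap h B y = x := by
  obtain ⟨p⟩ := adequate_iff.1 hF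
  obtain ⟨k, b, m, hbm⟩ := TensorProduct.exists_sum_tmul_eq (uval p.M B (ap p.ι B x))
  have hzero : ∑ i, b i ⊗ₜ[A] p.φ.hom (m i) = 0 := by
    have h := congrArg (uval p.N B) (p.comp B x)
    rw [uval_ap, hbm, map_zero, map_sum] at h
    exact h
  obtain ⟨k', e, l, a, y, h1, h2⟩ := exists_vanishesTrivially b (fun i => p.φ.hom (m i)) hzero
  let M₀ : ModuleCat.{u + 1} A := ModuleCat.of A (ULift.{u + 1} (Fin (k + k') → A))
  let N₀ : ModuleCat.{u + 1} A := ModuleCat.of A (ULift.{u + 1} (Fin l → A))
  let bM : Module.Basis (Fin (k + k')) A M₀ :=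
    (Pi.basisFun A (Fin (k + k'))).map ULift.moduleEquiv.symm
  let bN : Module.Basis (Fin l) A N₀ := (Pi.basisFun A (Fin l)).map ULift.moduleEquiv.symm
  let φ₀ : M₀ ⟶ N₀ := ModuleCat.ofHom
    (bM.constr A fun i => ∑ j, a (finSumFinEquiv.symm i) j • bN j)
  let q : LinPres (kernel (uMap φ₀)) := LinPres.ofKernel φ₀ bM bN
  let g : M₀ ⟶ p.M := ModuleCat.ofHom (bM.constr A fun i => Sum.elim m 0 (finSumFinEquiv.symm i))
  let ψ : N₀ ⟶ p.N := ModuleCat.ofHom (bN.constr A y)
  have hg : g ≫ p.φ = φ₀ ≫ ψ := by
    apply ModuleCat.hom_ext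
    refine bM.ext fun i => ?_
    simp only [g, φ₀, ψ, ModuleCat.hom_comp, LinearMap.comp_apply, ModuleCat.hom_ofHom,
      Module.Basis.constr_basis, map_sum, map_smul]
    rcases hi : finSumFinEquiv.symm i with i' | i'
    · exact h1 (Sum.inl i')
    · rw [← h1 (Sum.inr i')]
      exact (map_zero _)
  obtain ⟨h, hh⟩ := p.exists_lift (kernel.ι (uMap φ₀) ≫ uMap g) fun B' z => by
    rw [ap_comp]
    refine (uMap_comp g p.φ B' _).symm.trans ?_
    rw [hg, uMap_comp, kernel_ι_comp, map_zero]
  let c : Fin (k + k') → B := fun i => Sum.elim b e (finSumFinEquiv.symm i)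
  have hc : ∀ j : Fin l, ∑ i : Fin (k + k'), q.mat j i • c i = 0 := by
    intro j
    refine Eq.trans ?_ (h2 j)
    refine (finSumFinEquiv.sum_comp fun i : Fin (k + k') => q.mat j i • c i).symm.trans ?_
    refine Finset.sum_congr rfl fun i _ => ?_
    have hm : q.mat j (finSumFinEquiv i) = a i j := by
      show bN.repr (φ₀.hom (bM (finSumFinEquiv i))) j = _
      simp only [φ₀, ModuleCat.hom_ofHom, Module.Basis.constr_basis, Equiv.symm_apply_apply,
        Module.Basis.repr_sum_self]
    exact congrArg₂ (· • ·) hm (by simp only [c, Equiv.symm_apply_apply])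
  obtain ⟨z, hz⟩ := kernel_exact (uMap φ₀) B (∑ i, pure M₀ (c i) (bM i)) ((q.rel_iff c).2 hc)
  refine ⟨_, q, h, z, p.inj B ?_⟩
  rw [← ap_comp, hh, ap_comp, hz]
  apply (uval p.M B).injective
  rw [hbm]
  simp only [map_sum, ap_pure, uval_pure]
  rw [← finSumFinEquiv.sum_comp, Fintype.sum_sum_type]
  have hgb : ∀ i, g.hom (bM (finSumFinEquiv i)) = Sum.elim m 0 i := fun i => by
    show (bM.constr A fun i => Sum.elim m 0 (finSumFinEquiv.symm i)) (bM (finSumFinEquiv i)) = _
    rw [Module.Basis.constr_basis, Equiv.symm_apply_apply]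
  simp only [c, hgb, Equiv.symm_apply_apply, Sum.elim_inl, Sum.elim_inr, Pi.zero_apply,
    TensorProduct.tmul_zero, Finset.sum_const_zero, add_zero]

theorem exists_cover {F : MVF A} (hF : adequate A F) :
    ∃ (I : Type (u + 1)) (L : I → MVF A) (_ : ∀ i, LinPres (L i)) (π : dsum L ⟶ F),
      ∀ B, Function.Surjective (ap π B) := by
  classical
  choose L p h y hy using fun (i : Σ B : Alg A, Val F B) => exists_lin_elem hF i.2
  obtain ⟨π, hπ⟩ := exists_ddesc h
  refine ⟨_, L, p, π, fun B x => ⟨ap (dincl L ⟨B, x⟩) B (y ⟨B, x⟩), ?_⟩⟩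
  rw [← ap_comp, hπ, hy ⟨B, x⟩]

end Cover

end Groth.Agent.Adeq88
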