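import Groth.Agent.Adeq88.Basic
import Mathlib.Algebra.Polynomial.AlgebraMap
import Mathlib.LinearAlgebra.TensorProduct.Vanishing
import Mathlib.RingTheory.TensorProduct.DirectLimitFG
import Mathlib.RingTheory.Polynomial.Basic

/-!
Polynomial coefficients in the values of an underlined module, and a criterion for vanishing in a
tensor product.
-/

set_option autoImplicit false

universe u v

open CategoryTheory Limits Opposite TensorProduct

noncomputable section

namespace Groth.Agent.Adeq88

open Adeq

theorem exists_vanishesTrivially {R : Type u} [CommRing R] {M : Type u} {N : Type v}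
    [AddCommGroup M] [Module R M] [AddCommGroup N] [Module R N] {ι : Type} [Fintype ι]
    (m : ι → M) (n : ι → N) (h : ∑ i, m i ⊗ₜ[R] n i = 0) :
    ∃ (k : ℕ) (e : Fin k → M),
      TensorProduct.VanishesTrivially R (Sum.elim m e) (Sum.elim n (0 : Fin k → N)) := by
  classical
  let P : Submodule R M := Submodule.span R (Set.range m)
  let m₀ : ι → P := fun i => ⟨m i, Submodule.subset_span ⟨i, rfl⟩⟩
  have ht : LinearMap.rTensor N P.subtype (∑ i, m₀ i ⊗ₜ[R] n i) = 0 := by
    rw [map_sum]; exact h
  obtain ⟨Q, hPQ, hQ, ht'⟩ := TensorProduct.eq_zero_of_fg_of_subtype_eq_zero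
    (Submodule.fg_span (Set.finite_range m)) ht
  obtain ⟨k, s, hs⟩ := Submodule.fg_iff_exists_fin_generating_family.1 hQ
  refine ⟨k, s, ?_⟩
  let m₁ : ι ⊕ Fin k → Q := Sum.elim (fun i => Submodule.inclusion hPQ (m₀ i))
    (fun j => ⟨s j, hs ▸ Submodule.subset_span ⟨j, rfl⟩⟩)
  have hspan : Submodule.span R (Set.range m₁) = ⊤ := by
    apply Submodule.map_injective_of_injective Q.injective_subtype
    rw [Submodule.map_span, Submodule.map_top, Submodule.range_subtype]
    refine le_antisymm (Submodule.span_le.2 ?_) (hs.symm.le.trans (Submodule.span_mono ?_))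
    · rintro _ ⟨q, -, rfl⟩
      exact q.2
    · rintro _ ⟨j, rfl⟩
      exact ⟨m₁ (Sum.inr j), ⟨_, rfl⟩, rfl⟩
  have hzero : ∑ i, m₁ i ⊗ₜ[R] Sum.elim n (0 : Fin k → N) i = 0 := by
    rw [Fintype.sum_sum_type]
    simp only [Sum.elim_inl, Sum.elim_inr, Pi.zero_apply, TensorProduct.tmul_zero,
      Finset.sum_const_zero, add_zero, m₁]
    rw [map_sum] at ht'
    exact ht'
  obtain ⟨l, a, y, h1, h2⟩ := TensorProduct.vanishesTrivially_of_sum_tmul_eq_zero R hspan hzero
  refine ⟨l, a, y, h1, fun j => ?_⟩
  have := congrArg Q.subtype (h2 j)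
  rw [map_sum, map_zero] at this
  refine Eq.trans (Finset.sum_congr rfl fun i _ => ?_) this
  rcases i with i | i <;> rfl

variable {A : Type u} [CommRing A]

/-- The polynomial algebra over an algebra, in the category of algebras. -/
abbrev poly (B : Alg A) : Alg A := algOf A (Polynomial B)

/-- The constant polynomials. -/
abbrev Cp (B : Alg A) : B ⟶ poly B :=
  CommAlgCat.ofHom (IsScalarTower.toAlgHom A B (Polynomial B))

/-- The variable. -/
abbrev Xp (B : Alg A) : poly B := (Polynomial.X : Polynomial B)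

theorem Cp_apply (B : Alg A) (b : B) : (Cp B).hom b = (Polynomial.C b : Polynomial B) := rfl

/-- The coefficient of `X ^ k` on the values of an underlined module. -/
def cf (M : ModuleCat.{u + 1} A) {B : Alg A} (k : ℕ) : Val (uM M) (poly B) →+ Val (uM M) B :=
  ((uval M B).symm.toAddEquiv.toAddMonoidHom.comp
    (((Polynomial.lcoeff B k).restrictScalars A).rTensor M).toAddMonoidHom).comp
    (uval M (poly B)).toAddEquiv.toAddMonoidHom

theorem cf_pure (M : ModuleCat.{u + 1} A) {B : Alg A} (k : ℕ) (p : poly B) (m : M) :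
    cf M k (pure M p m) = pure M (Polynomial.coeff (p : Polynomial B) k) m :=
  rfl

theorem smul_pure (M : ModuleCat.{u + 1} A) {B : Alg A} (b c : B) (m : M) :
    b • pure M c m = pure M (b * c) m :=
  rfl

theorem pure_add_left (M : ModuleCat.{u + 1} A) {B : Alg A} (b c : B) (m : M) :
    pure M (b + c) m = pure M b m + pure M c m :=
  (congrArg (uval M B).symm (TensorProduct.add_tmul b c m)).trans (map_add _ _ _)

theorem pure_sum_left (M : ModuleCat.{u + 1} A) {B : Alg A} {σ : Type} (s : Finset σ) (b : σ → B)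
    (m : M) : pure M (∑ i ∈ s, b i) m = ∑ i ∈ s, pure M (b i) m :=
  (congrArg (uval M B).symm (TensorProduct.sum_tmul s b m)).trans (map_sum _ _ _)

theorem pure_sum_right (M : ModuleCat.{u + 1} A) {B : Alg A} {σ : Type} (s : Finset σ) (b : B)
    (m : σ → M) : pure M b (∑ i ∈ s, m i) = ∑ i ∈ s, pure M b (m i) :=
  (congrArg (uval M B).symm (TensorProduct.tmul_sum b s m)).trans (map_sum _ _ _)

@[simp] theorem pure_zero_left (M : ModuleCat.{u + 1} A) {B : Alg A} (m : M) :
    pure M (0 : B) m = 0 :=
  (congrArg (uval M B).symm (TensorProduct.zero_tmul _ m)).trans (map_zero _)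

@[simp] theorem pure_zero_right (M : ModuleCat.{u + 1} A) {B : Alg A} (b : B) :
    pure M b (0 : M) = 0 :=
  (congrArg (uval M B).symm (TensorProduct.tmul_zero _ b)).trans (map_zero _)

theorem pure_smul_left (M : ModuleCat.{u + 1} A) {B : Alg A} (a : A) (b : B) (m : M) :
    pure M (a • b) m = pure M b (a • m) :=
  congrArg (uval M B).symm (TensorProduct.smul_tmul a b m)

theorem cf_res_C (M : ModuleCat.{u + 1} A) {B : Alg A} (k : ℕ) (y : Val (uM M) B) :
    cf M k (res (uM M) (Cp B) y) = if k = 0 then y else 0 := by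
  induction y using pure_induction with
  | h0 => simp
  | hp b m =>
    rw [res_pure, cf_pure, Cp_apply, Polynomial.coeff_C]
    split <;> simp
  | ha x y hx hy =>
    rw [map_add, map_add, hx, hy]
    split <;> simp

theorem cf_pow_smul_res_C (M : ModuleCat.{u + 1} A) {B : Alg A} (k j : ℕ) (y : Val (uM M) B) :
    cf M k (((Xp B) ^ j) • res (uM M) (Cp B) y) = if k = j then y else 0 := by
  induction y using pure_induction with
  | h0 => simp
  | hp b m =>
    rw [res_pure, smul_pure, cf_pure, Cp_apply, mul_comm, Polynomial.coeff_C_mul_X_pow]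
    split <;> simp
  | ha x y hx hy =>
    rw [map_add, smul_add, map_add, hx, hy]
    split <;> simp

theorem cf_X_smul_res_C (M : ModuleCat.{u + 1} A) {B : Alg A} (y : Val (uM M) B) :
    cf M 1 (Xp B • res (uM M) (Cp B) y) = y := by
  simpa using cf_pow_smul_res_C M 1 1 y

theorem cf_ap {M N : ModuleCat.{u + 1} A} (g : M ⟶ N) {B : Alg A} (k : ℕ)
    (y : Val (uM M) (poly B)) : cf N k (ap (uMap g) (poly B) y) = ap (uMap g) B (cf M k y) := by
  induction y using pure_induction with
  | h0 => simp
  | hp b m => rw [ap_pure, cf_pure, cf_pure, ap_pure]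
  | ha x y hx hy => simp only [map_add, hx, hy]

theorem eq_sum_cf (M : ModuleCat.{u + 1} A) {B : Alg A} (y : Val (uM M) (poly B)) :
    ∃ n : ℕ, ∀ N, n ≤ N →
      y = ∑ k ∈ Finset.range N, ((Xp B) ^ k) • res (uM M) (Cp B) (cf M k y) := by
  induction y using pure_induction with
  | h0 => exact ⟨0, fun N _ => by simp⟩
  | hp p m =>
    refine ⟨(p : Polynomial B).natDegree + 1, fun N hN => ?_⟩
    have hp : (p : poly B) = ∑ k ∈ Finset.range N,
        (Xp B) ^ k * (Cp B).hom (Polynomial.coeff (p : Polynomial B) k) := by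
      refine (Polynomial.as_sum_range' (p : Polynomial B) N (by omega)).trans
        (Finset.sum_congr rfl fun k _ => ?_)
      rw [← Polynomial.C_mul_X_pow_eq_monomial, mul_comm]
      rfl
    refine (congrArg (fun w => pure M w m) hp).trans ((pure_sum_left M _ _ m).trans ?_)
    exact Finset.sum_congr rfl fun k _ => rfl
  | ha x y hx hy =>
    obtain ⟨n₁, h₁⟩ := hx
    obtain ⟨n₂, h₂⟩ := hy
    refine ⟨max n₁ n₂, fun N hN => ?_⟩
    conv_lhs => rw [h₁ N (le_of_max_le_left hN), h₂ N (le_of_max_le_right hN),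
      ← Finset.sum_add_distrib]
    simp only [map_add, smul_add]

end Groth.Agent.Adeq88
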