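import Groth.Agent.Adeq88.Flat
import Mathlib.Algebra.Polynomial.Laurent

/-!
Additive transformations commuting with units are linear, when the target commutes with flat base change.
-/

set_option autoImplicit false

universe u

open CategoryTheory Limits Opposite TensorProduct
open scoped ChangeOfRings LaurentPolynomial

noncomputable section

namespace Groth.Agent.Adeq88

open Adeq

variable {A : Type u} [CommRing A]

theorem bcT_bijective_of_isIso_bc {B C : Alg A} (f : B ⟶ C) [inst : Algebra B C]
    (hf : ∀ b, algebraMap B C b = f.hom b) {G : MVF A} (h : IsIso (G.bc f)) :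
    Function.Bijective (bcT f hf G) := by
  have halg : inst = f.hom.toRingHom.toAlgebra := Algebra.algebra_ext _ _ hf
  subst halg
  let : Algebra B C := f.hom.toRingHom.toAlgebra
  have e : ∀ z, (G.bc f) z = bcT f hf G z := by
    intro z
    induction z using TensorProduct.induction_on with
    | zero => exact (map_zero (G.bc f).hom).trans (map_zero (bcT f hf G)).symm
    | tmul c x => exact bc_tmul f G c x
    | add x y hx hy =>
      exact (map_add (G.bc f).hom x y).trans ((congrArg₂ (· + ·) hx hy).trans (map_add _ x y).symm)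
  have hb := (ConcreteCategory.isIso_iff_bijective _).1 h
  have he : (fun z => (G.bc f) z) = fun z => bcT f hf G z := funext e
  show Function.Bijective fun z => bcT f hf G z
  rw [← he]
  exact hb

theorem res_laurent_injective (G : MVF A)
    (hG : ∀ ⦃B B' : Alg A⦄ (f : B ⟶ B'), f.hom.toRingHom.Flat → IsIso (G.bc f)) (B : Alg A) :
    Function.Injective (res G (CommAlgCat.ofHom
      ((Polynomial.toLaurentAlg (R := (B : Type u))).restrictScalars A) :
        poly B ⟶ algOf A (LaurentPolynomial B))) := by
  let P : Alg A := poly B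
  let Lr : Alg A := algOf A (LaurentPolynomial B)
  let i : P ⟶ Lr := CommAlgCat.ofHom
    ((Polynomial.toLaurentAlg (R := (B : Type u))).restrictScalars A)
  let g : B ⟶ Lr := Cp B ≫ i
  let : Algebra B P := inferInstanceAs (Algebra B (Polynomial B))
  let : Algebra B Lr := inferInstanceAs (Algebra B (LaurentPolynomial B))
  have hP : ∀ b, algebraMap B P b = (Cp B).hom b := fun b => rfl
  have hL : ∀ b, algebraMap B Lr b = g.hom b := fun b =>
    (Polynomial.toLaurent_C b).symm
  have hflatP : (Cp B).hom.toRingHom.Flat :=
    (RingHom.flat_algebraMap_iff (R := B) (S := Polynomial B)).2 inferInstance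
  have hflatL : g.hom.toRingHom.Flat := by
    have : g.hom.toRingHom = algebraMap B (LaurentPolynomial B) := RingHom.ext fun b => (hL b).symm
    rw [this]
    exact (RingHom.flat_algebraMap_iff (R := B) (S := LaurentPolynomial B)).2 inferInstance
  have bP := bcT_bijective_of_isIso_bc (Cp B) hP (hG _ hflatP)
  have bL := bcT_bijective_of_isIso_bc g hL (hG _ hflatL)
  let il : (P : Type u) →ₗ[B] Lr := (Polynomial.toLaurentAlg (R := (B : Type u))).toLinearMap
  let tr : (Lr : Type u) →ₗ[B] P :=
    { toFun := LaurentPolynomial.trunc (R := (B : Type u))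
      map_add' := map_add _
      map_smul' := fun b x => by
        show LaurentPolynomial.trunc (b • x : LaurentPolynomial B) =
          (b • LaurentPolynomial.trunc x : Polynomial B)
        induction (show LaurentPolynomial B from x) using LaurentPolynomial.induction_on' with
        | add p q hp hq => rw [smul_add, map_add, map_add, smul_add, hp, hq]
        | C_mul_T n a =>
          rw [LaurentPolynomial.smul_eq_C_mul, ← mul_assoc, ← map_mul,
            LaurentPolynomial.trunc_C_mul_T, LaurentPolynomial.trunc_C_mul_T]
          split_ifs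
          · rw [Polynomial.smul_monomial, smul_eq_mul]
          · rw [smul_zero] }
  have htr : tr.comp il = LinearMap.id := LinearMap.ext fun p =>
    LaurentPolynomial.leftInverse_trunc_toLaurent (R := (B : Type u)) p
  have hsq : ∀ z, res G i (bcT (Cp B) hP G z) = bcT g hL G (il.rTensor _ z) := by
    intro z
    induction z using TensorProduct.induction_on with
    | zero => simp
    | tmul c x =>
      rw [bcT_tmul, LinearMap.rTensor_tmul, bcT_tmul, res_smul, ← res_comp]
      rfl
    | add x y hx hy => simp only [map_add, hx, hy]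
  intro x y hxy
  obtain ⟨zx, rfl⟩ := bP.2 x
  obtain ⟨zy, rfl⟩ := bP.2 y
  have h := bL.1 ((hsq zx).symm.trans (hxy.trans (hsq zy)))
  have h' := congrArg (tr.rTensor _) h
  rw [← LinearMap.rTensor_comp_apply, ← LinearMap.rTensor_comp_apply, htr, LinearMap.rTensor_id] at h'
  exact congrArg _ h'

theorem smul_comm_of_units (F G : MVF A)
    (φ : ∀ B : Alg A, Val F B → Val G B)
    (hnat : ∀ ⦃B B' : Alg A⦄ (f : B ⟶ B') (x : Val F B), φ B' (res F f x) = res G f (φ B x))
    (hunit : ∀ (B : Alg A) (v : (B : Type u)ˣ) (x : Val F B), φ B ((v : B) • x) = (v : B) • φ B x)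
    (hG : ∀ ⦃B B' : Alg A⦄ (f : B ⟶ B'), f.hom.toRingHom.Flat → IsIso (G.bc f))
    (B : Alg A) (b : B) (x : Val F B) : φ B (b • x) = b • φ B x := by
  let Lr : Alg A := algOf A (LaurentPolynomial B)
  let i : poly B ⟶ Lr := CommAlgCat.ofHom
    ((Polynomial.toLaurentAlg (R := (B : Type u))).restrictScalars A)
  have hX : i.hom (Xp B) = (LaurentPolynomial.T 1 : LaurentPolynomial B) := Polynomial.toLaurent_X
  have hu : IsUnit (i.hom (Xp B)) := hX ▸ LaurentPolynomial.isUnit_T 1
  have key : φ (poly B) (Xp B • res F (Cp B) x) = Xp B • res G (Cp B) (φ B x) := by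
    apply res_laurent_injective G hG B
    show res G i _ = res G i _
    rw [← hnat i, res_smul, res_smul, ← res_comp, ← res_comp, ← hnat]
    obtain ⟨v, hv⟩ := hu
    rw [← hv]
    exact hunit Lr v _
  let θ : poly B ⟶ B := CommAlgCat.ofHom
    ((Polynomial.aeval (R := (B : Type u)) b).restrictScalars A)
  have hθC : Cp B ≫ θ = 𝟙 B := CommAlgCat.hom_ext (AlgHom.ext fun c => Polynomial.aeval_C _ c)
  have hθX : θ.hom (Xp B) = b := Polynomial.aeval_X b
  have := congrArg (res G θ) key
  rwa [← hnat θ, res_smul, res_smul, hθX, ← res_comp, ← res_comp, hθC, res_id, res_id] at this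

end Groth.Agent.Adeq88
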