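import Groth.Agent.Adeq88.Tensor
import Mathlib.RingTheory.Ideal.Quotient.Operations
import Mathlib.RingTheory.TensorProduct.Free
import Mathlib.LinearAlgebra.Basis.Basic
import Mathlib.LinearAlgebra.Dimension.Free
import Mathlib.RingTheory.Adjoin.Basic
import Mathlib.LinearAlgebra.Dimension.Finite
import Mathlib.RingTheory.OrzechProperty
import Mathlib.LinearAlgebra.Charpoly.Basic

/-!
The universal element of a linearly adequate functor and its consequences.
-/

set_option autoImplicit false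

universe u

open CategoryTheory Limits Opposite TensorProduct

noncomputable section

namespace Groth.Agent.Adeq88

open Adeq

variable {A : Type u} [CommRing A]

/-- A presentation by finite free modules with chosen bases. -/
structure LinPres (L : MVF A) extends Pres L where
  /-- The rank of the ambient module. -/
  n : ℕ
  /-- The rank of the target. -/
  r : ℕ
  /-- A basis of the ambient module. -/
  bM : Module.Basis (Fin n) A M
  /-- A basis of the target. -/
  bN : Module.Basis (Fin r) A N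

theorem linAdequate_of_linPres {L : MVF A} (p : LinPres L) : linAdequate A L := by
  let c : L ⟶ kernel (uMap p.φ) := kernel.lift _ p.ι p.toPres.comp_eq
  have hv : ∀ B x, ap (kernel.ι (uMap p.φ)) B (ap c B x) = ap p.ι B x := fun B x => by
    rw [← ap_comp, kernel.lift_ι]
  have : IsIso c := isIso_of_bijective c fun B => ⟨fun x y h => p.inj B (by
      rw [← hv, ← hv, h]), fun y => by
      obtain ⟨x, hx⟩ := p.exact B _ (kernel_ι_comp _ B y)
      exact ⟨x, kernel_ι_inj _ B ((hv B x).trans hx)⟩⟩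
  exact ⟨p.M, p.N, p.φ, Module.Finite.of_basis p.bM, Module.Free.of_basis p.bM,
    Module.Finite.of_basis p.bN, Module.Free.of_basis p.bN, ⟨asIso c⟩⟩

/-- The presentation of a kernel between finite free modules. -/
def LinPres.ofKernel {M N : ModuleCat.{u + 1} A} (φ : M ⟶ N) {n r : ℕ}
    (bM : Module.Basis (Fin n) A M) (bN : Module.Basis (Fin r) A N) :
    LinPres (kernel (uMap φ)) :=
  { Pres.ofKernel φ with n := n, r := r, bM := bM, bN := bN }

theorem nonempty_linPres_of_finite_free {M N : ModuleCat.{u + 1} A} (φ : M ⟶ N)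
    [Module.Finite A M] [Module.Free A M] [Module.Finite A N] [Module.Free A N] :
    Nonempty (LinPres (kernel (uMap φ))) := by
  classical
  rcases subsingleton_or_nontrivial A with hA | hA
  · have := Module.subsingleton A M
    have := Module.subsingleton A N
    exact ⟨LinPres.ofKernel φ (Module.Basis.empty M (ι := Fin 0)) (Module.Basis.empty N (ι := Fin 0))⟩
  · exact ⟨LinPres.ofKernel φ (Module.finBasis A M) (Module.finBasis A N)⟩

theorem linAdequate_iff {L : MVF A} : linAdequate A L ↔ Nonempty (LinPres L) := by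
  refine ⟨?_, fun ⟨p⟩ => linAdequate_of_linPres p⟩
  rintro ⟨M, N, φ, h1, h2, h3, h4, ⟨e⟩⟩
  obtain ⟨p⟩ := nonempty_linPres_of_finite_free φ
  exact ⟨{ p.toPres.ofIso e with n := p.n, r := p.r, bM := p.bM, bN := p.bN }⟩

theorem LinPres.adequate {L : MVF A} (p : LinPres L) : Adeq.adequate A L :=
  adequate_of_pres p.toPres

namespace LinPres

variable {L : MVF A} (p : LinPres L)

/-- The matrix entries. -/
def mat (k : Fin p.r) (i : Fin p.n) : A := p.bN.repr (p.φ.hom (p.bM i)) k

/-- Coordinates in the ambient module. -/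
def co {B : Alg A} (x : Val (uM p.M) B) (i : Fin p.n) : B :=
  (Algebra.TensorProduct.basis B p.bM).repr (uval p.M B x) i

/-- An element with given coordinates. -/
def ofCo {B : Alg A} (c : Fin p.n → B) : Val (uM p.M) B := ∑ i, pure p.M (c i) (p.bM i)

theorem ofCo_co {B : Alg A} (x : Val (uM p.M) B) : p.ofCo (p.co x) = x := by
  apply (uval p.M B).injective
  rw [ofCo, map_sum]
  refine Eq.trans (Finset.sum_congr rfl fun i _ => ?_)
    ((Algebra.TensorProduct.basis B p.bM).sum_repr (uval p.M B x))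
  rw [uval_pure, Algebra.TensorProduct.basis_apply, TensorProduct.smul_tmul', smul_eq_mul, mul_one]
  rfl

theorem co_ofCo {B : Alg A} (c : Fin p.n → B) : p.co (p.ofCo c) = c := by
  funext i
  have : uval p.M B (p.ofCo c) = ∑ j, c j • (Algebra.TensorProduct.basis B p.bM) j := by
    rw [ofCo, map_sum]
    refine Finset.sum_congr rfl fun j _ => ?_
    rw [uval_pure, Algebra.TensorProduct.basis_apply, TensorProduct.smul_tmul', smul_eq_mul, mul_one]
  rw [co, this, Module.Basis.repr_sum_self]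

theorem res_ofCo {B C : Alg A} (f : B ⟶ C) (c : Fin p.n → B) :
    res (uM p.M) f (p.ofCo c) = p.ofCo (fun i => f.hom (c i)) := by
  simp only [ofCo, map_sum, res_pure]

theorem smul_ofCo {B : Alg A} (b : B) (c : Fin p.n → B) :
    b • p.ofCo c = p.ofCo (fun i => b * c i) := by
  simp only [ofCo, Finset.smul_sum, smul_pure]

theorem add_ofCo {B : Alg A} (c d : Fin p.n → B) :
    p.ofCo c + p.ofCo d = p.ofCo (fun i => c i + d i) := by
  simp only [ofCo, pure_add_left, Finset.sum_add_distrib]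

theorem ap_φ_ofCo {B : Alg A} (c : Fin p.n → B) :
    ap (uMap p.φ) B (p.ofCo c) = ∑ k, pure p.N (∑ i, p.mat k i • c i) (p.bN k) := by
  simp only [ofCo, map_sum, ap_pure, pure_sum_left]
  rw [Finset.sum_comm]
  refine Finset.sum_congr rfl fun i _ => ?_
  conv_lhs => rw [← p.bN.sum_repr (p.φ.hom (p.bM i)), pure_sum_right]
  exact Finset.sum_congr rfl fun k _ => (pure_smul_left _ _ _ _).symm

theorem rel_iff {B : Alg A} (c : Fin p.n → B) :
    ap (uMap p.φ) B (p.ofCo c) = 0 ↔ ∀ k, ∑ i, p.mat k i • c i = 0 := by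
  rw [p.ap_φ_ofCo]
  refine ⟨fun h k => ?_, fun h => ?_⟩
  · have h' := congrArg (fun z => (Algebra.TensorProduct.basis B p.bN).repr (uval p.N B z) k) h
    simp only [map_sum, map_zero, uval_pure, Finsupp.zero_apply] at h'
    refine Eq.trans ?_ h'
    rw [Finsupp.finsetSum_apply, Finset.sum_eq_single k]
    · simp
    · intro j _ hj
      simp [Finsupp.single_eq_of_ne hj.symm]
    · simp
  · simp [h]

/-- The relation polynomials. -/
def relPoly (k : Fin p.r) : MvPolynomial (Fin p.n) A := ∑ i, p.mat k i • MvPolynomial.X i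

/-- The universal algebra of a linearly adequate functor. -/
def U : Alg A := algOf A (MvPolynomial (Fin p.n) A ⧸ Ideal.span (Set.range p.relPoly))

/-- The generators of the universal algebra. -/
def xg (i : Fin p.n) : p.U :=
  Ideal.Quotient.mkₐ A (Ideal.span (Set.range p.relPoly)) (MvPolynomial.X i)

theorem rel_xg (k : Fin p.r) : ∑ i, p.mat k i • p.xg i = 0 := by
  show ∑ i, p.mat k i • Ideal.Quotient.mkₐ A (Ideal.span (Set.range p.relPoly)) (MvPolynomial.X i) = 0
  simp only [← map_smul, ← map_sum]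
  exact Ideal.Quotient.eq_zero_iff_mem.2 (Ideal.subset_span ⟨k, rfl⟩)

/-- The map out of the universal algebra given by coordinates satisfying the relations. -/
def lift {C : Alg A} (c : Fin p.n → C) (h : ∀ k, ∑ i, p.mat k i • c i = 0) : p.U ⟶ C :=
  CommAlgCat.ofHom (Ideal.Quotient.liftₐ _ (MvPolynomial.aeval c) (by
    intro x hx
    refine RingHom.mem_ker.1 ((Ideal.span_le (I := RingHom.ker (MvPolynomial.aeval c).toRingHom)).2
      ?_ hx)
    rintro _ ⟨k, rfl⟩
    refine RingHom.mem_ker.2 ?_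
    show MvPolynomial.aeval c (p.relPoly k) = 0
    simp only [relPoly, map_sum, map_smul, MvPolynomial.aeval_X]
    exact h k))

@[simp] theorem lift_xg {C : Alg A} (c : Fin p.n → C) (h : ∀ k, ∑ i, p.mat k i • c i = 0)
    (i : Fin p.n) : (p.lift c h).hom (p.xg i) = c i :=
  MvPolynomial.aeval_X c i

theorem hom_ext_U {C : Alg A} {f g : p.U ⟶ C} (h : ∀ i, f.hom (p.xg i) = g.hom (p.xg i)) :
    f = g := by
  apply CommAlgCat.hom_ext
  apply Ideal.Quotient.algHom_ext
  apply MvPolynomial.algHom_ext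
  exact h

/-- The universal element in the ambient module. -/
def ξ₀ : Val (uM p.M) p.U := p.ofCo p.xg

/-- The universal element. -/
def ξ : Val L p.U :=
  (p.exact p.U p.ξ₀ ((p.rel_iff p.xg).2 p.rel_xg)).choose

theorem ι_ξ : ap p.ι p.U p.ξ = p.ξ₀ :=
  (p.exact p.U p.ξ₀ ((p.rel_iff p.xg).2 p.rel_xg)).choose_spec

/-- The classifying map of an element. -/
def ev {C : Alg A} (y : Val L C) : p.U ⟶ C :=
  p.lift (p.co (ap p.ι C y)) ((p.rel_iff _).1 (by rw [p.ofCo_co]; exact p.comp C y))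

theorem ev_xg {C : Alg A} (y : Val L C) (i : Fin p.n) :
    (p.ev y).hom (p.xg i) = p.co (ap p.ι C y) i :=
  p.lift_xg _ _ i

theorem ι_res_ξ {C : Alg A} (f : p.U ⟶ C) :
    ap p.ι C (res L f p.ξ) = p.ofCo (fun i => f.hom (p.xg i)) := by
  rw [ap_res, p.ι_ξ, ξ₀, res_ofCo]

theorem res_ev {C : Alg A} (y : Val L C) : res L (p.ev y) p.ξ = y := by
  apply p.inj C
  rw [p.ι_res_ξ]
  simp only [p.ev_xg]
  exact p.ofCo_co _

theorem ev_res_ξ {C : Alg A} (f : p.U ⟶ C) : p.ev (res L f p.ξ) = f :=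
  p.hom_ext_U fun i => by rw [p.ev_xg, p.ι_res_ξ, p.co_ofCo]

theorem ev_natural {C D : Alg A} (f : C ⟶ D) (y : Val L C) : p.ev (res L f y) = p.ev y ≫ f := by
  have := p.ev_res_ξ (p.ev y ≫ f)
  rwa [res_comp, p.res_ev] at this

theorem hom_ext' {G : MVF A} {φ ψ : L ⟶ G} (h : ap φ p.U p.ξ = ap ψ p.U p.ξ) : φ = ψ :=
  hom_ext fun C y => by rw [← p.res_ev y, ap_res, ap_res, h]

/-- The homothety `x ↦ t x` into the polynomial algebra. -/
def σ : p.U ⟶ poly p.U :=
  p.lift (fun i => Xp p.U * (Cp p.U).hom (p.xg i)) fun k => by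
    simp only [← mul_smul_comm, ← map_smul, ← Finset.mul_sum, ← map_sum, p.rel_xg, map_zero,
      mul_zero]

theorem σ_xg (i : Fin p.n) : p.σ.hom (p.xg i) = Xp p.U * (Cp p.U).hom (p.xg i) :=
  p.lift_xg _ _ i

/-- An element over the universal algebra which is homogeneous of degree one. -/
def Homog {G : MVF A} (η : Val G p.U) : Prop :=
  res G p.σ η = Xp p.U • res G (Cp p.U) η

theorem homog_ξ : p.Homog p.ξ := by
  apply p.inj (poly p.U)
  rw [p.ι_res_ξ, map_smul, p.ι_res_ξ, smul_ofCo]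
  simp only [p.σ_xg]

theorem Homog.map {G H : MVF A} {η : Val G p.U} (hη : p.Homog η) (h : G ⟶ H) :
    p.Homog (ap h p.U η) := by
  show res H p.σ _ = _
  rw [← ap_res, hη, map_smul, ap_res]

theorem cf_one_of_homog {M : ModuleCat.{u + 1} A} {z : Val (uM M) p.U} (hz : p.Homog z) :
    cf M 1 (res (uM M) p.σ z) = z := by
  rw [hz, cf_X_smul_res_C]

theorem coeff_one_mem_span (u : p.U) :
    Polynomial.coeff (p.σ.hom u : Polynomial p.U) 0 ∈ Set.range (algebraMap A p.U) ∧
      Polynomial.coeff (p.σ.hom u : Polynomial p.U) 1 ∈ Submodule.span A (Set.range p.xg) := by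
  obtain ⟨q, rfl⟩ : ∃ q, Ideal.Quotient.mkₐ A (Ideal.span (Set.range p.relPoly)) q = u :=
    Ideal.Quotient.mkₐ_surjective A _ u
  induction q using MvPolynomial.induction_on with
  | C a =>
    have : p.σ.hom (Ideal.Quotient.mkₐ A (Ideal.span (Set.range p.relPoly)) (MvPolynomial.C a))
        = algebraMap A (Polynomial p.U) a := by
      rw [← MvPolynomial.algebraMap_eq, AlgHom.commutes]
      exact p.σ.hom.commutes a
    rw [this, Polynomial.algebraMap_apply]
    refine ⟨⟨a, by simp⟩, ?_⟩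
    simp [Polynomial.coeff_C]
  | add q q' hq hq' =>
    rw [map_add]
    obtain ⟨⟨a, ha⟩, h1⟩ := hq
    obtain ⟨⟨a', ha'⟩, h1'⟩ := hq'
    have hadd : p.σ.hom (Ideal.Quotient.mkₐ A (Ideal.span (Set.range p.relPoly)) q +
        Ideal.Quotient.mkₐ A (Ideal.span (Set.range p.relPoly)) q') =
        p.σ.hom (Ideal.Quotient.mkₐ A (Ideal.span (Set.range p.relPoly)) q) +
          p.σ.hom (Ideal.Quotient.mkₐ A (Ideal.span (Set.range p.relPoly)) q') := map_add _ _ _
    erw [hadd]
    exact ⟨⟨a + a', by rw [map_add, ha, ha']; exact (Polynomial.coeff_add _ _ _).symm⟩,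
      (Polynomial.coeff_add (p.σ.hom _ : Polynomial p.U) _ 1).symm ▸ add_mem h1 h1'⟩
  | mul_X q i hq =>
    obtain ⟨⟨a, ha⟩, -⟩ := hq
    have hmul : p.σ.hom (Ideal.Quotient.mkₐ A (Ideal.span (Set.range p.relPoly)) (q * MvPolynomial.X i)) =
        p.σ.hom (Ideal.Quotient.mkₐ A (Ideal.span (Set.range p.relPoly)) q) *
          (Xp p.U * (Cp p.U).hom (p.xg i)) :=
      ((congrArg p.σ.hom (map_mul _ _ _)).trans (map_mul _ _ _)).trans
        (congrArg (_ * ·) (p.σ_xg i))
    rw [hmul, Cp_apply]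
    refine ⟨⟨0, ?_⟩, ?_⟩
    · rw [Polynomial.mul_coeff_zero]; simp
    · rw [← mul_assoc, Polynomial.coeff_mul_C, Polynomial.coeff_mul_X, ← ha, ← Algebra.smul_def]
      exact Submodule.smul_mem _ _ (Submodule.subset_span ⟨i, rfl⟩)

theorem exists_deg_one (M : ModuleCat.{u + 1} A) (z : Val (uM M) p.U) :
    ∃ m : Fin p.n → M, cf M 1 (res (uM M) p.σ z) = ∑ i, pure M (p.xg i) (m i) := by
  induction z using pure_induction with
  | h0 => exact ⟨0, by simp⟩
  | hp u m =>
    obtain ⟨c, hc⟩ := (Submodule.mem_span_range_iff_exists_fun A).1 (p.coeff_one_mem_span u).2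
    refine ⟨fun i => c i • m, ?_⟩
    rw [res_pure, cf_pure, ← hc, pure_sum_left]
    exact Finset.sum_congr rfl fun i _ => pure_smul_left _ _ _ _
  | ha x y hx hy =>
    obtain ⟨m, hm⟩ := hx
    obtain ⟨m', hm'⟩ := hy
    refine ⟨m + m', ?_⟩
    rw [map_add, map_add, hm, hm', ← Finset.sum_add_distrib]
    refine Finset.sum_congr rfl fun i _ => ?_
    exact ((congrArg (uval M p.U).symm (TensorProduct.tmul_add (p.xg i) (m i) (m' i))).trans
      (map_add _ _ _)).symm

theorem homog_deg_one (M : ModuleCat.{u + 1} A) (z : Val (uM M) p.U) :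
    p.Homog (cf M 1 (res (uM M) p.σ z)) := by
  obtain ⟨m, hm⟩ := p.exists_deg_one M z
  show res _ _ _ = _
  simp only [hm, map_sum, res_pure, Finset.smul_sum, p.σ_xg]
  exact Finset.sum_congr rfl fun i _ => (smul_pure _ _ _ _).symm

theorem exists_hom_uM {M : ModuleCat.{u + 1} A} {z : Val (uM M) p.U} (hz : p.Homog z) :
    ∃ g : p.M ⟶ M, ap (p.ι ≫ uMap g) p.U p.ξ = z := by
  obtain ⟨m, hm⟩ := p.exists_deg_one M z
  rw [p.cf_one_of_homog hz] at hm
  refine ⟨ModuleCat.ofHom (p.bM.constr A m), ?_⟩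
  rw [ap_comp, p.ι_ξ, ξ₀, ofCo, map_sum, hm]
  simp only [ap_pure, ModuleCat.hom_ofHom, Module.Basis.constr_basis]

theorem exists_extend {M : ModuleCat.{u + 1} A} (φ : L ⟶ uM M) :
    ∃ g : p.M ⟶ M, p.ι ≫ uMap g = φ := by
  obtain ⟨g, hg⟩ := p.exists_hom_uM (p.homog_ξ.map p φ)
  exact ⟨g, p.hom_ext' hg⟩

theorem exists_hom_adequate {G : MVF A} (q : Pres G) {η : Val G p.U}
    (hη : p.Homog (ap q.ι p.U η)) : ∃ h : L ⟶ G, ap h p.U p.ξ = η := by
  obtain ⟨g, hg⟩ := p.exists_hom_uM hη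
  have hz : p.ι ≫ uMap g ≫ uMap q.φ = 0 := by
    apply p.hom_ext'
    rw [← Category.assoc, ap_comp, hg, q.comp, ap_zero]
  obtain ⟨h, hh⟩ := q.exists_lift (p.ι ≫ uMap g) fun B x => by
    rw [← ap_comp, Category.assoc, hz, ap_zero]
  refine ⟨h, q.inj _ ?_⟩
  rw [← hg, ← hh, ap_comp]

theorem exists_deg_one_lift {G : MVF A} (q : Pres G) (η : Val G p.U) :
    ∃ η₁ : Val G p.U, ap q.ι p.U η₁ = cf q.M 1 (res (uM q.M) p.σ (ap q.ι p.U η)) := by
  refine q.exact _ _ ?_
  rw [← cf_ap, ← ap_res q.ι, q.comp, map_zero]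

include p in
theorem exists_lift_of_epi {S Q : MVF A} (s : Pres S) (q : Pres Q) (π : S ⟶ Q)
    (hπ : ∀ B, Function.Surjective (ap π B)) (h : L ⟶ Q) : ∃ h' : L ⟶ S, h' ≫ π = h := by
  obtain ⟨η, hη⟩ := hπ p.U (ap h p.U p.ξ)
  let z : Val (uM s.M) (poly p.U) := res (uM s.M) p.σ (ap s.ι p.U η)
  obtain ⟨n, hn⟩ := eq_sum_cf s.M z
  let N := n + 2
  have hy : ∀ k, ∃ y, ap s.ι p.U y = cf s.M k z := fun k => s.exact _ _ (by
    rw [← cf_ap, show z = ap s.ι (poly p.U) (res S p.σ η) from (ap_res _ _ _).symm, s.comp, map_zero])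
  choose y hy using hy
  have hsum : (res S p.σ η : Val S (poly p.U)) = ∑ k ∈ Finset.range N, ((Xp p.U) ^ k) • res S (Cp p.U) (y k) := by
    apply s.inj
    rw [ap_res, map_sum]
    refine (hn N (by omega)).trans (Finset.sum_congr rfl fun k _ => ?_)
    rw [← hy k, ← ap_res]
    exact ((ap s.ι (poly p.U)).map_smul _ _).symm
  have hhom : p.Homog (ap s.ι p.U (y 1)) := by
    rw [hy 1]
    exact p.homog_deg_one s.M _
  have h1 : ap π p.U (y 1) = ap h p.U p.ξ := by
    apply q.inj
    have e := congrArg (fun w => cf q.M 1 (ap q.ι (poly p.U) (ap π (poly p.U) w))) hsum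
    have hl : cf q.M 1 (ap q.ι (poly p.U) (ap π (poly p.U) (res S p.σ η))) =
        ap q.ι p.U (ap h p.U p.ξ) := by
      rw [ap_res, hη, ap_res, p.cf_one_of_homog ((p.homog_ξ.map p h).map p q.ι)]
    have hr : ∀ k, cf q.M 1 (ap q.ι (poly p.U) (ap π (poly p.U)
        (((Xp p.U) ^ k) • res S (Cp p.U) (y k)))) =
        if 1 = k then ap q.ι p.U (ap π p.U (y k)) else 0 := fun k => by
      rw [← cf_pow_smul_res_C q.M 1 k, ← ap_res, ← ap_res]
      exact congrArg (cf q.M 1) ((congrArg _ ((ap π (poly p.U)).map_smul _ _)).trans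
        ((ap q.ι (poly p.U)).map_smul _ _))
    simp only [map_sum, hl] at e
    rw [Finset.sum_congr rfl fun k _ => hr k, Finset.sum_ite_eq,
      if_pos (Finset.mem_range.2 (by omega))] at e
    exact e.symm
  obtain ⟨h', hh'⟩ := p.exists_hom_adequate s hhom
  exact ⟨h', p.hom_ext' (by rw [ap_comp, hh', h1])⟩

end LinPres

end Groth.Agent.Adeq88
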