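import Groth.Agent.Adeq88.AffineSect
import Groth.Agent.Unr55.Et.GaZariski

/-!
Cohomology of adequate modules on a big site is Zariski cohomology.
-/

set_option autoImplicit false
set_option maxHeartbeats 1000000
set_option linter.style.haveILetI false
set_option backward.isDefEq.respectTransparency false
set_option backward.isDefEq.respectTransparency.types false

universe u

open CategoryTheory Limits Opposite AlgebraicGeometry TopologicalSpace

noncomputable section

namespace Groth.Agent.Adeq88

open Adeq Groth.Agent.Unr55

variable {P : MorphismProperty Scheme.{u}} (hP : GoodProp P) [BigSite.OSh (Scheme.precoverage P)]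
  [IsZariskiLocalAtSource P] {S : Scheme.{u}} [BigSite.ZarCont (Scheme.precoverage P) S]

/-- Čech acyclicity on affine objects. -/
abbrev GoodAb (F : BigSite.Ab (Scheme.precoverage P) S) : Prop :=
  CechCartan.Acyclic.{u + 1, u, u + 1} {V : Over S | IsAffine V.left} (AffCov P) F

include hP in
omit [BigSite.OSh (Scheme.precoverage P)] in
theorem shortExact_resZar_good [BigSite.OSh (Scheme.precoverage P)]
    (C : ShortComplex (BigSite.Ab (Scheme.precoverage P) S)) (hC : C.ShortExact)
    (h : GoodAb C.X₁) : (C.map (BigSite.resZar (Scheme.precoverage P) S)).ShortExact := by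
  have : Sheaf.IsLocallySurjective (C.map (BigSite.resZar (Scheme.precoverage P) S)).g := by
    constructor
    intro U s x hx
    obtain ⟨V, hV, hxV, hVU⟩ := exists_isAffineOpen_mem_and_subset (X := S) (x := x) (U := U) hx
    obtain ⟨t, ht⟩ := CechCartan.surjective_sections.{u + 1, u, u + 1} {V : Over S | IsAffine V.left} (AffCov P)
      (fun V hV _ _ g _ s => haveI : IsAffine V.left := hV; exists_affCov_lift hP g V s)
      hC h ((BigSite.zarIncl S).obj V) hV (C.X₃.obj.map ((BigSite.zarIncl S).map (homOfLE hVU)).op s)
    exact ⟨V, homOfLE hVU, ⟨t, ht⟩, hxV⟩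
  exact ZarCmp.shortExact_of_sections _
    (fun V => (CechFl.exists_sections_preimage C hC ((BigSite.zarIncl S).obj V) 0 (map_zero _)).1)
    (fun V y hy => (CechFl.exists_sections_preimage C hC ((BigSite.zarIncl S).obj V) y hy).2)

omit [BigSite.OSh (Scheme.precoverage P)] [IsZariskiLocalAtSource P] in
theorem isFlasque_resZar_big (I : BigSite.Ab (Scheme.precoverage P) S) [Injective I] :
    TopCat.Sheaf.IsFlasque (X := S.toTopCat) ((BigSite.resZar (Scheme.precoverage P) S).obj I) where
  epi {U V} i := by
    have := CechInjU.injective_presheaf.{u + 1, u + 1, u} I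
    have : Mono ((BigSite.zarIncl S).map i.unop) := by
      have : Mono ((BigSite.zarIncl S).map i.unop).left :=
        inferInstanceAs (Mono (S.homOfLE i.unop.le))
      exact ⟨fun a b h => Over.OverMorphism.ext
        ((cancel_mono ((BigSite.zarIncl S).map i.unop).left).1 (congrArg (fun m => m.left) h))⟩
    rw [AddCommGrpCat.epi_iff_surjective]
    exact ZarCmp.injective_map_surjective.{u + 1, u + 1, u} I.obj ((BigSite.zarIncl S).map i.unop)

/-- The object of the whole space is final. -/
def zarInclTopTerminal : IsTerminal ((BigSite.zarIncl S).obj ⊤) :=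
  Over.mkIdTerminal.ofIso (Over.isoMk S.topIso.symm (S.toIso_inv_ι))

omit [BigSite.OSh (Scheme.precoverage P)] [IsZariskiLocalAtSource P] in
instance resZar_preservesZero : (BigSite.resZar (Scheme.precoverage P) S).PreservesZeroMorphisms := ⟨fun _ _ => rfl⟩

include hP in
theorem H_equiv_resZar_adequate (M : BigSite.Mod (Scheme.precoverage P) S)
    (hM : adequateMod (Scheme.precoverage P) S M) (q : ℕ) :
    Nonempty (BigSite.HMod (Scheme.precoverage P) S M q ≃+
      EtZar.H ((BigSite.resZar (Scheme.precoverage P) S).obj
        ((BigSite.toAbMod (Scheme.precoverage P) S).obj M)) q) :=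
  ExtCmp.compare (BigSite.resZar (Scheme.precoverage P) S) _ _ GoodAb
    (fun C hC _ h => shortExact_resZar_good hP C hC h)
    (fun C hC hI h => @CechCartan.acyclic_cokernel.{u + 1, u, u + 1} _ _ _ _ _ _
      {V : Over S | IsAffine V.left} (AffCov P)
      (fun V hV Y hY n a => affCov_prod V hV Y hY n a)
      (fun V hV _ _ g _ s => haveI : IsAffine V.left := hV; exists_affCov_lift hP g V s) C hC hI h)
    (fun I hI n => ZarCmp.subsingleton_H_of_flasque S _ (@isFlasque_resZar_big P S _ I hI) n)
    (fun G => (ExtCmp.homTop (zarInclTopTerminal (S := S)) G).trans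
      (ExtCmp.homTop (ZarCmp.topTerminal S) ((BigSite.resZar (Scheme.precoverage P) S).obj G)).symm)
    (fun {G G'} g c => (ExtCmp.homTop (ZarCmp.topTerminal S)
      ((BigSite.resZar (Scheme.precoverage P) S).obj G')).injective (by
      refine ((ExtCmp.homTop (ZarCmp.topTerminal S)
        ((BigSite.resZar (Scheme.precoverage P) S).obj G')).apply_symm_apply _).trans ?_
      refine Eq.trans ?_ (ExtCmp.homTop_comp (ZarCmp.topTerminal S)
        ((BigSite.resZar (Scheme.precoverage P) S).map g) _).symm
      refine Eq.trans ?_ (congrArg (((BigSite.resZar (Scheme.precoverage P) S).map g).hom.app (op ⊤))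
        ((ExtCmp.homTop (ZarCmp.topTerminal S)
          ((BigSite.resZar (Scheme.precoverage P) S).obj G)).apply_symm_apply _)).symm
      exact ExtCmp.homTop_comp (zarInclTopTerminal (S := S)) g c))
    q _ (acyclic_adequate hP M hM)

end Groth.Agent.Adeq88
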